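import Cfsg.Agent.Lib.Block.CyclicDefect.IdemValue
import Cfsg.Agent.Lib.Block.Nilpotent
import Cfsg.Agent.Lib.Char.DefectZero
import Cfsg.Agent.Lib.Char.NilMonomial
import Cfsg.Agent.Lib.Char.Brauer
import Cfsg.Agent.Lib.Char.Integrality

/-!
# The primitive idempotent of a block of regular rank one

All primitive idempotents below the block are equivalent, and a member takes the value one at
them, provided that the regular inner product of the member is the inverse of a power of `p` and the
quotient of the order of the group by it is prime to `p`.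
-/

open Finset MonoidAlgebra
open scoped ComplexConjugate

set_option autoImplicit false
set_option linter.unusedSectionVars false

namespace CfsgLib.Block.CyclicDefect

open Cfsg CfsgLib.Block CfsgLib.Block.Points

universe u

variable {p : ℕ} {M : Ideal AlgInt} [M.IsMaximal] {G : Type u} [Group G] [Fintype G] [DecidableEq G]
  [Fintype (IrrCharacter G)] {f : Set (IrrCharacter G)}

variable (M) in
/-- The reduced idempotent of a set of characters, in the group algebra. -/
noncomputable def eK (f : Set (IrrCharacter G)) : MonoidAlgebra (ResField M) G :=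
  toK M (blockIdem M f : MonoidAlgebra (locRing M) G)

theorem eK_idem (hM : IsPModular p M) (hf : IsPBlock M f) : eK M f * eK M f = eK M f := by
  rw [eK, ← map_mul]
  exact congrArg (toK M) (congrArg Subtype.val (blockIdem_mul_self hM (.of_isPBlock hf)))

theorem commute_eK (x : MonoidAlgebra (ResField M) G) : Commute (eK M f) x :=
  ((mem_center_iff_isClassElt.mp (blockIdem M f).2).map (res M)).commute x

theorem eK_ne_zero (hM : IsPModular p M) (hf : IsPBlock M f) : eK M f ≠ 0 := by
  intro h
  obtain ⟨χ, hχ⟩ := isPBlock_nonempty hf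
  have h1 := idemVal_blockIdem hM (.of_isPBlock hf) hχ
  rw [show toK M (blockIdem M f : MonoidAlgebra (locRing M) G) = 0 from h, idemVal_zero hM,
    Nat.cast_zero] at h1
  exact Char.irr_one_ne_zero χ h1.symm

/-- The primitive idempotents below a block of rank one are equivalent. -/
theorem eqPt_below (hM : IsPModular p M) (hf : IsPBlock M f) (hr : blockRank p f = 1)
    {i j : MonoidAlgebra (ResField M) G} (hi : IsPt i) (hj : IsPt j) (hif : i * eK M f = i)
    (hjf : j * eK M f = j) : EqPt i j := by
  by_contra hne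
  have h := card_points_le_blockRank hM (.of_isPBlock hf) (fun b : Bool => if b then i else j)
    (fun b => by cases b <;> simp [hi, hj]) (fun b => by cases b <;> simpa [eK] using ‹_›) ?_
  · rw [hr, Fintype.card_bool] at h
    omega
  · intro b b' hbb
    cases b <;> cases b' <;> simp_all
    exact fun h => hne h.symm

/-- A block of rank one is a sum of products through any of its primitive idempotents. -/
theorem exists_full (hM : IsPModular p M) (hf : IsPBlock M f) (hr : blockRank p f = 1)
    {i : MonoidAlgebra (ResField M) G} (hi : IsPt i) (hif : i * eK M f = i) :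
    ∃ (n : ℕ) (a b : Fin n → MonoidAlgebra (ResField M) G),
      (∀ r, a r * i = a r) ∧ (∀ r, i * b r = b r) ∧ ∑ r, a r * b r = eK M f := by
  classical
  obtain ⟨n, s, hs, -, hsum, hbelow⟩ :=
    Points.exists_decomp (k := ResField M) (eK M f) (eK_idem hM hf)
  choose a b h1 h2 h3 h4 h5 h6 using fun r => eqPt_below hM hf hr (hs r) hi (hbelow r).2 hif
  exact ⟨n, a, b, h2, h3, by rw [← hsum]; exact Finset.sum_congr rfl fun r _ => h5 r⟩

theorem exists_point (hM : IsPModular p M) (hf : IsPBlock M f) :
    ∃ i : MonoidAlgebra (ResField M) G, IsPt i ∧ i * eK M f = i := by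
  classical
  obtain ⟨n, s, hs, -, hsum, hbelow⟩ :=
    Points.exists_decomp (k := ResField M) (eK M f) (eK_idem hM hf)
  cases n with
  | zero => exact absurd (hsum.symm.trans (by simp)) (eK_ne_zero hM hf)
  | succ n => exact ⟨s 0, hs 0, (hbelow 0).2⟩

/-- The values at idempotents below the block are multiples of that at a primitive one. -/
theorem idemVal_dvd (hM : IsPModular p M) (hf : IsPBlock M f) (hr : blockRank p f = 1)
    {i : MonoidAlgebra (ResField M) G} (hi : IsPt i) (hif : i * eK M f = i)
    {e : MonoidAlgebra (ResField M) G} (he : e * e = e) (hef : e * eK M f = e) (χ : IrrCharacter G) :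
    idemVal χ i ∣ idemVal χ e := by
  classical
  obtain ⟨n, s, hs, horth, hsum, hbelow⟩ := Points.exists_decomp (k := ResField M) e he
  rw [← hsum, idemVal_sum hM χ Finset.univ s (fun r _ => (hs r).idem)
    (fun r _ r' _ h => horth r r' h)]
  refine Finset.dvd_sum fun r _ => ?_
  rw [idemVal_eqPt hM χ (eqPt_below hM hf hr (hs r) hi
    (by rw [← (hbelow r).2, mul_assoc, hef]) hif)]

/-- The multiplicity of a character of a nilpotent subgroup of order prime to `p`. -/
theorem exists_inner_eq_mul (hM : IsPModular p M) (hf : IsPBlock M f) (hr : blockRank p f = 1)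
    {i : MonoidAlgebra (ResField M) G} (hi : IsPt i) (hif : i * eK M f = i) {η : IrrCharacter G}
    (hη : η ∈ f) {R : Type u} [Group R] [Fintype R] [Group.IsNilpotent R] (hR : ¬ p ∣ Nat.card R)
    (ι : R →* G) (ξ : IrrCharacter R) :
    ∃ m : ℕ, classInner (fun x : R => (η : G → ℂ) (ι x)) (ξ : R → ℂ) = (idemVal η i * m : ℕ) := by
  classical
  obtain ⟨U, lam, hU⟩ := Char.nilpotent_monomial R (ξ : R → ℂ) ξ.2
  have := Fintype.ofFinite U
  rw [hU, Char.classInner_indFun_right _ _ _ fun a b => by
    simp only [map_mul, map_inv, Char.isClassFunction_irr η (ι a) (ι b)]]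
  have hnd : ¬ p ∣ Nat.card U := fun h => hR (h.trans U.card_subgroup_dvd_card)
  have hmem : ∀ u : U, conj ((lam u : ℂˣ) : ℂ) ∈ locRing M := fun u =>
    integral_mem M (Char.isIntegral_of_pow_eq_one (n := Nat.card U) Nat.card_pos.ne' (by
      rw [← map_pow, ← Units.val_pow_eq_pow_val, ← map_pow, pow_card_eq_one', map_one,
        Units.val_one, map_one]))
  set kk : U → locRing M := fun u => invNat hM hnd * ⟨_, hmem u⟩ with hkk
  set c0 : MonoidAlgebra (locRing M) G := ∑ u : U, single (ι u) (kk u) with hc0
  have hc0s : ∀ u : U, single (ι u) (⟨_, hmem u⟩ : locRing M) * c0 = c0 := by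
    intro u
    rw [hc0, Finset.mul_sum]
    refine Fintype.sum_equiv (Equiv.mulLeft u) _ _ fun s => ?_
    rw [MonoidAlgebra.single_mul_single, Equiv.coe_mulLeft, Subgroup.coe_mul, map_mul]
    congr 1
    refine Subtype.ext ?_
    simp only [hkk, Subring.coe_mul, map_mul, Units.val_mul]
    ring
  have hcc : c0 * c0 = c0 := by
    conv_lhs => arg 1; rw [hc0]
    rw [Finset.sum_mul, Finset.sum_congr rfl (g := fun _ : U => invNat hM hnd • c0) fun u _ => by
      rw [show single (ι u) (kk u) = invNat hM hnd • single (ι u) (⟨_, hmem u⟩ : locRing M) by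
        rw [MonoidAlgebra.smul_single, smul_eq_mul], smul_mul_assoc, hc0s u],
      Finset.sum_const, Finset.card_univ, ← Nat.card_eq_fintype_card,
      ← Nat.cast_smul_eq_nsmul (locRing M), smul_smul, mul_comm, invNat_mul hM hnd, one_smul]
  set d := (blockIdem M f : MonoidAlgebra (locRing M) G) with hd
  have hcd : c0 * d * (c0 * d) = c0 * d := by
    have hdc : Commute d c0 := (mem_center_iff_isClassElt.mp (blockIdem M f).2).commute c0
    rw [hdc.mul_mul_mul_comm, hcc,
      show d * d = d from congrArg Subtype.val (blockIdem_mul_self hM (.of_isPBlock hf))]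
  obtain ⟨m, hm⟩ := idemVal_dvd hM hf hr hi hif (e := toK M (c0 * d)) (by rw [← map_mul, hcd])
    (by rw [map_mul, mul_assoc]; exact congrArg _ (eK_idem hM hf)) η
  refine ⟨m, ?_⟩
  rw [← hm, ← idemVal_spec hM hcd rfl η, hd, TwoChar.evalGA_mul_blockIdem hM (.of_isPBlock hf),
    if_pos hη, evalGA, classInner]
  have hcoeff : ∀ t : G,
      (c0.coeff t : ℂ) = ∑ u : U, if ι u = t then (kk u : ℂ) else 0 := fun t => by
    rw [hc0, coeff_sum_apply, AddSubmonoidClass.coe_finsetSum]
    refine Finset.sum_congr rfl fun u _ => ?_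
    rw [MonoidAlgebra.coeff_single, Finsupp.single_apply]
    split_ifs <;> rfl
  simp only [hcoeff, Finset.sum_mul, ite_mul, zero_mul]
  rw [Finset.sum_comm]
  simp only [Finset.sum_ite_eq, Finset.mem_univ, if_true, Finset.mul_sum]
  refine Finset.sum_congr rfl fun u _ => ?_
  rw [show (kk u : ℂ) = (Nat.card U : ℂ)⁻¹ * conj ((lam u : ℂˣ) : ℂ) from rfl]
  ring

/-- The reduced coefficient of the block at some regular element is a unit multiple of the value of a
member, so the value of a member at a primitive idempotent is prime to `p`. -/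
theorem not_dvd_idemVal (hM : IsPModular p M) (hf : IsPBlock M f) (hr : blockRank p f = 1)
    {i : MonoidAlgebra (ResField M) G} (hi : IsPt i) (hif : i * eK M f = i) {η : IrrCharacter G}
    (hη : η ∈ f) {c : locRing M} {g : G} (hg : ¬ p ∣ orderOf g) (hne : (eK M f).coeff g ≠ 0)
    (hc : ((blockIdem M f : MonoidAlgebra (locRing M) G).coeff g : ℂ) = c * (η : G → ℂ) g⁻¹) :
    ¬ p ∣ idemVal η i := by
  classical
  intro hdvd
  letI : CommGroup (Subgroup.zpowers g) := IsCyclic.commGroup
  have := Fintype.ofFinite (IrrCharacter (Subgroup.zpowers g))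
  have hR : ¬ p ∣ Nat.card (Subgroup.zpowers g) := by rwa [Nat.card_zpowers]
  choose m hm using exists_inner_eq_mul hM hf hr hi hif hη hR (Subgroup.zpowers g).subtype
  have hexp := congrFun (Char.classFun_expand (f := fun x : Subgroup.zpowers g => (η : G → ℂ) x)
    (fun a b => by
      simp only [Subgroup.coe_mul, InvMemClass.coe_inv]
      exact Char.isClassFunction_irr η _ _)) ⟨g⁻¹, inv_mem (Subgroup.mem_zpowers g)⟩
  have hint : ∀ ξ : IrrCharacter (Subgroup.zpowers g),
      (m ξ : ℂ) * (ξ : Subgroup.zpowers g → ℂ) ⟨g⁻¹, inv_mem (Subgroup.mem_zpowers g)⟩ ∈ locRing M :=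
    fun ξ => mul_mem (natCast_mem _ _)
      (integral_mem M (Char.isCharacter_isIntegral (Char.isCharacter_irr ξ) _))
  set v : locRing M := ∑ ξ, ⟨_, hint ξ⟩ with hv
  have hval : ((blockIdem M f : MonoidAlgebra (locRing M) G).coeff g) =
      c * ((idemVal η i : locRing M) * v) := Subtype.ext (by
    rw [hc, hexp, Subring.coe_mul, Subring.coe_mul, Finset.sum_apply, hv,
      AddSubmonoidClass.coe_finsetSum, Finset.mul_sum, Finset.mul_sum, Finset.mul_sum]
    refine Finset.sum_congr rfl fun ξ _ => ?_
    simp only [Pi.smul_apply, smul_eq_mul, Subgroup.coe_subtype] at *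
    rw [hm ξ, Nat.cast_mul, Subring.coe_natCast]
    ring)
  have := charP_resField hM
  refine hne ?_
  rw [eK, coeff_toK, hval, map_mul, map_mul, map_natCast,
    (CharP.cast_eq_zero_iff (ResField M) p _).mpr hdvd, zero_mul, mul_zero]

/-- A member takes the value one at a primitive idempotent below the block. -/
theorem idemVal_point_eq_one (hM : IsPModular p M) (hf : IsPBlock M f) (hr : blockRank p f = 1)
    {i : MonoidAlgebra (ResField M) G} (hi : IsPt i) (hif : i * eK M f = i) {η : IrrCharacter G}
    (hη : η ∈ f) {a : ℕ} (ha : regInner p η η = ((p : ℂ) ^ a)⁻¹) (hnd : ¬ p ∣ idemVal η i) :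
    idemVal η i = 1 := by
  classical
  have hp : Fact p.Prime := ⟨hM.1⟩
  set N₀ := idemVal η i with hN₀
  have hN0 : (N₀ : ℂ) ≠ 0 := Nat.cast_ne_zero.mpr fun h => hnd (h ▸ dvd_zero p)
  set v := (Nat.card G).factorization p with hv
  let θ : G → ℂ := fun x => (p : ℂ) ^ v / N₀ * regFun p (η : G → ℂ) x
  have hθc : IsClassFunction G θ := fun x y => by
    simp only [θ, isClassFunction_regFun p (Char.isClassFunction_irr η) x y]
  have hgen : IsGeneralizedCharacter G θ := by
    refine Char.isGeneralizedCharacter_of_elementary hθc fun E q hq hE => ?_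
    have := Fintype.ofFinite E
    have := Fintype.ofFinite (IrrCharacter E)
    have := Char.isNilpotent_of_isElementary hq hE
    obtain ⟨R, Pp, hR, hcard, ⟨j, hj⟩, hRp, -⟩ := Char.exists_pparts_elementary (p := p) hq hE
    have := Fintype.ofFinite R
    refine Char.isGeneralizedCharacter_of_int_inner (fun a b => by
      simp only [Subgroup.coe_mul, InvMemClass.coe_inv]; exact hθc _ _) fun ψ => ?_
    obtain ⟨l, hl⟩ := Char.exists_list_irr
      (Char.isCharacter_comp (Char.isCharacter_irr ψ) R.subtype)
    choose m hm using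
      exists_inner_eq_mul hM hf hr hi hif hη hRp (E.subtype.comp R.subtype)
    have hlist : classInner (fun x : R => (η : G → ℂ) ((x : E) : G))
        (fun x : R => (ψ : E → ℂ) x) = (N₀ : ℂ) * ((l.map m).sum : ℕ) := by
      rw [show (fun x : R => (ψ : E → ℂ) x) = (l.map fun ξ : IrrCharacter R => (ξ : R → ℂ)).sum
        from hl.trans (by simp [List.map_eq_map, Function.comp_def])]
      clear hl
      induction l with
      | nil => simp [classInner]
      | cons a l ih =>
        rw [List.map_cons, List.sum_cons, List.map_cons, List.sum_cons, Nat.cast_add, mul_add, ← ih]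
        have h1 := hm a
        rw [Nat.cast_mul] at h1
        rw [← hN₀] at h1
        rw [← h1]
        simp only [classInner, Pi.add_apply, map_add, mul_add, Finset.sum_add_distrib,
          MonoidHom.comp_apply, Subgroup.coe_subtype]
    have hjv : j ≤ v := by
      have h1 : p ^ j ∣ Nat.card G := hj ▸ (Subgroup.card_subgroup_dvd_card Pp).trans
        E.card_subgroup_dvd_card
      exact (Nat.Prime.pow_dvd_iff_le_factorization hp.out Nat.card_pos.ne').mp h1
    refine ⟨((p ^ (v - j) * (l.map m).sum : ℕ) : ℤ), ?_⟩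
    have hRne : (Nat.card R : ℂ) ≠ 0 := Nat.cast_ne_zero.mpr Nat.card_pos.ne'
    have hp0 : (p : ℂ) ≠ 0 := Nat.cast_ne_zero.mpr hp.out.ne_zero
    have hsum : ∑ x : E, θ (x : G) * conj ((ψ : E → ℂ) x) =
        (p : ℂ) ^ v / N₀ * ∑ x : R, (η : G → ℂ) ((x : E) : G) * conj ((ψ : E → ℂ) x) := by
      rw [Finset.mul_sum, ← Finset.sum_subset (Finset.subset_univ (Finset.univ.filter (· ∈ R)))
        fun x _ hx => by
          simp only [Finset.mem_filter, Finset.mem_univ, true_and] at hx
          rw [hR, not_not] at hx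
          simp [θ, regFun, Subgroup.orderOf_coe, hx],
        Finset.sum_subtype (p := fun x => x ∈ R) _ (fun x => by simp)]
      refine Finset.sum_congr rfl fun x _ => ?_
      have hx : ¬ p ∣ orderOf ((x : E) : G) := by
        rw [Subgroup.orderOf_coe]; exact (hR _).mp x.2
      simp only [θ, regFun, if_neg hx]
      ring
    have h2 : ∑ x : R, (η : G → ℂ) ((x : E) : G) * conj ((ψ : E → ℂ) x) =
        (Nat.card R : ℂ) * ((N₀ : ℂ) * ((l.map m).sum : ℕ)) := by
      rw [← hlist, classInner, ← mul_assoc, mul_inv_cancel₀ hRne, one_mul]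
    rw [classInner, hsum, h2, ← hcard, hj, Int.cast_natCast]
    push_cast
    rw [show (p : ℂ) ^ v = (p : ℂ) ^ (v - j) * (p : ℂ) ^ j by rw [← pow_add, Nat.sub_add_cancel hjv]]
    field_simp
  obtain ⟨k, hk⟩ := Char.classInner_generalized_int hgen
    (Char.isGeneralizedCharacter_of_isCharacter (Char.isCharacter_irr η))
  have h3 : classInner θ (η : G → ℂ) = (p : ℂ) ^ v / N₀ * regInner p η η := by
    simp only [classInner, regInner, θ, Finset.mul_sum]
    exact Finset.sum_congr rfl fun x _ => by ring
  rw [h3, ha] at hk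
  have hp0 : (p : ℂ) ^ a ≠ 0 := pow_ne_zero _ (Nat.cast_ne_zero.mpr hp.out.ne_zero)
  field_simp at hk
  have h4 : ((p ^ v : ℕ) : ℤ) = (N₀ : ℤ) * ((p ^ a : ℕ) * k) := by
    have : (((p ^ v : ℕ) : ℤ) : ℂ) = (((N₀ : ℤ) * ((p ^ a : ℕ) * k) : ℤ) : ℂ) := by
      push_cast
      linear_combination hk
    exact_mod_cast this
  have h5 : N₀ ∣ p ^ v := Int.natCast_dvd_natCast.mp (h4 ▸ dvd_mul_right _ _)
  exact Nat.eq_one_of_dvd_coprimes
    ((hp.out.coprime_iff_not_dvd.mpr hnd).pow_left v) h5 dvd_rfl

end CfsgLib.Block.CyclicDefect
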