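import Cfsg.Agent.Lib.Block.CyclicDefect.QuotientForm
import Cfsg.Agent.Lib.Block.QuotientDefect
import Cfsg.Agent.Lib.Block.BlockCountBound

/-!
# Blocks with abelian defect groups of rank at most three

`card_le_of_two_generated`: at most as many characters as the order of the defect group;
`card_cube_le_of_three_generated`: the cube of the number is at most the fifth power of the order.
-/

open Finset
open scoped ComplexConjugate

set_option autoImplicit false
set_option linter.unusedSectionVars false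

namespace CfsgLib.Block.CyclicDefect

open Cfsg CfsgLib.Block CfsgLib.Block.Cyclic
open scoped Pair

universe u

variable {p : ℕ} [Fact p.Prime] {M : Ideal AlgInt} [M.IsMaximal] {G : Type u} [Group G] [Fintype G]
  [DecidableEq G] [Fintype (IrrCharacter G)]

/-- A major subsection at an element of an abelian defect group, with its quotient. -/
theorem exists_major_quot (hM : IsPModular p M) {B : Set (IrrCharacter G)} (hB : IsPBlock M B)
    {D : Subgroup G} (hD : IsDefectGroup p M B D) (hab : ∀ x ∈ D, ∀ y ∈ D, x * y = y * x)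
    {z : G} (hz : z ∈ D) :
    ∃ (b : Set (IrrCharacter (CQ (Subgroup.zpowers z)))) (hDC : D ≤ CQ (Subgroup.zpowers z))
      (Z₀ : Subgroup (CQ (Subgroup.zpowers z))) (_ : Z₀.Normal),
      IsInducedBlock M (CQ (Subgroup.zpowers z)) b B ∧ blockDefect p b = blockDefect p B ∧
      Nat.card Z₀ = orderOf z ∧ IsPGroup p Z₀ ∧ Z₀ ≤ Subgroup.center (CQ (Subgroup.zpowers z)) ∧
      Z₀ ≤ D.subgroupOf (CQ (Subgroup.zpowers z)) ∧
      (∀ x : CQ (Subgroup.zpowers z), x ∈ Z₀ ↔ (x : G) ∈ Subgroup.zpowers z) ∧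
      IsPBlock M (quotSet Z₀ b) ∧
      IsDefectGroup p M (quotSet Z₀ b)
        ((D.subgroupOf (CQ (Subgroup.zpowers z))).map (QuotientGroup.mk' Z₀)) := by
  classical
  obtain ⟨e, he⟩ := exists_maximalPair_at hM hB hD
  have hS : Subgroup.zpowers z ≤ D := Subgroup.zpowers_le.mpr hz
  have hDC : D ≤ CQ (Subgroup.zpowers z) := fun x hx => Subgroup.mem_centralizer_iff.mpr fun w hw =>
    hab w (hS hw) x hx
  obtain ⟨b, hb⟩ := exists_nSub hM hS (hDC.trans (centralizer_le_normalizer' _)) he.1.1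
  have hof : IsBrauerPairOf p M B (Subgroup.zpowers z) b :=
    (SubpairLE.isBrauerPairOf_iff hM (SubpairLE.step hM hb)).mp he.1
  have hind := (isBrauerPairOf_iff_induced hM hB hb.pairL.1
    (fun x hx => hDC (hS hx))).mp hof
  have hbD := isDefectGroup_below_abelian hM he hDC hb
  have hdef : blockDefect p b = blockDefect p B := by
    refine Nat.pow_right_injective (Fact.out : p.Prime).two_le ?_
    show p ^ blockDefect p b = p ^ blockDefect p B
    rw [← defectGroup_card hM hb.pairL.2 hbD, ← defectGroup_card hM hB hD,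
      Nat.card_congr (Subgroup.subgroupOfEquivOfLe hDC).toEquiv]
  let z' : CQ (Subgroup.zpowers z) := ⟨z, hDC hz⟩
  have hZc : Subgroup.zpowers z' ≤ Subgroup.center (CQ (Subgroup.zpowers z)) :=
    Subgroup.zpowers_le.mpr (Subgroup.mem_center_iff.mpr fun t =>
      Subtype.ext (Subgroup.mem_centralizer_iff.mp t.2 z (Subgroup.mem_zpowers z)).symm)
  have hN : (Subgroup.zpowers z').Normal := ⟨fun a ha g => by
    rwa [Subgroup.mem_center_iff.mp (hZc ha) g, mul_inv_cancel_right]⟩
  have hZD : Subgroup.zpowers z' ≤ D.subgroupOf (CQ (Subgroup.zpowers z)) :=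
    Subgroup.zpowers_le.mpr hz
  have hDp : IsPGroup p (D.subgroupOf (CQ (Subgroup.zpowers z))) :=
    isPGroup_defectGroup hM hb.pairL.2 hbD
  have hZp : IsPGroup p (Subgroup.zpowers z') := hDp.to_le hZD
  haveI := Fintype.ofFinite (CQ (Subgroup.zpowers z) ⧸ Subgroup.zpowers z')
  obtain ⟨Bbar, hBbar, hsub, hdg⟩ := QuotientDefect.exists_image_block (N := Subgroup.zpowers z') hM
    hZp hb.pairL.2
  obtain ⟨θ, hθ⟩ := isPBlock_nonempty hBbar
  have hq : IsPBlock M (quotSet (Subgroup.zpowers z') b) :=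
    isPBlock_quotSet hM hZp hZc hb.pairL.2 ⟨θ, hsub θ hθ⟩
  have hBq : Bbar = quotSet (Subgroup.zpowers z') b :=
    isPBlock_eq_of_mem hBbar hq hθ (hsub θ hθ)
  refine ⟨b, hDC, Subgroup.zpowers z', hN, hind, hdef, ?_, hZp, hZc, hZD, fun x => ?_, hq, ?_⟩
  · rw [Nat.card_zpowers, ← Subgroup.orderOf_coe]
  · rw [Subgroup.mem_zpowers_iff, Subgroup.mem_zpowers_iff]
    exact exists_congr fun k => ⟨fun h => by rw [← h]; simp [z'],
      fun h => Subtype.ext (by simpa [z'] using h)⟩
  · rw [← hBq, hdg]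
    exact ⟨_, hbD, rfl⟩

/-- The image of `D` modulo the element has the order divided by it. -/
theorem card_image_mul {H : Type u} [Group H] [Finite H] {N D : Subgroup H} [N.Normal] (h : N ≤ D) :
    Nat.card (D.map (QuotientGroup.mk' N)) * Nat.card N = Nat.card D := by
  have h1 := Subgroup.card_eq_card_quotient_mul_card_subgroup (N.subgroupOf D)
  rw [Nat.card_congr (Subgroup.subgroupOfEquivOfLe h).toEquiv] at h1
  rw [h1]
  congr 1
  let f : D →* D.map (QuotientGroup.mk' N) := (QuotientGroup.mk' N).subgroupMap D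
  have hk : f.ker = N.subgroupOf D := by
    ext x
    rw [MonoidHom.mem_ker, Subgroup.mem_subgroupOf, ← QuotientGroup.eq_one_iff, Subtype.ext_iff]
    rfl
  rw [← hk]
  exact (Nat.card_congr (QuotientGroup.quotientKerEquivOfSurjective f
    (MonoidHom.subgroupMap_surjective _ D)).toEquiv).symm

theorem card_le_of_two_generated (hM : IsPModular p M) {B : Set (IrrCharacter G)} (hB : IsPBlock M B)
    {D : Subgroup G} (hD : IsDefectGroup p M B D) (hab : ∀ x ∈ D, ∀ y ∈ D, x * y = y * x)
    {x y : G} (hx : x ∈ D) (hy : y ∈ D) (hgen : D ≤ Subgroup.closure {x, y}) :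
    Nat.card B ≤ Nat.card D := by
  classical
  obtain ⟨b, hDC, Z₀, hN, hind, hdef, hZcard, hZp, hZc, hZD, hZmem, hq, hqD⟩ :=
    exists_major_quot hM hB hD hab hx
  haveI := Fintype.ofFinite (CQ (Subgroup.zpowers x) ⧸ Z₀)
  haveI := Fintype.ofFinite (IrrCharacter (CQ (Subgroup.zpowers x) ⧸ Z₀))
  haveI := Fintype.ofFinite (IrrCharacter (CQ (Subgroup.zpowers x)))
  have hCx : ∀ t : G, t ∈ (CQ (Subgroup.zpowers x)) ↔ Commute t x := fun t => mem_cq_zpowers_iff
  obtain ⟨k, hk⟩ : ∃ k, orderOf x = p ^ k := by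
    obtain ⟨k, hk⟩ := IsPGroup.iff_orderOf.mp (isPGroup_defectGroup hM hB hD) ⟨x, hx⟩
    exact ⟨k, by rwa [Subgroup.orderOf_mk] at hk⟩
  have hDcard := defectGroup_card hM hB hD
  have hcard := card_image_mul hZD
  rw [Nat.card_congr (Subgroup.subgroupOfEquivOfLe hDC).toEquiv] at hcard
  set Db := (D.subgroupOf (CQ (Subgroup.zpowers x))).map (QuotientGroup.mk' Z₀) with hDb
  by_cases hDb1 : Db = ⊥
  · have hdb : blockDefect p (quotSet Z₀ b) = 0 := by
      have h := defectGroup_card hM hq hqD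
      rw [hDb1, Subgroup.card_bot] at h
      by_contra h0
      exact (Nat.one_lt_pow h0 (Fact.out : p.Prime).one_lt).ne h
    have h1 : Nat.card (quotSet Z₀ b) ≤ 1 := by
      have h := card_le_bfBound hM 0 _ _ hq hdb
      simpa [bfBound] using h
    have hl := (blockRank_le_card_quot hM hZp hZc hind.1).trans h1
    have hor := major_card_le_or hM hk hCx hind hdef
    rw [Nat.card_eq_fintype_card, Fintype.card_subtype, hDcard]
    rcases hor with h | h
    · exact h
    · have := Nat.mul_le_mul_right (p ^ blockDefect p B) hl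
      omega
  · have hDbcyc : IsCyclic Db := by
      have hle : Db ≤ Subgroup.zpowers (QuotientGroup.mk' Z₀ (⟨y, hDC hy⟩ : (CQ (Subgroup.zpowers x)))) := by
        rintro _ ⟨d, hd, rfl⟩
        have h1 : Subgroup.closure {x, y} ≤
            ((Subgroup.zpowers (QuotientGroup.mk' Z₀ (⟨y, hDC hy⟩ : (CQ (Subgroup.zpowers x))))).comap
              (QuotientGroup.mk' Z₀)).map (CQ (Subgroup.zpowers x)).subtype := by
          rw [Subgroup.closure_le, Set.insert_subset_iff, Set.singleton_subset_iff]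
          refine ⟨⟨⟨x, hDC hx⟩, ?_, rfl⟩, ⟨⟨y, hDC hy⟩, Subgroup.mem_zpowers _, rfl⟩⟩
          rw [SetLike.mem_coe, Subgroup.mem_comap]
          rw [show QuotientGroup.mk' Z₀ (⟨x, hDC hx⟩ : CQ (Subgroup.zpowers x)) = 1 from
            (QuotientGroup.eq_one_iff _).mpr
            ((hZmem _).mpr (Subgroup.mem_zpowers x))]
          exact one_mem _
        obtain ⟨d', hd', he⟩ := h1 (hgen hd)
        rw [← Subtype.ext he]
        exact hd'
      exact isCyclic_of_injective (Subgroup.inclusion hle) (Subgroup.inclusion_injective hle)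
    obtain ⟨c, hc⟩ := exists_maximalPair_at hM hq hqD
    obtain ⟨F, hFP, hFB, -⟩ := exists_frame_of_max hM hc hDbcyc hDb1
    haveI := Fintype.ofFinite (IrrCharacter (CQ F.Q))
    obtain ⟨S⟩ := F.exists_shape
    have hqF : ∀ θ, inflQ θ ∈ b → θ ∈ F.B := fun θ hθ => by rw [hFB]; exact hθ
    have hd : p ^ blockDefect p b = Nat.card Z₀ * Nat.card F.P := by
      rw [hFP, mul_comm, hcard, hdef, hDcard]
    have h := major_card_mul_le hM hk hCx hind hdef (m := F.e)
      (fun Zm _ _ hZm _ v hv => S.e_le_form hM hZp hZc hind.1 hqF hd Zm hZm v hv)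
    have hl := S.blockRank_le_e hM hZp hZc hind.1 hqF
    rw [hDcard]
    refine Nat.le_of_mul_le_mul_right (h.trans ?_) F.e_pos
    rw [mul_comm (blockRank p b)]
    exact Nat.mul_le_mul_left _ hl

/-- An abelian group generated by three elements is at most as large as their orders. -/
theorem card_le_orderOf_mul {H : Type u} [CommGroup H] [Finite H] {x y w : H}
    (hgen : Subgroup.closure {x, y, w} = ⊤) :
    Nat.card H ≤ orderOf x * (orderOf y * orderOf w) := by
  let f : Subgroup.zpowers x × (Subgroup.zpowers y × Subgroup.zpowers w) →* H :=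
    (Subgroup.zpowers x).subtype.coprod
      ((Subgroup.zpowers y).subtype.coprod (Subgroup.zpowers w).subtype)
  have hf : Function.Surjective f := by
    rw [← MonoidHom.range_eq_top, eq_top_iff, ← hgen, Subgroup.closure_le]
    intro a ha
    rcases ha with rfl | rfl | rfl
    · exact ⟨(⟨a, Subgroup.mem_zpowers a⟩, 1), by simp [f]⟩
    · exact ⟨(1, ⟨a, Subgroup.mem_zpowers a⟩, 1), by simp [f]⟩
    · exact ⟨(1, 1, ⟨a, Subgroup.mem_zpowers a⟩), by simp [f]⟩
  refine (Nat.card_le_card_of_surjective f hf).trans ?_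
  rw [Nat.card_prod, Nat.card_prod, Nat.card_zpowers, Nat.card_zpowers, Nat.card_zpowers]

theorem card_cube_le_of_three_generated (hM : IsPModular p M) {B : Set (IrrCharacter G)}
    (hB : IsPBlock M B) {D : Subgroup G} (hD : IsDefectGroup p M B D)
    (hab : ∀ x ∈ D, ∀ y ∈ D, x * y = y * x) {x y w : G} (hx : x ∈ D) (hy : y ∈ D) (hw : w ∈ D)
    (hgen : D ≤ Subgroup.closure {x, y, w}) (hmax : Nat.card D ≤ orderOf x ^ 3) :
    Nat.card B ^ 3 ≤ Nat.card D ^ 5 := by
  classical
  obtain ⟨b, hDC, Z₀, hN, hind, hdef, hZcard, hZp, hZc, hZD, hZmem, hq, hqD⟩ :=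
    exists_major_quot hM hB hD hab hx
  haveI := Fintype.ofFinite (CQ (Subgroup.zpowers x) ⧸ Z₀)
  haveI := Fintype.ofFinite (IrrCharacter (CQ (Subgroup.zpowers x) ⧸ Z₀))
  haveI := Fintype.ofFinite (IrrCharacter (CQ (Subgroup.zpowers x)))
  have hCx : ∀ t : G, t ∈ (CQ (Subgroup.zpowers x)) ↔ Commute t x := fun t => mem_cq_zpowers_iff
  obtain ⟨k, hk⟩ : ∃ k, orderOf x = p ^ k := by
    obtain ⟨k, hk⟩ := IsPGroup.iff_orderOf.mp (isPGroup_defectGroup hM hB hD) ⟨x, hx⟩
    exact ⟨k, by rwa [Subgroup.orderOf_mk] at hk⟩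
  have hDcard := defectGroup_card hM hB hD
  have hcard := card_image_mul hZD
  rw [Nat.card_congr (Subgroup.subgroupOfEquivOfLe hDC).toEquiv, hZcard] at hcard
  set Db := (D.subgroupOf (CQ (Subgroup.zpowers x))).map (QuotientGroup.mk' Z₀) with hDb
  have hDbab : ∀ a ∈ Db, ∀ c ∈ Db, a * c = c * a := by
    rintro _ ⟨a, ha, rfl⟩ _ ⟨c, hc, rfl⟩
    rw [← map_mul, ← map_mul]
    exact congrArg _ (Subtype.ext (hab a ha c hc))
  have hgen2 : Db ≤ Subgroup.closure
      {QuotientGroup.mk' Z₀ (⟨y, hDC hy⟩ : (CQ (Subgroup.zpowers x))), QuotientGroup.mk' Z₀ (⟨w, hDC hw⟩ : (CQ (Subgroup.zpowers x)))} := by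
    rintro _ ⟨d, hd, rfl⟩
    have h1 : Subgroup.closure {x, y, w} ≤
        ((Subgroup.closure {QuotientGroup.mk' Z₀ (⟨y, hDC hy⟩ : (CQ (Subgroup.zpowers x))),
          QuotientGroup.mk' Z₀ (⟨w, hDC hw⟩ : (CQ (Subgroup.zpowers x)))}).comap (QuotientGroup.mk' Z₀)).map (CQ (Subgroup.zpowers x)).subtype := by
      rw [Subgroup.closure_le, Set.insert_subset_iff, Set.insert_subset_iff, Set.singleton_subset_iff]
      refine ⟨⟨⟨x, hDC hx⟩, ?_, rfl⟩, ⟨⟨y, hDC hy⟩, Subgroup.subset_closure (Or.inl rfl), rfl⟩,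
        ⟨⟨w, hDC hw⟩, Subgroup.subset_closure (Or.inr rfl), rfl⟩⟩
      rw [SetLike.mem_coe, Subgroup.mem_comap]
      rw [show QuotientGroup.mk' Z₀ (⟨x, hDC hx⟩ : CQ (Subgroup.zpowers x)) = 1 from
            (QuotientGroup.eq_one_iff _).mpr
        ((hZmem _).mpr (Subgroup.mem_zpowers x))]
      exact one_mem _
    obtain ⟨d', hd', he⟩ := h1 (hgen hd)
    rw [← Subtype.ext he]
    exact hd'
  have hqk : Nat.card (quotSet Z₀ b) ≤ Nat.card Db :=
    card_le_of_two_generated hM hq hqD hDbab (Subgroup.mem_map_of_mem _ hy)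
      (Subgroup.mem_map_of_mem _ hw) hgen2
  have hl := (blockRank_le_card_quot hM hZp hZc hind.1).trans hqk
  have hk' : Nat.card B ≤ Nat.card Db * Nat.card D := by
    have hor := major_card_le_or hM hk hCx hind hdef
    rw [Nat.card_eq_fintype_card (α := B), Fintype.card_subtype, hDcard]
    have hpos : 1 ≤ Nat.card Db := Nat.card_pos
    rcases hor with h | h
    · exact h.trans (Nat.le_mul_of_pos_left _ hpos)
    · have := Nat.mul_le_mul_right (p ^ blockDefect p B) hl
      omega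
  have h3 : (Nat.card B * orderOf x) ^ 3 ≤ (Nat.card D * Nat.card D) ^ 3 := by
    refine Nat.pow_le_pow_left ((Nat.mul_le_mul_right _ hk').trans_eq ?_) 3
    rw [mul_right_comm, hcard]
  have h4 : Nat.card B ^ 3 * Nat.card D ≤ Nat.card D ^ 5 * Nat.card D := by
    refine (Nat.mul_le_mul_left _ hmax).trans ?_
    rw [← mul_pow]
    exact h3.trans_eq (by ring)
  exact Nat.le_of_mul_le_mul_right h4 Nat.card_pos

end CfsgLib.Block.CyclicDefect
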