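import Cfsg.Agent.Lib.Block.CyclicDefect.Relations

/-!
# The shape of a block with cyclic defect group, from the data of a statement
-/

open Finset

set_option autoImplicit false
set_option linter.unusedSectionVars false

namespace CfsgLib.Block.CyclicDefect

open Cfsg CfsgLib.Block

universe u

variable {p : ℕ} {M : Ideal AlgInt} [M.IsMaximal] {G : Type u} [Group G] [Fintype G] [DecidableEq G]
  [Fintype (IrrCharacter G)]

/-- The stabilizer of a block of `C(D)`, with the conjugate quantified over all characters. -/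
theorem stabilizesBlock_of_forall_iff {D : Subgroup G} {b : Set (IrrCharacter (CQ D))} {g : G}
    (hg : g ∈ Subgroup.normalizer (D : Set G)) :
    (∀ θ ∈ b, ∀ θ' : IrrCharacter (CQ D), (∀ h h' : CQ D, (h' : G) = g * h * g⁻¹ →
      (θ' : CQ D → ℂ) h' = (θ : CQ D → ℂ) h) → θ' ∈ b) ↔ StabilizesBlock (CQ D) b g := by
  set e := irrEquiv (cjHom (K := CQ D) (K' := CQ D) (cq_conj_iff hg)) with he
  have hconj : ∀ θ : IrrCharacter (CQ D),
      IsConjCharOf (CQ D) g (θ : CQ D → ℂ) (e θ : CQ D → ℂ) := fun θ k k' hk => by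
    rw [he, irrEquiv_apply, show k' = cjHom (cq_conj_iff hg) k from Subtype.ext hk,
      MulEquiv.symm_apply_apply]
  constructor
  · exact fun h => ⟨Subgroup.mem_normalizer_iff.mpr (cq_conj_iff hg),
      fun θ hθ => ⟨e θ, h θ hθ _ (hconj θ), hconj θ⟩⟩
  · intro h θ hθ θ' hθ'
    obtain ⟨χ, hχ, hc⟩ := h.2 θ hθ
    convert hχ
    refine Subtype.ext (funext fun c' => ?_)
    set c := (cjHom (K := CQ D) (K' := CQ D) (cq_conj_iff hg)).symm c'
    have hcc : (c' : G) = g * c * g⁻¹ := by simp [c, cjHom, mul_assoc]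
    rw [hθ' c c' hcc, hc c c' hcc]

/-- The block has a shape relative to a frame with the given stabilizer. -/
theorem exists_shape_of_data (hM : IsPModular p M) {B : Set (IrrCharacter G)} (hB : IsPBlock M B)
    {P : Subgroup G} (hPD : IsDefectGroup p M B P) (hP1 : P ≠ ⊥) (hcyc : IsCyclic P)
    {c : Set (IrrCharacter (CQ P))} (hc : IsInducedBlock M (CQ P) c B) {T : Subgroup G}
    (hT : ∀ g : G, g ∈ T ↔ g ∈ Subgroup.normalizer (P : Set G) ∧ StabilizesBlock (CQ P) c g) :
    ∃ (F : Frame p M G) (_ : Fintype (IrrCharacter (CQ F.Q))) (_ : F.Shape),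
      F.B = B ∧ F.P = P ∧ F.e = (CQ P).relIndex T := by
  obtain ⟨F, h1, h2, -, h4⟩ := exists_frame hM hB hPD hP1 hcyc hc hT
  let inst : Fintype (IrrCharacter (CQ F.Q)) := Fintype.ofFinite _
  obtain ⟨S⟩ := F.exists_shape
  exact ⟨F, inst, S, h1, h2, h4⟩

end CfsgLib.Block.CyclicDefect
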