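import Mathlib.FieldTheory.IsAlgClosed.Basic
import Mathlib.LinearAlgebra.Projection
import Mathlib.LinearAlgebra.FiniteDimensional.Basic
import Mathlib.LinearAlgebra.Dual.Lemmas
import Mathlib.RingTheory.RootsOfUnity.AlgebraicallyClosed
import Mathlib.RingTheory.RootsOfUnity.PrimitiveRoots

/-!
# Modules over a truncated polynomial algebra with a twisting operator

`N` is nilpotent of index at most `L`, `τ` has `τ ^ e = ξ` and `τ N = α N τ`.  If every operator
commuting with both is scalar on `ker N ^ (L - 1)` modulo the image of `N`, only one eigenvalue of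
`τ` occurs there modulo the image of `N`.
-/

open Finset

set_option autoImplicit false
set_option linter.unusedSectionVars false

namespace CfsgLib.Block.CyclicDefect

universe u v

variable {k : Type u} [Field k] [IsAlgClosed k] {V : Type v} [AddCommGroup V] [Module k V]

theorem pow_comm_smul {N τ : Module.End k V} {α : k} (h : τ * N = α • (N * τ)) (i : ℕ) :
    τ * N ^ i = α ^ i • (N ^ i * τ) := by
  induction i with
  | zero => simp
  | succ i ih =>
    rw [pow_succ N i, ← mul_assoc, ih, smul_mul_assoc, mul_assoc, h, mul_smul_comm, smul_smul,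
      pow_succ α i, mul_assoc]

/-- The eigenvalues of an operator with scalar power, with projections. -/
theorem exists_projections {e : ℕ} (he : (e : k) ≠ 0) {ξ : k} (hξ : ξ ≠ 0) {τ : Module.End k V}
    (hτ : τ ^ e = ξ • 1) :
    ∃ (μ : Fin e → k) (P : Fin e → Module.End k V),
      (∀ j x, τ (P j x) = μ j • P j x) ∧ (∀ j x, P j (τ x) = μ j • P j x) ∧
      (∀ x, ∑ j, P j x = x) ∧ ∀ j x, τ x = μ j • x → P j x = x := by
  haveI : NeZero ((e : ℕ) : k) := ⟨he⟩
  have he0 : 0 < e := Nat.pos_of_ne_zero fun h => he (by rw [h, Nat.cast_zero])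
  haveI : NeZero e := ⟨he0.ne'⟩
  obtain ⟨ω, hω⟩ := HasEnoughRootsOfUnity.prim (M := k) (n := e)
  obtain ⟨μ₀, hμ₀⟩ := IsAlgClosed.exists_pow_nat_eq ξ he0
  have hμ₀0 : μ₀ ≠ 0 := fun h => hξ (by rw [← hμ₀, h, zero_pow he0.ne'])
  let μ : Fin e → k := fun j => μ₀ * ω ^ (j : ℕ)
  have hμe : ∀ j, μ j ^ e = ξ := fun j => by
    rw [mul_pow, hμ₀, ← pow_mul, mul_comm (j : ℕ), pow_mul, hω.pow_eq_one, one_pow, mul_one]
  have hμ0 : ∀ j, μ j ≠ 0 := fun j => mul_ne_zero hμ₀0 (pow_ne_zero _ (hω.ne_zero he0.ne'))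
  let P : Fin e → Module.End k V := fun j =>
    (e : k)⁻¹ • ∑ i ∈ Finset.range e, (μ j)⁻¹ ^ i • τ ^ i
  have hshift : ∀ j, τ * ∑ i ∈ Finset.range e, (μ j)⁻¹ ^ i • τ ^ i =
      μ j • ∑ i ∈ Finset.range e, (μ j)⁻¹ ^ i • τ ^ i := by
    intro j
    rw [Finset.mul_sum, Finset.smul_sum]
    set g : ℕ → Module.End k V := fun i => μ j • ((μ j)⁻¹ ^ i • τ ^ i) with hg
    have h1 : ∀ i, τ * ((μ j)⁻¹ ^ i • τ ^ i) = g (i + 1) := fun i => by
      simp only [hg]
      rw [mul_smul_comm, ← pow_succ', smul_smul, pow_succ (μ j)⁻¹ i, mul_comm ((μ j)⁻¹ ^ i),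
        ← mul_assoc, mul_inv_cancel₀ (hμ0 j), one_mul]
    rw [Finset.sum_congr rfl fun i _ => h1 i]
    have h2 : g e = g 0 := by
      simp only [hg, hτ, smul_smul, inv_pow, hμe, pow_zero, mul_assoc, inv_mul_cancel₀ hξ, inv_one, mul_one]
    have h3 := Finset.sum_range_succ g e
    rw [Finset.sum_range_succ' g e, h2] at h3
    exact add_right_cancel h3
  have hcomm : ∀ j, τ * P j = P j * τ := fun j =>
    ((Commute.sum_right _ _ _ fun i _ =>
      ((Commute.self_pow τ i).smul_right _)).smul_right _).eq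
  have h1 : ∀ j x, τ (P j x) = μ j • P j x := by
    intro j x
    have h : τ * P j = μ j • P j := by
      simp only [P, mul_smul_comm, hshift, smul_comm (μ j)]
    exact LinearMap.congr_fun h x
  refine ⟨μ, P, h1, fun j x => by rw [← Module.End.mul_apply, ← hcomm, Module.End.mul_apply, h1],
    fun x => ?_, fun j x hx => ?_⟩
  · have hgeom : ∀ i ∈ Finset.range e, ∑ j : Fin e, (μ j)⁻¹ ^ i = if i = 0 then (e : k) else 0 := by
      intro i hi
      split_ifs with h0
      · simp [h0]
      · have hne : (ω ^ i)⁻¹ ≠ 1 := fun h => hω.pow_ne_one_of_pos_of_lt h0 (Finset.mem_range.mp hi)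
          (inv_eq_one.mp h)
        have hpow : ((ω ^ i)⁻¹) ^ e = 1 := by
          rw [inv_pow, ← pow_mul, mul_comm, pow_mul, hω.pow_eq_one, one_pow, inv_one]
        have hgs : ∑ j ∈ Finset.range e, ((ω ^ i)⁻¹) ^ j = 0 := by
          rw [geom_sum_eq hne, hpow, sub_self, zero_div]
        rw [Finset.sum_congr rfl (g := fun j : Fin e => μ₀⁻¹ ^ i * ((ω ^ i)⁻¹) ^ (j : ℕ)) fun j _ => by
          simp only [μ, mul_inv, mul_pow, inv_pow, ← pow_mul, mul_comm i], ← Finset.mul_sum,
          Fin.sum_univ_eq_sum_range (fun j : ℕ => ((ω ^ i)⁻¹) ^ j) e, hgs, mul_zero]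
    simp only [P, LinearMap.smul_apply, LinearMap.sum_apply]
    rw [← Finset.smul_sum, Finset.sum_comm]
    simp only [← Finset.sum_smul]
    rw [Finset.sum_eq_single_of_mem 0 (Finset.mem_range.mpr he0) fun i hi h0 => by
      rw [hgeom i hi, if_neg h0, zero_smul], hgeom 0 (Finset.mem_range.mpr he0), if_pos rfl,
      pow_zero, Module.End.one_apply, smul_smul, inv_mul_cancel₀ he, one_smul]
  · have hpow : ∀ i : ℕ, (τ ^ i) x = μ j ^ i • x := by
      intro i
      induction i with
      | zero => simp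
      | succ i ih => rw [pow_succ', Module.End.mul_apply, ih, map_smul, hx, smul_smul, ← pow_succ]
    simp only [P, LinearMap.smul_apply, LinearMap.sum_apply, hpow, smul_smul, ← mul_pow,
      inv_mul_cancel₀ (hμ0 j), one_pow, one_smul, Finset.sum_const, Finset.card_range]
    rw [← Nat.cast_smul_eq_nsmul k, smul_smul, inv_mul_cancel₀ he, one_smul]

/-- An eigenvalue of `τ` occurs on `ker N ^ (L - 1)` modulo the image of `N`. -/
def Occurs (N τ : Module.End k V) (L : ℕ) (ν : k) : Prop :=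
  ∃ ℓ : V →ₗ[k] k, (∀ x, ℓ (τ x) = ν * ℓ x) ∧ (∀ x, ℓ (N x) = 0) ∧
    ∃ x, (N ^ (L - 1)) x = 0 ∧ ℓ x ≠ 0

/-- The chains of a maximal eigenvector split off. -/
theorem exists_split {e : ℕ} (he : (e : k) ≠ 0) {ξ : k} (hξ : ξ ≠ 0) {N τ : Module.End k V}
    (hτ : τ ^ e = ξ • 1) {α : k} (hNτ : τ * N = α • (N * τ)) {l : ℕ}
    (hl : N ^ (l + 1) = 0) (hne : N ^ l ≠ 0) :
    ∃ (v : V) (μ : k) (C' : Submodule k V) (π : Module.End k V),
      τ v = μ • v ∧ (N ^ l) v ≠ 0 ∧ (∀ x ∈ C', N x ∈ C') ∧ (∀ x ∈ C', τ x ∈ C') ∧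
      π * N = N * π ∧ π * τ = τ * π ∧ π v = v ∧ v ∉ C' ∧
      (∀ x, x - π x ∈ C') ∧ (∀ x ∈ C', π x = 0) ∧
      ∀ x, ∃ a : k, π x - a • v ∈ LinearMap.range N := by
  classical
  obtain ⟨μs, P, hP1, hP2, hsum, hfix⟩ := exists_projections he hξ hτ
  obtain ⟨w, hw⟩ : ∃ w, (N ^ l) w ≠ 0 := by
    by_contra hall
    push Not at hall
    exact hne (LinearMap.ext hall)
  obtain ⟨j, hj⟩ : ∃ j, (N ^ l) (P j w) ≠ 0 := by
    by_contra hall
    push Not at hall
    exact hw (by rw [← hsum w, map_sum]; exact Finset.sum_eq_zero fun j _ => hall j)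
  set v := P j w with hv
  set u := (N ^ l) v with hu
  have hτv : τ v = μs j • v := hP1 j w
  have hτu : τ u = (α ^ l * μs j) • u := by
    rw [hu, ← Module.End.mul_apply, pow_comm_smul hNτ l, LinearMap.smul_apply, Module.End.mul_apply,
      hτv, map_smul, smul_smul]
  set ν := α ^ l * μs j with hν
  obtain ⟨j', hj'⟩ : ∃ j', P j' u ≠ 0 := by
    by_contra hall
    push Not at hall
    exact hj (by rw [← hsum u]; exact Finset.sum_eq_zero fun j' _ => hall j')
  have hνj : μs j' = ν := by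
    have h := hP2 j' u
    rw [hτu, map_smul] at h
    exact (smul_left_injective k hj' h).symm
  have hPu : P j' u = u := hfix j' u (by rw [hνj]; exact hτu)
  obtain ⟨φ, hφ⟩ := Module.Projective.exists_dual_ne_zero k hj'
  let lam : V →ₗ[k] k := (φ (P j' u))⁻¹ • φ.comp (P j')
  have hlamτ : ∀ x, lam (τ x) = ν * lam x := fun x => by
    simp only [lam, LinearMap.smul_apply, LinearMap.comp_apply, hP2, map_smul, smul_eq_mul, hνj]
    ring
  have hlamu : lam u = 1 := by
    simp only [lam, LinearMap.smul_apply, LinearMap.comp_apply, smul_eq_mul]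
    exact inv_mul_cancel₀ hφ
  let C : Submodule k V := Submodule.span k (Set.range fun i : ℕ => (N ^ i) v)
  let C' : Submodule k V := ⨅ i : ℕ, LinearMap.ker (lam.comp (N ^ i))
  have hC' : ∀ x, x ∈ C' ↔ ∀ i, lam ((N ^ i) x) = 0 := fun x => by simp [C']
  have hpz : ∀ i, l < i → N ^ i = 0 := fun i hi => pow_eq_zero_of_le hi hl
  have hval : lam ((N ^ l) v) = 1 := hlamu
  have hshift : ∀ i i' : ℕ, (N ^ i) ((N ^ i') v) = (N ^ (i + i')) v := fun i i' => by
    rw [pow_add, Module.End.mul_apply]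
  have hrep : ∀ x ∈ C, ∃ a : ℕ → k, x = ∑ i ∈ Finset.range (l + 1), a i • (N ^ i) v := by
    intro x hx
    refine Submodule.span_induction ?_ ⟨0, by simp⟩ ?_ ?_ hx
    · rintro _ ⟨i, rfl⟩
      by_cases hi : i ≤ l
      · exact ⟨Pi.single i 1, by simp [Pi.single_apply, ite_smul, Nat.lt_succ_iff, hi]⟩
      · exact ⟨0, by simp [hpz i (by omega)]⟩
    · rintro x y - - ⟨a, ha⟩ ⟨b, hb⟩
      exact ⟨a + b, by simp [ha, hb, add_smul, Finset.sum_add_distrib]⟩
    · rintro c x - ⟨a, ha⟩
      exact ⟨c • a, by simp [ha, Finset.smul_sum, smul_smul]⟩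
  have hdisj : ∀ x ∈ C, x ∈ C' → x = 0 := by
    intro x hx hx'
    obtain ⟨a, rfl⟩ := hrep x hx
    suffices ∀ i, i ≤ l → a i = 0 from Finset.sum_eq_zero fun i hi => by
      rw [this i (by simpa [Nat.lt_succ_iff] using hi), zero_smul]
    intro i
    induction i using Nat.strong_induction_on with
    | _ i ih =>
      intro hi
      have h := (hC' _).mp hx' (l - i)
      simp only [map_sum, map_smul, hshift, smul_eq_mul] at h
      rw [Finset.sum_eq_single i (fun i' hi' hne' => ?_) (fun hn => absurd (by simp; omega) hn),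
        Nat.sub_add_cancel hi, hval, mul_one] at h
      · exact h
      rcases lt_or_gt_of_ne hne' with hlt | hgt
      · rw [ih i' hlt (by omega), zero_mul]
      · rw [hpz _ (by omega), LinearMap.zero_apply, map_zero, mul_zero]
  have hsup : ∀ x, ∃ c ∈ C, x - c ∈ C' := by
    suffices ∀ d : ℕ, ∀ x, ∃ c ∈ C, ∀ i, l + 1 ≤ i + d → lam ((N ^ i) (x - c)) = 0 by
      intro x
      obtain ⟨c, hc, h⟩ := this (l + 1) x
      exact ⟨c, hc, (hC' _).mpr fun i => h i (by omega)⟩
    intro d
    induction d with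
    | zero => exact fun x => ⟨0, zero_mem _, fun i hi => by simp [hpz i (by omega)]⟩
    | succ d ih =>
      intro x
      obtain ⟨c, hc, h⟩ := ih x
      by_cases hd : d ≤ l
      · refine ⟨c + lam ((N ^ (l - d)) (x - c)) • (N ^ d) v,
          add_mem hc (Submodule.smul_mem _ _ (Submodule.subset_span ⟨d, rfl⟩)), fun i hi => ?_⟩
        rw [← sub_sub, map_sub, map_sub, map_smul, map_smul, hshift, smul_eq_mul]
        rcases Nat.eq_or_lt_of_le (show l - d ≤ i by omega) with heq | hlt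
        · rw [← heq, Nat.sub_add_cancel hd, hval, mul_one, sub_self]
        · rw [h i (by omega), hpz (i + d) (by omega), LinearMap.zero_apply, map_zero, mul_zero,
            sub_zero]
      · exact ⟨c, hc, fun i hi => h i (by omega)⟩
  have hcompl : IsCompl C C' := by
    refine ⟨Submodule.disjoint_def.mpr hdisj, codisjoint_iff.mpr (eq_top_iff.mpr fun x _ => ?_)⟩
    obtain ⟨c, hc, h⟩ := hsup x
    exact Submodule.mem_sup.mpr ⟨c, hc, x - c, h, add_sub_cancel c x⟩
  have hNC : ∀ x ∈ C, N x ∈ C := by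
    intro x hx
    refine Submodule.span_induction ?_ (by simp) (fun a b _ _ ha hb => by rw [map_add]; exact add_mem ha hb)
      (fun c a _ ha => by rw [map_smul]; exact Submodule.smul_mem _ _ ha) hx
    rintro _ ⟨i, rfl⟩
    exact Submodule.subset_span ⟨i + 1, by simp [pow_succ']⟩
  have hτC : ∀ x ∈ C, τ x ∈ C := by
    intro x hx
    refine Submodule.span_induction ?_ (by simp) (fun a b _ _ ha hb => by rw [map_add]; exact add_mem ha hb)
      (fun c a _ ha => by rw [map_smul]; exact Submodule.smul_mem _ _ ha) hx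
    rintro _ ⟨i, rfl⟩
    rw [← Module.End.mul_apply, pow_comm_smul hNτ i, LinearMap.smul_apply, Module.End.mul_apply,
      hτv, map_smul]
    exact Submodule.smul_mem _ _ (Submodule.smul_mem _ _ (Submodule.subset_span ⟨i, rfl⟩))
  have hNC' : ∀ x ∈ C', N x ∈ C' := fun x hx => (hC' _).mpr fun i => by
    rw [← Module.End.mul_apply, ← pow_succ]
    exact (hC' _).mp hx (i + 1)
  have hαi : ∀ (i : ℕ) (x : V), lam ((N ^ i) x) = 0 → lam ((N ^ i) (τ x)) = 0 := by
    intro i x hx
    have h : τ ((N ^ i) x) = α ^ i • (N ^ i) (τ x) := by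
      rw [← Module.End.mul_apply, pow_comm_smul hNτ i, LinearMap.smul_apply, Module.End.mul_apply]
    have h' := hlamτ ((N ^ i) x)
    rw [h, map_smul, hx, mul_zero, smul_eq_mul, mul_eq_zero] at h'
    rcases h' with h' | h'
    · -- then `τ` kills the image of `N ^ i`, so that image is zero
      have h0 : ∀ y, (N ^ i) y = 0 := fun y => by
        have e1 : τ ((N ^ i) y) = 0 := by
          rw [← Module.End.mul_apply, pow_comm_smul hNτ i, h', zero_smul, LinearMap.zero_apply]
        have he0 : e ≠ 0 := fun h => he (by rw [h, Nat.cast_zero])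
        have e2 : (τ ^ e) ((N ^ i) y) = 0 := by
          obtain ⟨e', rfl⟩ := Nat.exists_eq_succ_of_ne_zero he0
          rw [pow_succ, Module.End.mul_apply, e1, map_zero]
        rw [hτ, LinearMap.smul_apply, Module.End.one_apply, smul_eq_zero] at e2
        exact e2.resolve_left hξ
      rw [h0, map_zero]
    · exact h'
  have hτC' : ∀ x ∈ C', τ x ∈ C' := fun x hx => (hC' _).mpr fun i => hαi i x ((hC' _).mp hx i)
  let π : Module.End k V := C.subtype ∘ₗ Submodule.projectionOnto C C' hcompl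
  have hπC : ∀ x ∈ C, π x = x := fun x hx => by
    simpa [π] using congrArg Subtype.val (Submodule.projectionOnto_apply_left hcompl ⟨x, hx⟩)
  have hπC' : ∀ x ∈ C', π x = 0 := fun x hx => by
    simpa [π] using congrArg Subtype.val (Submodule.projectionOnto_apply_right hcompl ⟨x, hx⟩)
  have hπcomm : ∀ A : Module.End k V, (∀ x ∈ C, A x ∈ C) → (∀ x ∈ C', A x ∈ C') → π * A = A * π := by
    intro A hA hA'
    refine LinearMap.ext fun x => ?_
    obtain ⟨c, hc, h⟩ := hsup x
    rw [show x = c + (x - c) by rw [add_sub_cancel], Module.End.mul_apply, Module.End.mul_apply,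
      map_add, map_add, map_add, hπC _ hc, hπC' _ h, hπC _ (hA _ hc), hπC' _ (hA' _ h), map_add,
      map_zero, add_zero]
  have hvC : v ∈ C := Submodule.subset_span ⟨0, by simp⟩
  refine ⟨v, μs j, C', π, hτv, hj, hNC', hτC', hπcomm N hNC hNC', hπcomm τ hτC hτC', hπC v hvC,
    fun hv' => ?_, fun x => ?_, hπC', fun x => ?_⟩
  · exact hj (by simp only [hu, show v = 0 from hdisj v hvC hv', map_zero])
  · obtain ⟨c, hc, h⟩ := hsup x
    rwa [show x = c + (x - c) by rw [add_sub_cancel], map_add, hπC _ hc, hπC' _ h, add_zero,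
      add_sub_cancel_left]
  · obtain ⟨a, ha⟩ := hrep (π x) (by simp [π])
    refine ⟨a 0, ⟨∑ i ∈ Finset.range l, a (i + 1) • (N ^ i) v, ?_⟩⟩
    rw [ha, Finset.sum_range_succ' _ l, pow_zero, Module.End.one_apply, add_sub_cancel_right, map_sum]
    exact Finset.sum_congr rfl fun i _ => by rw [map_smul, pow_succ', Module.End.mul_apply]

/-- If commuting operators are scalars on `ker N ^ (L - 1)` modulo `N`, one eigenvalue occurs. -/
theorem occurs_unique [FiniteDimensional k V] {e : ℕ} (he : (e : k) ≠ 0) {ξ : k} (hξ : ξ ≠ 0)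
    {N τ : Module.End k V} (hτ : τ ^ e = ξ • 1) {α : k} (hNτ : τ * N = α • (N * τ)) {L : ℕ}
    (hL : N ^ L = 0) (hscal : ∀ γ : Module.End k V, γ * N = N * γ → γ * τ = τ * γ →
      ∃ c : k, ∀ x, (N ^ (L - 1)) x = 0 → γ x - c • x ∈ LinearMap.range N)
    {ν ν' : k} (hν : Occurs N τ L ν) (hν' : Occurs N τ L ν') : ν = ν' := by
  classical
  induction hd : Module.finrank k V using Nat.strong_induction_on generalizing V with
  | _ d ih =>
  obtain ⟨ℓ, hℓτ, hℓN, x₀, hx₀, hℓx₀⟩ := hν
  obtain ⟨ℓ', hℓ'τ, hℓ'N, x₁, hx₁, hℓx₁⟩ := hν'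
  have hex : ∃ n, N ^ n = 0 := ⟨L, hL⟩
  have hpos : 0 < Nat.find hex := Nat.pos_of_ne_zero fun h => hℓx₀ (by
    have h1 := Nat.find_spec hex
    rw [h, pow_zero] at h1
    rw [show x₀ = 0 from LinearMap.congr_fun h1 x₀, map_zero])
  obtain ⟨l, hl⟩ : ∃ l, Nat.find hex = l + 1 := ⟨Nat.find hex - 1, by omega⟩
  have hlz : N ^ (l + 1) = 0 := by rw [← hl]; exact Nat.find_spec hex
  have hlne : N ^ l ≠ 0 := Nat.find_min hex (by omega)
  have hlL : l + 1 ≤ L := by rw [← hl]; exact Nat.find_le hL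
  obtain ⟨v, μ, C', π, hτv, hv, hNC', hτC', hπN, hπτ, hπv, hvC', hsub, hπC', ha⟩ :=
    exists_split he hξ hτ hNτ hlz hlne
  rcases hlL.lt_or_eq with hlt | heq
  · -- every vector counts
    have hK : N ^ (L - 1) = 0 := pow_eq_zero_of_le (by omega) hlz
    obtain ⟨c, hc⟩ := hscal π hπN hπτ
    have hc1 : c = 1 := by
      obtain ⟨w, hw⟩ := hc v (by rw [hK]; rfl)
      have h := congrArg (N ^ l) hw
      rw [← Module.End.mul_apply, ← pow_succ, hlz, LinearMap.zero_apply, hπv, map_sub, map_smul]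
        at h
      have h' : (1 - c) • (N ^ l) v = 0 := by rw [sub_smul, one_smul]; exact h.symm
      exact (sub_eq_zero.mp ((smul_eq_zero.mp h').resolve_right hv)).symm
    have key : ∀ (m : V →ₗ[k] k) (r : k), (∀ x, m (τ x) = r * m x) → (∀ x, m (N x) = 0) →
        (∃ x, m x ≠ 0) → r = μ := by
      intro m r hmτ hmN ⟨x, hx⟩
      obtain ⟨a, w, hw⟩ := ha x
      obtain ⟨w', hw'⟩ := hc x (by rw [hK]; rfl)
      have h1 := congrArg m hw
      have h2 := congrArg m hw'
      rw [hmN, map_sub, map_smul, smul_eq_mul] at h1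
      rw [hmN, map_sub, map_smul, smul_eq_mul, hc1, one_mul] at h2
      have hmv : m v ≠ 0 := fun h0 => hx (by
        rw [← sub_eq_zero.mp h2.symm, sub_eq_zero.mp h1.symm, h0, mul_zero])
      have h3 := hmτ v
      rw [hτv, map_smul, smul_eq_mul] at h3
      exact (mul_right_cancel₀ hmv h3).symm
    rw [key ℓ ν hℓτ hℓN ⟨x₀, hℓx₀⟩, key ℓ' ν' hℓ'τ hℓ'N ⟨x₁, hℓx₁⟩]
  · -- a free chain: pass to the complement
    have hLl : L - 1 = l := by omega
    set N' := N.restrict hNC' with hN'
    set τ' := τ.restrict hτC' with hτ'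
    have hpowN : ∀ (n : ℕ) (x : C'), (((N' ^ n) x : C') : V) = (N ^ n) x := by
      intro n
      induction n with
      | zero => simp
      | succ n ihn =>
        intro x
        rw [pow_succ', Module.End.mul_apply, pow_succ', Module.End.mul_apply, ← ihn]
        rfl
    have hpowτ : ∀ (n : ℕ) (x : C'), (((τ' ^ n) x : C') : V) = (τ ^ n) x := by
      intro n
      induction n with
      | zero => simp
      | succ n ihn =>
        intro x
        rw [pow_succ', Module.End.mul_apply, pow_succ', Module.End.mul_apply, ← ihn]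
        rfl
    have hdlt : Module.finrank k C' < d := hd ▸ Submodule.finrank_lt fun h => hvC' (h ▸ trivial)
    let q : Module.End k V := 1 - π
    have hq : ∀ x, q x ∈ C' := fun x => by simpa [q] using hsub x
    have hqN : ∀ x, q (N x) = N (q x) := fun x => by
      simp only [q, LinearMap.sub_apply, Module.End.one_apply, map_sub, ← Module.End.mul_apply, hπN, one_mul]
    have hqτ : ∀ x, q (τ x) = τ (q x) := fun x => by
      simp only [q, LinearMap.sub_apply, Module.End.one_apply, map_sub, ← Module.End.mul_apply, hπτ, one_mul]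
    have hqK : ∀ x, (N ^ (L - 1)) x = 0 → (N ^ (L - 1)) (q x) = 0 ∧ x - q x ∈ LinearMap.range N := by
      intro x hx
      have hπK : (N ^ (L - 1)) (π x) = 0 := by
        rw [← Module.End.mul_apply, ← ((show Commute π N from hπN).pow_right (L - 1)).eq,
          Module.End.mul_apply, hx, map_zero]
      refine ⟨by simp [q, hx, hπK], ?_⟩
      obtain ⟨a, w, hw⟩ := ha x
      have h1 := congrArg (N ^ l) hw
      rw [← Module.End.mul_apply, ← pow_succ, hlz, LinearMap.zero_apply, map_sub, map_smul,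
        show (N ^ l) (π x) = 0 by rw [← hLl]; exact hπK, zero_sub, eq_comm, neg_eq_zero, smul_eq_zero] at h1
      rw [h1.resolve_right hv, zero_smul, sub_zero] at hw
      exact ⟨w, by simp [q, hw]⟩
    refine ih _ hdlt (V := C') (N := N') (τ := τ') (LinearMap.ext fun x => Subtype.ext ?_)
      (LinearMap.ext fun x => Subtype.ext ?_) (LinearMap.ext fun x => Subtype.ext ?_)
      (fun γ hγN hγτ => ?_) ⟨ℓ.comp C'.subtype, fun x => hℓτ x, fun x => hℓN x, ?_⟩
      ⟨ℓ'.comp C'.subtype, fun x => hℓ'τ x, fun x => hℓ'N x, ?_⟩ rfl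
    · rw [hpowτ, hτ]; rfl
    · show τ (N (x : V)) = α • N (τ (x : V))
      exact LinearMap.congr_fun hNτ (x : V)
    · rw [hpowN, hL]; rfl
    · let γ' : Module.End k V := C'.subtype ∘ₗ γ ∘ₗ (q.codRestrict C' hq)
      have hγ'N : γ' * N = N * γ' := LinearMap.ext fun x => by
        have h1 : (q.codRestrict C' hq) (N x) = N' ((q.codRestrict C' hq) x) := Subtype.ext (hqN x)
        show ((γ ((q.codRestrict C' hq) (N x)) : C') : V) = _
        rw [h1, ← Module.End.mul_apply, hγN]
        rfl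
      have hγ'τ : γ' * τ = τ * γ' := LinearMap.ext fun x => by
        have h1 : (q.codRestrict C' hq) (τ x) = τ' ((q.codRestrict C' hq) x) := Subtype.ext (hqτ x)
        show ((γ ((q.codRestrict C' hq) (τ x)) : C') : V) = _
        rw [h1, ← Module.End.mul_apply, hγτ]
        rfl
      obtain ⟨c, hc⟩ := hscal γ' hγ'N hγ'τ
      refine ⟨c, fun x hx => ?_⟩
      have hx' : (N ^ (L - 1)) (x : V) = 0 := by
        rw [← hpowN, hx]; rfl
      obtain ⟨w, hw⟩ := hc (x : V) hx'
      refine ⟨⟨q w, hq w⟩, Subtype.ext ?_⟩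
      show N (q w) = ((γ x : C') : V) - c • (x : V)
      have hxq : (q.codRestrict C' hq) (x : V) = x :=
        Subtype.ext (by simp [q, hπC' (x : V) x.2])
      have hg : γ' (x : V) = ((γ x : C') : V) := by
        show ((γ ((q.codRestrict C' hq) (x : V)) : C') : V) = _
        rw [hxq]
      have hmem : ((γ x : C') : V) - c • (x : V) ∈ C' :=
        sub_mem (γ x).2 (Submodule.smul_mem _ _ x.2)
      rw [← hqN, hw, hg]
      simp [q, hπC' _ hmem]
    · obtain ⟨h1, w, hw⟩ := hqK x₀ hx₀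
      refine ⟨⟨q x₀, hq x₀⟩, Subtype.ext (by rw [hpowN]; exact h1), fun h0 => hℓx₀ ?_⟩
      have h2 := congrArg ℓ hw
      rw [hℓN, map_sub] at h2
      rw [sub_eq_zero.mp h2.symm]
      exact h0
    · obtain ⟨h1, w, hw⟩ := hqK x₁ hx₁
      refine ⟨⟨q x₁, hq x₁⟩, Subtype.ext (by rw [hpowN]; exact h1), fun h0 => hℓx₁ ?_⟩
      have h2 := congrArg ℓ' hw
      rw [hℓ'N, map_sub] at h2
      rw [sub_eq_zero.mp h2.symm]
      exact h0

end CfsgLib.Block.CyclicDefect
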