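import Cfsg.Agent.Lib.Block.CyclicDefect.Setup
import Cfsg.Agent.Lib.Block.CentralizerInduced
import Cfsg.Agent.Lib.Block.NilpotentBijection

/-!
# Frames for a block and its correspondent in an intermediate subgroup

`exists_frames_correspondent`: if the block `c` of `H ≥ C(P)`, `H ≥ N(P)`, with cyclic defect group
`P` induces `B` with the same defect group, both have frames with one order and one inertial index.
-/

open Finset MonoidAlgebra
open scoped ComplexConjugate

set_option autoImplicit false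
set_option linter.unusedSectionVars false

namespace CfsgLib.Block.CyclicDefect

open Cfsg CfsgLib.Block
open scoped Pair

universe u

variable {p : ℕ} {M : Ideal AlgInt} [M.IsMaximal] {G : Type u} [Group G] [Fintype G] [DecidableEq G]
  {H P : Subgroup G}

theorem mem_cq_subgroupOf (hPH : P ≤ H) {x : H} : x ∈ CQ (P.subgroupOf H) ↔ (x : G) ∈ CQ P := by
  constructor
  · intro hx
    exact Subgroup.mem_centralizer_iff.mpr fun u hu =>
      congrArg Subtype.val (Subgroup.mem_centralizer_iff.mp hx ⟨u, hPH hu⟩ hu)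
  · intro hx
    exact Subgroup.mem_centralizer_iff.mpr fun u hu =>
      Subtype.ext (Subgroup.mem_centralizer_iff.mp hx _ hu)

/-- The centralizer in `H` is the centralizer. -/
def cqIn (hPH : P ≤ H) (hC : CQ P ≤ H) : CQ (P.subgroupOf H) ≃* CQ P where
  toFun x := ⟨((x : H) : G), (mem_cq_subgroupOf hPH).mp x.2⟩
  invFun x := ⟨⟨(x : G), hC x.2⟩, (mem_cq_subgroupOf hPH).mpr x.2⟩
  left_inv x := Subtype.ext (Subtype.ext rfl)
  right_inv x := Subtype.ext rfl
  map_mul' a b := Subtype.ext rfl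

theorem mem_normalizer_subgroupOf (hPH : P ≤ H) {x : H} :
    x ∈ Subgroup.normalizer (P.subgroupOf H : Set H) ↔
      (x : G) ∈ Subgroup.normalizer (P : Set G) := by
  rw [Subgroup.mem_normalizer_iff, Subgroup.mem_normalizer_iff]
  constructor
  · intro h u
    refine ⟨fun hu => ?_, fun hu => ?_⟩
    · exact (h ⟨u, hPH hu⟩).mp hu
    · have huH : u ∈ H := by
        have := mul_mem (mul_mem (inv_mem x.2) (hPH hu)) x.2
        rwa [show (x : G)⁻¹ * ((x : G) * u * (x : G)⁻¹) * x = u by group] at this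
      exact (h ⟨u, huH⟩).mpr hu
  · exact fun h u => h (u : G)

/-- The functional of a pair does not depend on the group around it. -/
theorem omG_cqIn (hPH : P ≤ H) (hC : CQ P ≤ H) (ξ : IrrCharacter (CQ P)) (w : ZK M H) :
    omG M (irrEquiv (cqIn hPH hC).symm ξ) (w : MonoidAlgebra (ResField M) H) =
      omG M ξ (emb (w : MonoidAlgebra (ResField M) H) : MonoidAlgebra (ResField M) G) := by
  classical
  set e := cqIn hPH hC with he
  simp only [omG]
  refine Finset.sum_bij' (fun C _ => ConjClasses.mk (e (rep C)))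
    (fun C _ => ConjClasses.mk (e.symm (rep C))) (by simp) (by simp) (fun C _ => ?_) (fun C _ => ?_)
    fun C _ => ?_
  · conv_rhs => rw [← mk_rep C]
    rw [ConjClasses.mk_eq_mk_iff_isConj]
    simpa using e.symm.toMonoidHom.map_isConj (isConj_rep (e (rep C)))
  · conv_rhs => rw [← mk_rep C]
    rw [ConjClasses.mk_eq_mk_iff_isConj]
    simpa using e.toMonoidHom.map_isConj (isConj_rep (e.symm (rep C)))
  obtain ⟨c, hc⟩ := isConj_iff.mp (isConj_rep (e (rep C))).symm
  rw [← hc]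
  congr 1
  · have hcoe : ((c * e (rep C) * c⁻¹ : CQ P) : G) =
        (((⟨(c : G), hC c.2⟩ : H) * ((rep C : CQ (P.subgroupOf H)) : H) *
          (⟨(c : G), hC c.2⟩ : H)⁻¹ : H) : G) := rfl
    rw [hcoe, coeff_emb_coe]
    exact (mem_center_iff_isClassElt.mp w.2 _ _).symm
  · rw [centralRes_conj_elt, ← centralRes_irrEquiv e.symm ξ (e (rep C)), e.symm_apply_apply]

theorem stabilizesBlock_cqIn (hPH : P ≤ H) (hC : CQ P ≤ H) (b : Set (IrrCharacter (CQ P))) {x : H}
    (hxN : (x : G) ∈ Subgroup.normalizer (P : Set G)) :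
    StabilizesBlock (CQ (P.subgroupOf H)) (irrEquiv (cqIn hPH hC).symm '' b) x ↔
      StabilizesBlock (CQ P) b (x : G) := by
  set e := cqIn hPH hC with he
  have hxN' := (mem_normalizer_subgroupOf hPH).mpr hxN
  rw [StabilizesBlock, StabilizesBlock,
    and_iff_right (Subgroup.mem_normalizer_iff.mpr (cq_conj_iff hxN')),
    and_iff_right (Subgroup.mem_normalizer_iff.mpr (cq_conj_iff hxN))]
  constructor
  · intro h χ hχ
    obtain ⟨_, ⟨χ', hχ', rfl⟩, hc⟩ := h _ ⟨χ, hχ, rfl⟩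
    refine ⟨χ', hχ', fun k k' hk => ?_⟩
    have := hc (e.symm k) (e.symm k') (Subtype.ext hk)
    simpa using this
  · rintro h _ ⟨χ, hχ, rfl⟩
    obtain ⟨χ', hχ', hc⟩ := h χ hχ
    refine ⟨_, ⟨χ', hχ', rfl⟩, fun k k' hk => ?_⟩
    simp only [irrEquiv_apply, MulEquiv.symm_symm]
    exact hc (e k) (e k') (congrArg Subtype.val hk)

variable [Fintype (IrrCharacter G)] [Fintype (IrrCharacter H)]

theorem exists_frames_correspondent (hM : IsPModular p M) {B : Set (IrrCharacter G)}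
    (hB : IsPBlock M B) (hPD : IsDefectGroup p M B P) (hP1 : P ≠ ⊥) (hcyc : IsCyclic P)
    (hPH : P ≤ H) (hC : CQ P ≤ H) (hN : Subgroup.normalizer (P : Set G) ≤ H)
    {c : Set (IrrCharacter H)} (hcD : IsDefectGroup p M c (P.subgroupOf H))
    (hc : IsInducedBlock M H c B) :
    ∃ (F : Frame p M G) (F' : Frame p M H),
      F.B = B ∧ F'.B = c ∧ Nat.card F'.P = Nat.card F.P ∧ F'.e = F.e := by
  classical
  haveI : Fact p.Prime := ⟨hM.1⟩
  have := Fintype.ofFinite (ConjClasses H)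
  have hcb : IsPBlock M c := hc.1
  have hPp : IsPGroup p P := isPGroup_defectGroup hM hB hPD
  obtain ⟨g, hg, hne, -⟩ := exists_isSylowCent_of_isDefectGroup hM hcb hcD
  have hgC : (g : G) ∈ CQ P := Subgroup.mem_centralizer_iff.mpr fun u hu =>
    congrArg Subtype.val (hg.1 ⟨u, hPH hu⟩ hu).eq
  obtain ⟨e, he, heq⟩ := exists_pair_of_block hM hPp hPH hC hcb
    ⟨_, hgC, by rwa [coeff_eG]⟩
  obtain ⟨η₀, hη₀⟩ := isPBlock_nonempty hcb
  have hpair : IsBrauerPairOf p M B P e := (isBrauerPairOf_iff_omG hM).mpr ⟨he, hB,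
    fun ξ hξ χ hχ z => by
      rw [omG_eq_omG_resHK hC ξ z, heq ξ hξ η₀ hη₀]
      exact (isInducedBlock_iff.mp hc).2.2 η₀ hη₀ χ hχ z⟩
  have hPC : P ≤ CQ P := fun u hu => Subgroup.mem_centralizer_iff.mpr fun v hv =>
    congrArg Subtype.val ((hcyc.commGroup (α := P)).mul_comm ⟨v, hv⟩ ⟨u, hu⟩)
  let T : Subgroup G :=
    { carrier := {g | g ∈ Subgroup.normalizer (P : Set G) ∧ cj g (eG M e) = eG M e}
      mul_mem' := fun {a b} ha hb => ⟨mul_mem ha.1 hb.1, by rw [← cj_cj, hb.2, ha.2]⟩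
      one_mem' := ⟨one_mem _, cj_one _⟩
      inv_mem' := fun {a} ha => ⟨inv_mem ha.1, by
        conv_lhs => rw [← ha.2, cj_cj, inv_mul_cancel, cj_one]⟩ }
  have hT : ∀ g : G, g ∈ T ↔ g ∈ Subgroup.normalizer (P : Set G) ∧ StabilizesBlock (CQ P) e g :=
    fun g => and_congr_right fun hg => (stabilizesBlock_iff hM hg he.2).symm
  obtain ⟨F, hFB, hFP, -, hFe⟩ := exists_frame hM hB hPD hP1 hcyc
    ((isBrauerPairOf_iff_induced hM hB hPp hPC).mp hpair) hT
  -- inside `H`
  let φ := cqIn hPH hC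
  have hP'p : IsPGroup p (P.subgroupOf H) := hPp.of_equiv (Subgroup.subgroupOfEquivOfLe hPH).symm
  have hP'cyc : IsCyclic (P.subgroupOf H) :=
    have := hcyc
    isCyclic_of_surjective _ (Subgroup.subgroupOfEquivOfLe hPH).symm.surjective
  have hP'1 : P.subgroupOf H ≠ ⊥ := fun h => hP1 (by
    rw [Subgroup.subgroupOf_eq_bot] at h
    exact eq_bot_iff.mpr fun v hv => h.le_bot ⟨hv, hPH hv⟩)
  have hP'C : P.subgroupOf H ≤ CQ (P.subgroupOf H) := fun u hu =>
    (mem_cq_subgroupOf hPH).mpr (hPC hu)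
  have he' : IsBrauerPair p M (P.subgroupOf H) (irrEquiv φ.symm '' e) :=
    ⟨hP'p, isPBlock_image_irrEquiv _ he.2⟩
  have hpair' : IsBrauerPairOf p M c (P.subgroupOf H) (irrEquiv φ.symm '' e) :=
    (isBrauerPairOf_iff_omG hM).mpr ⟨he', hcb, by
      rintro _ ⟨ξ, hξ, rfl⟩ η hη w
      rw [omG_cqIn hPH hC ξ w]
      exact heq ξ hξ η hη w⟩
  obtain ⟨F', hF'B, hF'P, -, hF'e⟩ := exists_frame hM hcb hcD hP'1 hP'cyc
    ((isBrauerPairOf_iff_induced hM hcb hP'p hP'C).mp hpair') (T := T.subgroupOf H) fun x => by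
      rw [Subgroup.mem_subgroupOf, hT, mem_normalizer_subgroupOf hPH]
      exact and_congr_right fun hx => (stabilizesBlock_cqIn hPH hC e hx).symm
  refine ⟨F, F', hFB, hF'B, ?_, ?_⟩
  · rw [hF'P, hFP]
    exact Nat.card_congr (Subgroup.subgroupOfEquivOfLe hPH).toEquiv
  · rw [hFe, hF'e, show CQ (P.subgroupOf H) = (CQ P).subgroupOf H from
      Subgroup.ext fun x => mem_cq_subgroupOf hPH]
    have hTH : T ≤ H := fun g hg => hN hg.1
    exact Subgroup.relIndex_subgroupOf hTH

end CfsgLib.Block.CyclicDefect
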