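import Cfsg.Agent.Lib.Block.CyclicDefect.Isometry
import Cfsg.Agent.Lib.Block.CyclicDefect.Correspondent

/-!
# The perfect isometry with the correspondent in an intermediate subgroup
-/

set_option autoImplicit false
set_option linter.unusedSectionVars false

namespace CfsgLib.Block.CyclicDefect

open Cfsg CfsgLib.Block
open scoped Pair

universe u

variable {p : ℕ} {M : Ideal AlgInt} [M.IsMaximal] {G : Type u} [Group G] [Fintype G] [DecidableEq G]
  [Fintype (IrrCharacter G)] {H P : Subgroup G}

theorem exists_isometry_correspondent (hM : IsPModular p M) {B : Set (IrrCharacter G)}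
    (hB : IsPBlock M B) (hPD : IsDefectGroup p M B P) (hP1 : P ≠ ⊥) (hcyc : IsCyclic P)
    (hPH : P ≤ H) (hC : CQ P ≤ H) (hN : Subgroup.normalizer (P : Set G) ≤ H)
    {c : Set (IrrCharacter H)} (hcD : IsDefectGroup p M c (P.subgroupOf H))
    (hc : IsInducedBlock M H c B) :
    Nat.card c = Nat.card B ∧ blockRank p c = blockRank p B ∧
      ∃ (I : IrrCharacter H → IrrCharacter G) (ε : IrrCharacter H → ℤ),
        IsPerfectIsometry p M c B I ε := by
  classical
  have := Fintype.ofFinite (IrrCharacter H)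
  obtain ⟨F, F', hFB, hFB', hn, hee⟩ :=
    exists_frames_correspondent hM hB hPD hP1 hcyc hPH hC hN hcD hc
  have := Fintype.ofFinite (IrrCharacter (CQ F.Q))
  have := Fintype.ofFinite (IrrCharacter (CQ F'.Q))
  obtain ⟨S⟩ := F.exists_shape
  obtain ⟨S'⟩ := F'.exists_shape
  obtain ⟨I, ε, hI, -, -⟩ := Frame.exists_isometry S S' hn hee
  subst hFB hFB'
  refine ⟨?_, ?_, I, ε, hI⟩
  · rw [S'.card_B, S.card_B, hee]
    have h1 := F'.card_orb_mul
    have h2 := F.card_orb_mul
    rw [hee, hn] at h1
    have := Nat.eq_of_mul_eq_mul_right F.e_pos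
      (show Fintype.card F'.Orb * F.e = Fintype.card F.Orb * F.e by omega)
    omega
  · rw [S'.rank, S.rank, hee]

end CfsgLib.Block.CyclicDefect
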