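import Cfsg.Agent.Lib.Block.Cyclic.OrbitCombinatorics

/-!
# The exceptional vectors from a count

`exists_shape`: vectors with the inner products `e + [k = l]`, orthogonal to a positive vector, on
at least `e + |Q|` points each of which is seen, have exactly that many points, and are
`u + δ · 1_{Y k}` with `u` equal to `±1` off the image of `Y`.
-/

open Finset

set_option autoImplicit false
set_option linter.unusedSectionVars false

namespace CfsgLib.Block.CyclicDefect

open CfsgLib.Block.Cyclic

universe u v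

variable {Q : Type u} {I : Type v} [Fintype Q] [DecidableEq Q] [Fintype I] [DecidableEq I]

theorem exists_shape [Nonempty Q] (v : Q → I → ℤ) (e : ℕ) (deg : I → ℤ)
    (hdeg : ∀ i, 0 < deg i) (h0 : ∀ k, ∑ i, v k i * deg i = 0)
    (hip : ∀ k l, ∑ i, v k i * v l i = (e : ℤ) + if k = l then 1 else 0)
    (hnz : ∀ i, ∃ k, v k i ≠ 0) (hcard : e + Fintype.card Q ≤ Fintype.card I) :
    ∃ (Y : Q → I) (δ : ℤ) (u : I → ℤ), Function.Injective Y ∧ (δ = 1 ∨ δ = -1) ∧
      (∀ l, u (Y l) = 0) ∧ (∀ i, (∀ l, i ≠ Y l) → u i = 1 ∨ u i = -1) ∧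
      (∀ k i, v k i = u i + δ * (if i = Y k then 1 else 0)) ∧
      (Finset.univ.filter fun i => u i ≠ 0).card = e ∧
      Fintype.card I = e + Fintype.card Q := by
  classical
  obtain ⟨k₀⟩ := ‹Nonempty Q›
  have hbounds : (∀ i, (∀ k l, v k i = v l i) → ∀ k, |v k i| ≤ 1) ∧
      (∀ (Y : Q → I) (δ : ℤ), Function.Injective Y → (δ = 1 ∨ δ = -1) →
        (∀ k l i, v k i - v l i = δ * ((if i = Y k then 1 else 0) - (if i = Y l then 1 else 0))) →
        ∀ k, |∑ l, v k (Y l)| ≤ 1) := by
    by_cases hne : ∃ k, k ≠ k₀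
    swap
    · push Not at hne
      have hQ : Fintype.card Q = 1 :=
        Fintype.card_eq_one_iff.mpr ⟨k₀, fun k => hne k⟩
      have h1 := hip k₀ k₀
      rw [if_pos rfl] at h1
      have hge : ∀ i ∈ (Finset.univ : Finset I), (1 : ℤ) ≤ v k₀ i * v k₀ i := fun i _ => by
        obtain ⟨k, hk⟩ := hnz i
        rw [hne k] at hk
        exact Int.add_one_le_iff.mpr (mul_self_pos.mpr hk)
      have hle : ∀ i, v k₀ i * v k₀ i = 1 := by
        intro i
        by_contra hi
        have hlt : ∑ _j : I, (1 : ℤ) < ∑ j, v k₀ j * v k₀ j :=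
          Finset.sum_lt_sum hge ⟨i, Finset.mem_univ _, lt_of_le_of_ne (hge i (Finset.mem_univ _)) (Ne.symm hi)⟩
        rw [h1, Finset.sum_const, Finset.card_univ, nsmul_eq_mul, mul_one] at hlt
        omega
      have habs : ∀ i k, |v k i| ≤ 1 := fun i k => by
        rw [hne k, abs_le]
        rcases Int.eq_one_or_neg_one_of_mul_eq_one (hle i) with h | h <;> rw [h] <;> norm_num
      refine ⟨fun i _ k => habs i k, fun Y δ _ _ _ k => ?_⟩
      rw [Finset.sum_eq_single k₀ (fun l _ hl => absurd (hne l) hl) (fun h => absurd (Finset.mem_univ _) h)]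
      exact habs _ _
    -- the star
    have hw : ∀ k l, k ≠ k₀ → l ≠ k₀ →
        ∑ i, (v k i - v k₀ i) * (v l i - v k₀ i) = if k = l then 2 else 1 := by
      intro k l hk hl
      simp only [sub_mul, mul_sub, Finset.sum_sub_distrib, hip, if_neg hk, if_neg (Ne.symm hl), if_pos]
      split_ifs <;> ring
    obtain ⟨Y₀, δ₀, hY₀, hδ₀, hY'⟩ := exists_star k₀ (fun k i => v k i - v k₀ i) deg hdeg
      (fun k => by simp only [sub_mul, Finset.sum_sub_distrib, h0, sub_self]) (fun i => sub_self _) hw
      hne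
    have hd₀ : ∀ k l i, v k i - v l i =
        δ₀ * ((if i = Y₀ k then 1 else 0) - (if i = Y₀ l then 1 else 0)) := fun k l i => by
      have hk : v k i - v k₀ i = δ₀ * ((if i = Y₀ k then 1 else 0) - (if i = Y₀ k₀ then 1 else 0)) :=
        hY' k i
      have hl : v l i - v k₀ i = δ₀ * ((if i = Y₀ l then 1 else 0) - (if i = Y₀ k₀ then 1 else 0)) :=
        hY' l i
      linarith
    -- the count for any star
    have hcount : ∀ (Y : Q → I) (δ : ℤ), Function.Injective Y → (δ = 1 ∨ δ = -1) →
        (∀ k l i, v k i - v l i = δ * ((if i = Y k then 1 else 0) - (if i = Y l then 1 else 0))) →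
        |∑ l, v k₀ (Y l)| ≤ 1 ∧ (∀ k, ∑ l, v k (Y l) = ∑ l, v k₀ (Y l)) ∧
          ∀ i, (∀ l, i ≠ Y l) → |v k₀ i| ≤ 1 := by
      intro Y δ hY hδ hd
      obtain ⟨k₁, hk₁⟩ := hne
      set u₀ := v k₀ (Y k₀) - δ with hu₀
      have hcross : ∀ l, l ≠ k₀ → v k₀ (Y l) - v k₀ (Y k₀) = -δ := by
        intro l hl
        have h1 : ∑ i, v k₀ i * (v l i - v k₀ i) = -1 := by
          simp only [mul_sub, Finset.sum_sub_distrib, hip, if_pos, if_neg (Ne.symm hl)]
          ring
        have h2 : ∑ i, v k₀ i * (v l i - v k₀ i) = δ * (v k₀ (Y l) - v k₀ (Y k₀)) := by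
          rw [Finset.sum_congr rfl fun i _ => by rw [hd l k₀ i]]
          simp only [mul_sub, mul_ite, mul_one, mul_zero, Finset.sum_sub_distrib, Finset.sum_ite_eq',
            Finset.mem_univ, if_true]
          ring
        rw [h2] at h1
        rcases hδ with rfl | rfl <;> omega
      have hval : ∀ l, v k₀ (Y l) = u₀ + δ * (if l = k₀ then 1 else 0) := by
        intro l
        by_cases hl : l = k₀
        · subst hl; simp [u₀]
        · rw [if_neg hl, hu₀]
          have := hcross l hl
          omega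
      have hsum : ∀ k, ∑ l, v k (Y l) = ∑ l, v k₀ (Y l) := by
        intro k
        rw [← sub_eq_zero, ← Finset.sum_sub_distrib, Finset.sum_congr rfl fun l _ => hd k k₀ (Y l),
          ← Finset.mul_sum, Finset.sum_sub_distrib]
        simp [hY.eq_iff]
      set R := Finset.univ.filter (fun i => ∀ l, i ≠ Y l) with hR
      have hRne : ∀ i ∈ R, 1 ≤ v k₀ i * v k₀ i := by
        intro i hi
        have hi' := (Finset.mem_filter.mp hi).2
        obtain ⟨k, hk⟩ := hnz i
        have := hd k k₀ i
        rw [if_neg (hi' k), if_neg (hi' k₀), sub_self, mul_zero, sub_eq_zero] at this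
        rw [this] at hk
        exact Int.add_one_le_iff.mpr (mul_self_pos.mpr hk)
      have hsplit : Finset.univ = Finset.univ.image Y ∪ R := by
        ext i
        simp only [hR, Finset.mem_univ, Finset.mem_union, Finset.mem_image, true_and, Finset.mem_filter,
          true_iff]
        by_cases h : ∃ l, Y l = i
        · exact Or.inl h
        · exact Or.inr fun l hl => h ⟨l, hl.symm⟩
      have hdisj : Disjoint (Finset.univ.image Y) R := by
        rw [Finset.disjoint_left]
        intro i hi hi'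
        obtain ⟨l, -, rfl⟩ := Finset.mem_image.mp hi
        exact (Finset.mem_filter.mp hi').2 l rfl
      have hcardR : e ≤ R.card := by
        have := congrArg Finset.card hsplit
        rw [Finset.card_union_of_disjoint hdisj, Finset.card_image_of_injective _ hY, Finset.card_univ,
          Finset.card_univ] at this
        omega
      have hnorm := hip k₀ k₀
      rw [if_pos rfl, show (∑ i, v k₀ i * v k₀ i) = ∑ i ∈ Finset.univ.image Y ∪ R, v k₀ i * v k₀ i by
        rw [← hsplit], Finset.sum_union hdisj, Finset.sum_image fun a _ b _ h => hY h,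
        Finset.sum_congr rfl (fun l _ => by
          show v k₀ (Y l) * v k₀ (Y l) = u₀ * u₀ + (if l = k₀ then 2 * δ * u₀ + 1 else 0)
          rw [hval l]
          split_ifs <;> rcases hδ with rfl | rfl <;> ring),
        Finset.sum_add_distrib, Finset.sum_const, Finset.card_univ, Finset.sum_ite_eq',
        if_pos (Finset.mem_univ _), nsmul_eq_mul] at hnorm
      have hRge : (R.card : ℤ) ≤ ∑ i ∈ R, v k₀ i * v k₀ i := by
        have h := Finset.sum_le_sum hRne
        rwa [Finset.sum_const, nsmul_eq_mul, mul_one] at h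
      have hm : (2 : ℤ) ≤ (Fintype.card Q : ℤ) := by
        exact_mod_cast Fintype.one_lt_card_iff.mpr ⟨k₁, k₀, hk₁⟩
      have he : (e : ℤ) ≤ R.card := by exact_mod_cast hcardR
      set m : ℤ := (Fintype.card Q : ℤ) with hmdef
      have hu : u₀ = 0 ∨ (m = 2 ∧ u₀ = -δ) := by
        have hq : m * (u₀ * u₀) + 2 * δ * u₀ ≤ 0 := by linarith
        have hb : -1 ≤ u₀ ∧ u₀ ≤ 1 := by
          rcases hδ with rfl | rfl <;> constructor <;> nlinarith
        rcases hδ with rfl | rfl
        · obtain h | h | h : u₀ = -1 ∨ u₀ = 0 ∨ u₀ = 1 := by omega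
          · rw [h] at hq; exact Or.inr ⟨by omega, by omega⟩
          · exact Or.inl h
          · rw [h] at hq; omega
        · obtain h | h | h : u₀ = -1 ∨ u₀ = 0 ∨ u₀ = 1 := by omega
          · rw [h] at hq; omega
          · exact Or.inl h
          · rw [h] at hq; exact Or.inr ⟨by omega, by omega⟩
      refine ⟨?_, hsum, fun i hi => ?_⟩
      · rw [Finset.sum_congr rfl fun l _ => hval l, Finset.sum_add_distrib, Finset.sum_const,
          Finset.card_univ, nsmul_eq_mul, ← Finset.mul_sum, Finset.sum_ite_eq',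
          if_pos (Finset.mem_univ _), mul_one, ← hmdef, abs_le]
        rcases hu with h | ⟨h2, h⟩
        · rw [h]; rcases hδ with rfl | rfl <;> omega
        · rw [h, h2]; rcases hδ with rfl | rfl <;> omega
      · have htot : ∑ j ∈ R, v k₀ j * v k₀ j ≤ R.card := by
          rcases hu with h | ⟨h2, h⟩
          · rw [h] at hnorm; linarith
          · rw [h, h2] at hnorm
            rcases hδ with rfl | rfl <;> linarith
        have hiR : i ∈ R := Finset.mem_filter.mpr ⟨Finset.mem_univ _, hi⟩
        by_contra hbig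
        have hgt : (1 : ℤ) < v k₀ i * v k₀ i := by
          rw [not_le, lt_abs] at hbig
          rcases hbig with h | h <;> nlinarith
        have := Finset.sum_lt_sum hRne ⟨i, hiR, hgt⟩
        rw [Finset.sum_const, nsmul_eq_mul, mul_one] at this
        linarith
    refine ⟨fun i hi k => ?_, fun Y δ hY hδ hd k => ?_⟩
    · rw [hi k k₀]
      refine (hcount Y₀ δ₀ hY₀ hδ₀ hd₀).2.2 i fun l hl => ?_
      obtain ⟨l', hl'⟩ : ∃ l', l' ≠ l := by
        obtain ⟨k₁, hk₁⟩ := hne
        by_cases h : l = k₀
        · exact ⟨k₁, h ▸ hk₁⟩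
        · exact ⟨k₀, Ne.symm h⟩
      have h := hd₀ l l' i
      rw [if_pos hl, if_neg (fun e => hl' (hY₀ (e.symm.trans hl))), sub_eq_zero.mpr (hi l l')] at h
      rcases hδ₀ with rfl | rfl <;> norm_num at h
    · rw [(hcount Y δ hY hδ hd).2.1 k]
      exact (hcount Y δ hY hδ hd).1
  obtain ⟨hone, hfam⟩ := hbounds
  obtain ⟨Y, δ, u, hY, hδ, hu0, hub, hv, hucard⟩ := exists_exceptional v e deg hdeg h0 hip hone hfam
  have hu1 : ∀ i, (∀ l, i ≠ Y l) → u i ≠ 0 := by
    intro i hi hui
    obtain ⟨k, hk⟩ := hnz i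
    rw [hv k i, hui, if_neg (hi k), mul_zero, add_zero] at hk
    exact hk rfl
  refine ⟨Y, δ, u, hY, hδ, hu0, fun i hi => (hub i).resolve_left (hu1 i hi), hv, hucard, ?_⟩
  have hsplit : Finset.univ = Finset.univ.image Y ∪ (Finset.univ.filter fun i => u i ≠ 0) := by
    ext i
    simp only [Finset.mem_univ, Finset.mem_union, Finset.mem_image, true_and, Finset.mem_filter,
      true_iff]
    by_cases h : ∃ l, Y l = i
    · exact Or.inl h
    · exact Or.inr (hu1 i fun l hl => h ⟨l, hl.symm⟩)
  have hdisj : Disjoint (Finset.univ.image Y) (Finset.univ.filter fun i => u i ≠ 0) := by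
    rw [Finset.disjoint_left]
    intro i hi hi'
    obtain ⟨l, -, rfl⟩ := Finset.mem_image.mp hi
    exact (Finset.mem_filter.mp hi').2 (hu0 l)
  have := congrArg Finset.card hsplit
  rw [Finset.card_union_of_disjoint hdisj, Finset.card_image_of_injective _ hY, Finset.card_univ,
    Finset.card_univ, hucard] at this
  omega

end CfsgLib.Block.CyclicDefect
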