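import Cfsg.Agent.Lib.Block.CyclicDefect.Higman
import Cfsg.Agent.Lib.Block.Points
import Mathlib.LinearAlgebra.Eigenspace.Triangularizable

/-!
# A twisted local model meets as many points as its twisting index

For each of the `e` eigenvalues some simple module of the block has that non-projective head in the
corner, and modules with a common point are isomorphic.
-/

open Finset MonoidAlgebra

set_option autoImplicit false
set_option linter.unusedSectionVars false

namespace CfsgLib.Block.CyclicDefect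

open CfsgLib.Block CfsgLib.Block.Points

universe u v w

variable {k : Type v} [Field k] {G : Type u} [Group G] [Fintype G] [DecidableEq G]

open scoped Classical in
/-- Truncation to a subgroup. -/
noncomputable def cut (H : Subgroup G) : MonoidAlgebra k G →ₗ[k] MonoidAlgebra k G where
  toFun y := gaOfFun fun g => if g ∈ H then y.coeff g else 0
  map_add' y y' := ga_ext fun g => by by_cases h : g ∈ H <;> simp [h]
  map_smul' c y := ga_ext fun g => by by_cases h : g ∈ H <;> simp [h]

theorem coeff_cut (H : Subgroup G) (y : MonoidAlgebra k G) (g : G) [Decidable (g ∈ H)] :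
    (cut H y).coeff g = if g ∈ H then y.coeff g else 0 := by
  simp only [cut, LinearMap.coe_mk, AddHom.coe_mk, coeff_gaOfFun]
  congr 1

theorem suppIn_cut (H : Subgroup G) (y : MonoidAlgebra k G) : SuppIn H (cut H y) := fun g hg => by
  classical
  rw [coeff_cut, if_neg hg]

theorem cut_mul_left {H : Subgroup G} {a : MonoidAlgebra k G} (ha : SuppIn H a)
    (y : MonoidAlgebra k G) : cut H (a * y) = a * cut H y := by
  classical
  refine ga_ext fun g => ?_
  rw [coeff_cut, coeff_mul_sum, coeff_mul_sum]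
  by_cases hg : g ∈ H
  · rw [if_pos hg]
    refine Finset.sum_congr rfl fun x _ => ?_
    by_cases hx : x ∈ H
    · rw [coeff_cut, if_pos (H.mul_mem (H.inv_mem hx) hg)]
    · rw [ha x hx, zero_mul, zero_mul]
  · rw [if_neg hg]
    refine (Finset.sum_eq_zero fun x _ => ?_).symm
    by_cases hx : x ∈ H
    · rw [coeff_cut, if_neg fun h => hg (by simpa using H.mul_mem hx h), mul_zero]
    · rw [ha x hx, zero_mul]

theorem cut_mul_right {H : Subgroup G} {a : MonoidAlgebra k G} (ha : SuppIn H a)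
    (y : MonoidAlgebra k G) : cut H (y * a) = cut H y * a := by
  classical
  refine ga_ext fun g => ?_
  rw [coeff_cut, coeff_mul_sum, coeff_mul_sum]
  by_cases hg : g ∈ H
  · rw [if_pos hg]
    refine Finset.sum_congr rfl fun x _ => ?_
    by_cases hx : x ∈ H
    · rw [coeff_cut, if_pos hx]
    · rw [ha (x⁻¹ * g) fun h => hx (by simpa using H.mul_mem hg (H.inv_mem h)), mul_zero, mul_zero]
  · rw [if_neg hg]
    refine (Finset.sum_eq_zero fun x _ => ?_).symm
    by_cases hx : x ∈ H
    · rw [ha (x⁻¹ * g) fun h => hg (by simpa using H.mul_mem hx h), mul_zero]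
    · rw [coeff_cut, if_neg hx, zero_mul]

/-- A functional vanishing on the kernel factors through a map. -/
theorem exists_factor {V W : Type*} [AddCommGroup V] [Module k V] [AddCommGroup W] [Module k W]
    (A : V →ₗ[k] W) (ℓ : V →ₗ[k] k) (h : ∀ x, A x = 0 → ℓ x = 0) :
    ∃ lam : W →ₗ[k] k, ∀ x, lam (A x) = ℓ x := by
  have hm : ℓ ∈ LinearMap.range A.dualMap := by
    rw [LinearMap.range_dualMap_eq_dualAnnihilator_ker, Submodule.mem_dualAnnihilator]
    exact fun x hx => h x hx
  obtain ⟨lam, hlam⟩ := hm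
  exact ⟨lam, fun x => LinearMap.congr_fun hlam x⟩

variable {V : Type w} [AddCommGroup V] [Module k V]

/-- The action on a stable subspace. -/
noncomputable def subAct (Φ : MonoidAlgebra k G →ₐ[k] Module.End k V) (S : Submodule k V)
    (hS : ∀ z, ∀ x ∈ S, Φ z x ∈ S) : MonoidAlgebra k G →ₐ[k] Module.End k S :=
  AlgHom.ofLinearMap
    { toFun := fun z => (Φ z).restrict (hS z)
      map_add' := fun y z => LinearMap.ext fun x => Subtype.ext (by simp)
      map_smul' := fun c y => LinearMap.ext fun x => Subtype.ext (by simp) }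
    (LinearMap.ext fun x => Subtype.ext (by simp))
    (fun y z => LinearMap.ext fun x => Subtype.ext (by simp))

theorem subAct_apply (Φ : MonoidAlgebra k G →ₐ[k] Module.End k V) (S : Submodule k V)
    (hS : ∀ z, ∀ x ∈ S, Φ z x ∈ S) (z : MonoidAlgebra k G) (x : S) :
    ((subAct Φ S hS z x : S) : V) = Φ z (x : V) := rfl

/-- The action on the quotient by a stable subspace. -/
noncomputable def quotAct (Φ : MonoidAlgebra k G →ₐ[k] Module.End k V) (S : Submodule k V)
    (hS : ∀ z, ∀ x ∈ S, Φ z x ∈ S) : MonoidAlgebra k G →ₐ[k] Module.End k (V ⧸ S) :=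
  AlgHom.ofLinearMap
    { toFun := fun z => S.mapQ S (Φ z) (hS z)
      map_add' := fun y z => Submodule.linearMap_qext _ (LinearMap.ext fun x => by simp)
      map_smul' := fun c y => Submodule.linearMap_qext _ (LinearMap.ext fun x => by simp) }
    (Submodule.linearMap_qext _ (LinearMap.ext fun x => by simp))
    (fun y z => Submodule.linearMap_qext _ (LinearMap.ext fun x => by simp))

theorem quotAct_mk (Φ : MonoidAlgebra k G →ₐ[k] Module.End k V) (S : Submodule k V)
    (hS : ∀ z, ∀ x ∈ S, Φ z x ∈ S) (z : MonoidAlgebra k G) (x : V) :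
    quotAct Φ S hS z (Submodule.Quotient.mk x) = Submodule.Quotient.mk (Φ z x) := rfl

/-- No stable subspaces but the trivial ones. -/
def IsSimpleAct (Φ : MonoidAlgebra k G →ₐ[k] Module.End k V) : Prop :=
  ∀ S : Submodule k V, (∀ z, ∀ x ∈ S, Φ z x ∈ S) → S = ⊥ ∨ S = ⊤

theorem schur [IsAlgClosed k] [FiniteDimensional k V] [Nontrivial V]
    {Φ : MonoidAlgebra k G →ₐ[k] Module.End k V} (hsimp : IsSimpleAct Φ) (β : Module.End k V)
    (hβ : ∀ g : G, Commute (Φ (single g 1)) β) : ∃ c : k, β = c • 1 := by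
  obtain ⟨c, hc⟩ := Module.End.exists_eigenvalue β
  refine ⟨c, ?_⟩
  have hall : ∀ z, Commute (Φ z) β := fun z => by
    induction z using MonoidAlgebra.induction_linear with
    | zero => rw [map_zero]; exact Commute.zero_left β
    | add y y' hy hy' => rw [map_add]; exact hy.add_left hy'
    | single g r =>
      rw [show (single g r : MonoidAlgebra k G) = r • single g 1 by
        rw [MonoidAlgebra.smul_single, smul_eq_mul, mul_one], map_smul]
      exact (hβ g).smul_left r
  rcases hsimp (Module.End.eigenspace β c) (fun z x hx => by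
    rw [Module.End.mem_eigenspace_iff] at hx ⊢
    rw [← Module.End.mul_apply, ← (hall z).eq, Module.End.mul_apply, hx, map_smul]) with h | h
  · exact absurd h (Module.End.hasEigenvalue_iff.mp hc)
  · refine LinearMap.ext fun x => ?_
    have hx : x ∈ Module.End.eigenspace β c := h ▸ trivial
    exact Module.End.mem_eigenspace_iff.mp hx

variable [IsAlgClosed k]

namespace TwistData

variable (X : TwistData k G)

theorem occurs_sub (Φ : MonoidAlgebra k G →ₐ[k] Module.End k V) (S : Submodule k V)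
    (hS : ∀ z, ∀ x ∈ S, Φ z x ∈ S) {ν : k} (h : Occurs (X.opN Φ) (X.opS Φ) X.L ν) :
    Occurs (X.opN (subAct Φ S hS)) (X.opS (subAct Φ S hS)) X.L ν ∨
      Occurs (X.opN (quotAct Φ S hS)) (X.opS (quotAct Φ S hS)) X.L ν := by
  classical
  obtain ⟨ℓ, hℓτ, hℓN, x₀, hx₀, hℓx₀⟩ := h
  set MS := X.cornerSub (subAct Φ S hS)
  let inc : MS →ₗ[k] X.cornerSub Φ :=
    { toFun := fun x => ⟨((x : S) : V), (X.mem_cornerSub Φ).mpr
        (congrArg Subtype.val ((X.mem_cornerSub (subAct Φ S hS)).mp x.2))⟩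
      map_add' := fun _ _ => rfl
      map_smul' := fun _ _ => rfl }
  have hincS : ∀ x, inc (X.opS (subAct Φ S hS) x) = X.opS Φ (inc x) := fun x => rfl
  have hincN : ∀ x, inc (X.opN (subAct Φ S hS) x) = X.opN Φ (inc x) := fun x => rfl
  have hincP : ∀ (n : ℕ) x, inc ((X.opN (subAct Φ S hS) ^ n) x) = (X.opN Φ ^ n) (inc x) := fun n x =>
    Subtype.ext (by
      rw [opN_pow_apply]
      show (((X.opN (subAct Φ S hS) ^ n) x : MS) : S).1 = _
      rw [opN_pow_apply]
      rfl)
  have hincinj : Function.Injective inc := fun x y hxy =>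
    Subtype.ext (Subtype.ext (congrArg (fun z : X.cornerSub Φ => (z : V)) hxy))
  by_cases hsub : ∃ x : MS, (X.opN (subAct Φ S hS) ^ (X.L - 1)) x = 0 ∧ ℓ (inc x) ≠ 0
  · obtain ⟨x, hx, hℓx⟩ := hsub
    exact Or.inl ⟨ℓ.comp inc, fun y => by rw [LinearMap.comp_apply, hincS, hℓτ]; rfl,
      fun y => by rw [LinearMap.comp_apply, hincN, hℓN], x, hx, hℓx⟩
  push Not at hsub
  right
  set A : Module.End k (X.cornerSub Φ) := X.opN Φ ^ (X.L - 1) with hA
  have hAN : ∀ x, A (X.opN Φ x) = 0 := fun x => by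
    rw [hA, ← Module.End.mul_apply, ← pow_succ, Nat.sub_add_cancel X.L_pos, X.opN_pow]
    rfl
  have hτA : ∀ x, X.opS Φ (A x) = X.α ^ (X.L - 1) • A (X.opS Φ x) := fun x => by
    rw [hA, ← Module.End.mul_apply, pow_comm_smul (X.opS_opN Φ), LinearMap.smul_apply,
      Module.End.mul_apply]
  -- the correcting functional
  obtain ⟨lam, hlamS, hlamν⟩ : ∃ lam : X.cornerSub Φ →ₗ[k] k,
      (∀ x : MS, lam (A (inc x)) = ℓ (inc x)) ∧
      ∀ y, lam (A (X.opS Φ y)) = ν * lam (A y) := by
    by_cases hzero : ∀ x : MS, ℓ (inc x) = 0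
    · exact ⟨0, fun x => by rw [LinearMap.zero_apply, hzero], fun y => by simp⟩
    push Not at hzero
    obtain ⟨x₁, hx₁⟩ := hzero
    obtain ⟨lam₀, hlam₀⟩ := exists_factor (A.comp inc) (ℓ.comp inc) fun x hx => by
      refine hsub x (hincinj ?_)
      rw [map_zero, hincP]
      exact hx
    obtain ⟨μ, P, hP1, hP2, hsum, hfix⟩ := exists_projections X.he X.hξ (X.opS_pow Φ)
    obtain ⟨μ', P', hP'1, -, hsum', -⟩ := exists_projections X.he X.hξ (X.opS_pow (subAct Φ S hS))
    set c := X.α ^ (X.L - 1) * ν with hc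
    have heig : ∀ r, ℓ (inc (P' r x₁)) ≠ 0 → μ' r = ν := by
      intro r hr
      have h1 := hℓτ (inc (P' r x₁))
      rw [← hincS, hP'1, map_smul, map_smul, smul_eq_mul] at h1
      exact mul_right_cancel₀ hr h1
    obtain ⟨r, hr⟩ : ∃ r, ℓ (inc (P' r x₁)) ≠ 0 := by
      by_contra hall
      push Not at hall
      exact hx₁ (by rw [← hsum' x₁, map_sum, map_sum]; exact Finset.sum_eq_zero fun r _ => hall r)
    have hAv : A (inc (P' r x₁)) ≠ 0 := fun h0 => hr (hsub _ (hincinj (by rw [map_zero, hincP]; exact h0)))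
    have hτeig : ∀ (r : Fin X.e) (x : MS),
        X.opS Φ (A (inc (P' r x))) = (X.α ^ (X.L - 1) * μ' r) • A (inc (P' r x)) := fun r x => by
      rw [hτA, ← hincS, hP'1, map_smul, map_smul, smul_smul]
    obtain ⟨j, hj⟩ : ∃ j, P j (A (inc (P' r x₁))) ≠ 0 := by
      by_contra hall
      push Not at hall
      exact hAv (by rw [← hsum (A _)]; exact Finset.sum_eq_zero fun j _ => hall j)
    have hμj : μ j = c := by
      have h1 := hP2 j (A (inc (P' r x₁)))
      rw [hτeig, map_smul, heig r hr] at h1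
      exact (smul_left_injective k hj h1).symm
    refine ⟨lam₀.comp (P j), fun x => ?_, fun y => ?_⟩
    · conv_lhs => rw [← hsum' x, map_sum, map_sum, LinearMap.comp_apply, map_sum, map_sum]
      conv_rhs => rw [← hsum' x, map_sum, map_sum]
      refine Finset.sum_congr rfl fun r' _ => ?_
      by_cases hr' : μ' r' = ν
      · rw [hfix j _ (by rw [hμj, hτeig, hr'])]
        exact hlam₀ (P' r' x)
      · have hz : ℓ (inc (P' r' x)) = 0 := by
          by_contra hne
          refine hr' ?_
          have h1 := hℓτ (inc (P' r' x))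
          rw [← hincS, hP'1, map_smul, map_smul, smul_eq_mul] at h1
          exact mul_right_cancel₀ hne h1
        rw [hz]
        have h1 := hP2 j (A (inc (P' r' x)))
        rw [hτeig, map_smul, hμj, hc] at h1
        by_cases hP0 : P j (A (inc (P' r' x))) = 0
        · rw [hP0, map_zero]
        · have hα : X.α ^ (X.L - 1) ≠ 0 := fun h0 => hAv (by
            have h2 := congrArg (X.opS Φ ^ (X.e - 1)) (hτeig r x₁)
            rw [h0, zero_mul, zero_smul, map_zero, ← Module.End.mul_apply, ← pow_succ,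
              Nat.sub_add_cancel (Nat.pos_of_ne_zero fun he0 => X.he (by rw [he0, Nat.cast_zero])),
              X.opS_pow, LinearMap.smul_apply, Module.End.one_apply, smul_eq_zero] at h2
            exact h2.resolve_left X.hξ)
          exact absurd (mul_left_cancel₀ hα (smul_left_injective k hP0 h1)) hr'
    · have h1 : P j (X.opS Φ (A y)) = c • P j (A y) := by rw [hP2, hμj]
      rw [hτA, map_smul] at h1
      have h2 := congrArg lam₀ h1
      rw [map_smul, map_smul, smul_eq_mul, smul_eq_mul, hc, mul_assoc] at h2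
      have hα : X.α ^ (X.L - 1) ≠ 0 := fun h0 => hAv (by
        have h3 := congrArg (X.opS Φ ^ (X.e - 1)) (hτeig r x₁)
        rw [h0, zero_mul, zero_smul, map_zero, ← Module.End.mul_apply, ← pow_succ,
          Nat.sub_add_cancel (Nat.pos_of_ne_zero fun he0 => X.he (by rw [he0, Nat.cast_zero])),
          X.opS_pow, LinearMap.smul_apply, Module.End.one_apply, smul_eq_zero] at h3
        exact h3.resolve_left X.hξ)
      exact mul_left_cancel₀ hα h2
  let ℓ' : X.cornerSub Φ →ₗ[k] k := ℓ - lam.comp A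
  let q : X.cornerSub Φ →ₗ[k] X.cornerSub (quotAct Φ S hS) :=
    { toFun := fun x => ⟨Submodule.Quotient.mk (x : V), (X.mem_cornerSub _).mpr (by
        rw [quotAct_mk, (X.mem_cornerSub Φ).mp x.2])⟩
      map_add' := fun _ _ => rfl
      map_smul' := fun _ _ => rfl }
  have hqsurj : Function.Surjective q := by
    intro z
    obtain ⟨y, hy⟩ := Submodule.Quotient.mk_surjective S (z : V ⧸ S)
    refine ⟨⟨Φ X.i y, _, rfl⟩, Subtype.ext ?_⟩
    show Submodule.Quotient.mk (Φ X.i y) = (z : V ⧸ S)
    rw [← quotAct_mk Φ S hS, hy, (X.mem_cornerSub _).mp z.2]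
  obtain ⟨ℓq, hℓq⟩ := exists_factor q ℓ' fun x hx => by
    have hxS : (x : V) ∈ S := (Submodule.Quotient.mk_eq_zero S).mp (congrArg Subtype.val hx)
    let x' : MS := ⟨⟨(x : V), hxS⟩, (X.mem_cornerSub _).mpr
      (Subtype.ext ((X.mem_cornerSub Φ).mp x.2))⟩
    have : inc x' = x := rfl
    simp only [ℓ', LinearMap.sub_apply, LinearMap.comp_apply, ← this, hlamS, sub_self]
  have hqS : ∀ x, q (X.opS Φ x) = X.opS (quotAct Φ S hS) (q x) := fun x => rfl
  have hqN : ∀ x, q (X.opN Φ x) = X.opN (quotAct Φ S hS) (q x) := fun x => rfl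
  refine ⟨ℓq, fun z => ?_, fun z => ?_, q x₀, ?_, ?_⟩
  · obtain ⟨y, rfl⟩ := hqsurj z
    rw [← hqS, hℓq, hℓq]
    simp only [ℓ', LinearMap.sub_apply, LinearMap.comp_apply, hℓτ, hlamν]
    ring
  · obtain ⟨y, rfl⟩ := hqsurj z
    rw [← hqN, hℓq]
    simp only [ℓ', LinearMap.sub_apply, LinearMap.comp_apply, hℓN, hAN, map_zero, sub_self]
  · refine Subtype.ext ?_
    rw [opN_pow_apply]
    show quotAct Φ S hS (X.N ^ (X.L - 1)) (Submodule.Quotient.mk (x₀ : V)) = _
    rw [quotAct_mk, ← X.opN_pow_apply Φ, hx₀]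
    rfl
  · rw [hℓq]
    simp only [ℓ', LinearMap.sub_apply, LinearMap.comp_apply]
    rw [show A x₀ = 0 from hx₀, map_zero, sub_zero]
    exact hℓx₀

/-- Some simple module below has the head. -/
theorem exists_simple_occurs (eB : MonoidAlgebra k G) {ν : k} [FiniteDimensional k V]
    (Φ : MonoidAlgebra k G →ₐ[k] Module.End k V) (hB : Φ eB = 1)
    (h : Occurs (X.opN Φ) (X.opS Φ) X.L ν) :
    ∃ (W : Type w) (_ : AddCommGroup W) (_ : Module k W) (_ : FiniteDimensional k W)
      (Ψ : MonoidAlgebra k G →ₐ[k] Module.End k W),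
      Ψ eB = 1 ∧ Nontrivial W ∧ IsSimpleAct Ψ ∧ Occurs (X.opN Ψ) (X.opS Ψ) X.L ν := by
  classical
  induction hd : Module.finrank k V using Nat.strong_induction_on generalizing V with
  | _ d ih =>
  have hnt : Nontrivial V := by
    obtain ⟨ℓ, -, -, x, -, hx⟩ := h
    refine ⟨(x : V), 0, fun e => hx ?_⟩
    rw [show x = 0 from Subtype.ext e, map_zero]
  by_cases hsimp : IsSimpleAct Φ
  · exact ⟨V, ‹_›, ‹_›, ‹_›, Φ, hB, hnt, hsimp, h⟩
  rw [IsSimpleAct] at hsimp
  push Not at hsimp
  obtain ⟨S, hS, hbot, htop⟩ := hsimp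
  rcases X.occurs_sub Φ S hS h with h' | h'
  · exact ih _ (hd ▸ Submodule.finrank_lt htop) (subAct Φ S hS)
      (LinearMap.ext fun x => Subtype.ext (by rw [subAct_apply, hB]; rfl)) h' rfl
  · refine ih _ ?_ (quotAct Φ S hS)
      (Submodule.linearMap_qext _ (LinearMap.ext fun x => by
        simp only [LinearMap.comp_apply, Submodule.mkQ_apply, quotAct_mk, hB]; rfl)) h' rfl
    have h1 := S.finrank_quotient_add_finrank
    have h2 : 0 < Module.finrank k S := by
      rw [Nat.pos_iff_ne_zero]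
      exact fun h0 => hbot (Submodule.finrank_eq_zero.mp h0)
    omega

/-- An eigenvalue occurs at most once on a simple module and its isomorphic copies. -/
theorem occurs_eq_of_common_point [FiniteDimensional k V] {W : Type w} [AddCommGroup W] [Module k W]
    [FiniteDimensional k W] {Φ : MonoidAlgebra k G →ₐ[k] Module.End k V}
    {Ψ : MonoidAlgebra k G →ₐ[k] Module.End k W} [Nontrivial V] [Nontrivial W]
    (hV : IsSimpleAct Φ) (hW : IsSimpleAct Ψ) {r : MonoidAlgebra k G} (hr : IsPt r)
    (hrV : Φ r ≠ 0) (hrW : Ψ r ≠ 0) {ν ν' : k} (h : Occurs (X.opN Φ) (X.opS Φ) X.L ν)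
    (h' : Occurs (X.opN Ψ) (X.opS Ψ) X.L ν') : ν = ν' := by
  classical
  haveI : FiniteDimensional k (MonoidAlgebra k G) := inferInstance
  have key : ∀ {U : Type w} [AddCommGroup U] [Module k U] [Nontrivial U]
      (Θ : MonoidAlgebra k G →ₐ[k] Module.End k U) (_ : IsSimpleAct Θ) (v : U)
      (_ : Θ r v = v) (_ : v ≠ 0),
      Function.Surjective (fun y => Θ y v) ∧
        ∀ y, Θ y v = 0 ↔ ∀ a, val k hr (a * y * r) = 0 := by
    intro U _ _ _ Θ hΘ v hv hv0
    have hsurj : Function.Surjective (fun y => Θ y v) := by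
      let S : Submodule k U := LinearMap.range ((LinearMap.applyₗ v).comp Θ.toLinearMap)
      rcases hΘ S (fun z x hx => by
        obtain ⟨y, rfl⟩ := hx
        exact ⟨z * y, by simp [map_mul]⟩) with h0 | h0
      · exfalso
        have : v ∈ S := ⟨r, hv⟩
        rw [h0] at this
        exact hv0 this
      · intro u
        have : u ∈ S := h0 ▸ trivial
        obtain ⟨y, hy⟩ := this
        exact ⟨y, hy⟩
    refine ⟨hsurj, fun y => ⟨fun hy a => ?_, fun hall => ?_⟩⟩
    · have hz : Θ (r * (a * y * r) * r) v = 0 := by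
        rw [show r * (a * y * r) * r = r * a * y * (r * r) by simp only [mul_assoc], hr.idem,
          map_mul, Module.End.mul_apply, hv, map_mul, Module.End.mul_apply, hy, map_zero]
      obtain ⟨m, hm⟩ := val_nil (k := k) hr (a * y * r)
      set c := val k hr (a * y * r)
      by_contra hc
      have h1 : Θ (r * (a * y * r) * r - c • r) v = -c • v := by
        rw [map_sub, LinearMap.sub_apply, hz, map_smul, LinearMap.smul_apply, hv, zero_sub, neg_smul]
      have h2 : ∀ n, Θ ((r * (a * y * r) * r - c • r) ^ n) v = (-c) ^ n • v := by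
        intro n
        induction n with
        | zero => simp
        | succ n ihn =>
          rw [pow_succ, map_mul, Module.End.mul_apply, h1, map_smul, ihn, smul_smul, ← pow_succ']
      have h3 := h2 m
      rw [hm, map_zero, LinearMap.zero_apply, eq_comm, smul_eq_zero] at h3
      exact pow_ne_zero m (neg_ne_zero.mpr hc) (h3.resolve_right hv0)
    · by_contra hy
      let S : Submodule k U := LinearMap.range ((LinearMap.applyₗ (Θ y v)).comp Θ.toLinearMap)
      obtain ⟨z, hz⟩ : ∃ z, Θ z (Θ y v) = v := by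
        rcases hΘ S (fun z x hx => by
          obtain ⟨w, rfl⟩ := hx
          exact ⟨z * w, by simp [map_mul]⟩) with h0 | h0
        · exfalso
          have : Θ y v ∈ S := ⟨1, by simp⟩
          rw [h0] at this
          exact hy this
        · have : v ∈ S := h0 ▸ trivial
          exact this
      have h1 : Θ (r * (z * y * r) * r) v = v := by
        rw [show r * (z * y * r) * r = r * z * y * (r * r) by simp only [mul_assoc], hr.idem]
        simp only [map_mul, Module.End.mul_apply, hv, hz]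
      obtain ⟨m, hm⟩ := val_nil (k := k) hr (z * y * r)
      rw [hall z, zero_smul, sub_zero] at hm
      have h2 : ∀ n, Θ ((r * (z * y * r) * r) ^ n) v = v := by
        intro n
        induction n with
        | zero => simp
        | succ n ihn => rw [pow_succ, map_mul, Module.End.mul_apply, h1, ihn]
      exact hv0 (by rw [← h2 m, hm, map_zero, LinearMap.zero_apply])
  obtain ⟨v₀, hv₀⟩ : ∃ v, Φ r v ≠ 0 := by
    by_contra hall; push Not at hall; exact hrV (LinearMap.ext hall)
  obtain ⟨w₀, hw₀⟩ : ∃ w, Ψ r w ≠ 0 := by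
    by_contra hall; push Not at hall; exact hrW (LinearMap.ext hall)
  set v := Φ r v₀
  set w := Ψ r w₀
  have hv : Φ r v = v := by rw [← Module.End.mul_apply, ← map_mul, hr.idem]
  have hw : Ψ r w = w := by rw [← Module.End.mul_apply, ← map_mul, hr.idem]
  obtain ⟨hsV, hkV⟩ := key Φ hV v hv hv₀
  obtain ⟨hsW, hkW⟩ := key Ψ hW w hw hw₀
  let πV : MonoidAlgebra k G →ₗ[k] V := (LinearMap.applyₗ v).comp Φ.toLinearMap
  let πW : MonoidAlgebra k G →ₗ[k] W := (LinearMap.applyₗ w).comp Ψ.toLinearMap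
  obtain ⟨g, hg⟩ := πW.exists_rightInverse_of_surjective (LinearMap.range_eq_top.mpr hsW)
  have hgx : ∀ x, Ψ (g x) w = x := fun x => LinearMap.congr_fun hg x
  have hker : ∀ y y', Ψ y w = Ψ y' w ↔ Φ y v = Φ y' v := fun y y' => by
    rw [← sub_eq_zero, ← LinearMap.sub_apply, ← map_sub, hkW, ← hkV, map_sub, LinearMap.sub_apply,
      sub_eq_zero]
  let ψ : W →ₗ[k] V := πV.comp g
  have hψ : ∀ z x, ψ (Ψ z x) = Φ z (ψ x) := fun z x => by
    show Φ (g (Ψ z x)) v = Φ z (Φ (g x) v)
    rw [← Module.End.mul_apply (Φ z) (Φ (g x)) v, ← map_mul, ← hker, hgx, map_mul,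
      Module.End.mul_apply, hgx]
  have hψinj : ∀ x, ψ x = 0 → x = 0 := fun x hx => by
    rw [← hgx x]
    exact (hkW _).mpr ((hkV _).mp hx)
  have hψsurj : Function.Surjective ψ := fun y => by
    obtain ⟨z, hz⟩ := hsV y
    exact ⟨Ψ z w, by show Φ (g (Ψ z w)) v = y; rw [← hz, ← hker, hgx]⟩
  obtain ⟨ℓ, hℓτ, hℓN, x₁, hx₁, hℓx₁⟩ := h
  let ψ' : X.cornerSub Ψ →ₗ[k] X.cornerSub Φ :=
    { toFun := fun x => ⟨ψ x, (X.mem_cornerSub Φ).mpr (by rw [← hψ, (X.mem_cornerSub Ψ).mp x.2])⟩
      map_add' := fun x y => Subtype.ext (map_add ψ _ _)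
      map_smul' := fun c x => Subtype.ext (map_smul ψ _ _) }
  refine X.occurs_unique_of_scalar Ψ (schur hW) ⟨ℓ.comp ψ', fun x => ?_, fun x => ?_, ?_⟩ h'
  · rw [LinearMap.comp_apply, show ψ' (X.opS Ψ x) = X.opS Φ (ψ' x) from Subtype.ext (hψ _ _), hℓτ]
    rfl
  · rw [LinearMap.comp_apply, show ψ' (X.opN Ψ x) = X.opN Φ (ψ' x) from Subtype.ext (hψ _ _), hℓN]
  · obtain ⟨y, hy⟩ := hψsurj (x₁ : V)
    have hyi : Ψ X.i y = y := sub_eq_zero.mp (hψinj _ (by
      rw [map_sub, hψ, hy, (X.mem_cornerSub Φ).mp x₁.2, sub_self]))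
    refine ⟨⟨y, (X.mem_cornerSub Ψ).mpr hyi⟩, Subtype.ext ?_, ?_⟩
    · rw [opN_pow_apply]
      refine hψinj _ ?_
      rw [hψ, hy, ← X.opN_pow_apply Φ, hx₁]
      rfl
    · rw [LinearMap.comp_apply, show ψ' ⟨y, (X.mem_cornerSub Ψ).mpr hyi⟩ = x₁ from Subtype.ext hy]
      exact hℓx₁

/-- `s` and `N` on the top of the corner. -/
theorem s_pow_N (n m : ℕ) : X.s ^ n * X.N ^ m = X.α ^ (n * m) • (X.N ^ m * X.s ^ n) := by
  have h1 : ∀ m, X.s * X.N ^ m = X.α ^ m • (X.N ^ m * X.s) := by
    intro m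
    induction m with
    | zero => simp
    | succ m ih =>
      rw [pow_succ X.N, ← mul_assoc, ih, smul_mul_assoc, mul_assoc, X.s_N, mul_smul_comm, smul_smul,
        ← mul_assoc, pow_succ X.α]
  induction n with
  | zero => simp
  | succ n ih =>
    rw [pow_succ X.s, mul_assoc, h1, mul_smul_comm, ← mul_assoc, ih, smul_mul_assoc, smul_smul,
      mul_assoc, ← pow_add, add_mul, one_mul, add_comm]

/-- Multiples of powers of `s` in the cosets. -/
theorem s_pow_supp' (n : ℕ) : SuppIn X.C (single (X.t ^ n)⁻¹ 1 * X.s ^ n) ∧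
    SuppIn X.C (X.s' ^ n * single (X.t ^ n) 1) := by
  have ht : ∀ n : ℕ, X.t ^ n ∈ X.NQ := fun n => X.NQ.pow_mem (X.T_le X.t_mem) n
  induction n with
  | zero =>
    simp only [pow_zero, inv_one, mul_one, ← MonoidAlgebra.one_def]
    rw [MonoidAlgebra.one_def]
    exact ⟨suppIn_single X.C.one_mem 1, suppIn_single X.C.one_mem 1⟩
  | succ n ih =>
    constructor
    · have h1 := (X.single_conj_supp ih.1 (X.NQ.inv_mem (X.T_le X.t_mem))).mul X.s_supp
      have h2 : single (X.t ^ (n + 1))⁻¹ (1 : k) * X.s ^ (n + 1) =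
          single X.t⁻¹ 1 * (single (X.t ^ n)⁻¹ 1 * X.s ^ n) * single X.t⁻¹⁻¹ 1 *
            (single X.t⁻¹ 1 * X.s) := by
        rw [inv_inv, mul_assoc (single X.t⁻¹ 1 * _), ← mul_assoc (single X.t 1),
          MonoidAlgebra.single_mul_single, mul_inv_cancel, one_mul, ← MonoidAlgebra.one_def, one_mul,
          pow_succ X.s, ← mul_assoc (single X.t⁻¹ (1:k)), MonoidAlgebra.single_mul_single, one_mul,
          ← mul_inv_rev, ← pow_succ, mul_assoc, pow_succ X.t, pow_succ X.s]
      rw [h2]
      exact h1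
    · have h1 := X.s'_supp.mul (X.single_conj_supp ih.2 (X.NQ.inv_mem (X.T_le X.t_mem)))
      have h2 : X.s' ^ (n + 1) * single (X.t ^ (n + 1)) (1 : k) =
          X.s' * single X.t 1 * (single X.t⁻¹ 1 * (X.s' ^ n * single (X.t ^ n) 1) *
            single X.t⁻¹⁻¹ 1) := by
        rw [inv_inv, ← mul_assoc (X.s' * single X.t 1), ← mul_assoc (X.s' * single X.t 1),
          mul_assoc X.s' (single X.t 1), MonoidAlgebra.single_mul_single, mul_inv_cancel, one_mul,
          ← MonoidAlgebra.one_def, mul_one, pow_succ' X.s', pow_succ X.t, mul_assoc _ _ (single X.t 1),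
          mul_assoc (X.s' ^ n) (single _ 1), MonoidAlgebra.single_mul_single, one_mul, mul_assoc]
      rw [h2]
      exact h1

theorem i_s_pow_s (n : ℕ) : X.i * X.s' ^ n * X.s ^ n * X.i = X.i := by
  have hc : Commute X.i X.s := X.i_s.trans X.s_i.symm
  induction n with
  | zero => simp [X.i_idem]
  | succ n ih =>
    rw [pow_succ X.s', pow_succ' X.s, show X.i * (X.s' ^ n * X.s') * (X.s * X.s ^ n) * X.i =
      X.i * X.s' ^ n * (X.s' * X.s) * X.s ^ n * X.i by simp only [mul_assoc], X.s'_s,
      mul_assoc (X.i * X.s' ^ n) X.i, (hc.pow_right n).eq, ← mul_assoc, mul_assoc (X.i * X.s' ^ n * X.s ^ n),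
      X.i_idem, ih]

/-- The corner over the stabilizer. -/
theorem corner_T {g : G} (hg : g ∈ X.T) :
    ∃ l < X.e, ∃ c : ℕ → k,
      X.i * single g 1 * X.i = (∑ j ∈ Finset.range X.L, c j • (X.N ^ j * X.i)) * X.s ^ l := by
  obtain ⟨l, hl, hlC⟩ := X.cosets g hg
  set c₀ := g * (X.t ^ l)⁻¹ with hc₀
  have htl : X.t ^ l ∈ X.NQ := X.NQ.pow_mem (X.T_le X.t_mem) l
  have hc₀C : c₀ ∈ X.C := by
    have := X.normC _ htl _ hlC
    simpa [hc₀, mul_assoc] using this
  have h1 : SuppIn X.C (single g 1 * X.i * X.s' ^ l) := by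
    have e : single g (1 : k) * X.i * X.s' ^ l = single c₀ 1 *
        (single (X.t ^ l) 1 * (X.i * (X.s' ^ l * single (X.t ^ l) 1)) * single (X.t ^ l)⁻¹ 1) := by
      simp only [← mul_assoc, MonoidAlgebra.single_mul_single, one_mul, hc₀, inv_mul_cancel_right]
      simp only [mul_assoc, MonoidAlgebra.single_mul_single, one_mul, mul_inv_cancel,
        ← MonoidAlgebra.one_def, mul_one]
    rw [e]
    exact (suppIn_single hc₀C 1).mul (X.single_conj_supp (X.i_supp.mul (X.s_pow_supp' l).2) htl)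
  obtain ⟨c, hc⟩ := X.corner _ h1
  refine ⟨l, hl, c, ?_⟩
  rw [← hc]
  have hc' : Commute X.i X.s := X.i_s.trans X.s_i.symm
  have hc'' : Commute X.i X.s' := X.i_s'.trans X.s'_i.symm
  calc X.i * single g 1 * X.i
      = X.i * single g 1 * (X.i * X.s' ^ l * X.s ^ l * X.i) := by rw [X.i_s_pow_s]
    _ = X.i * (single g 1 * X.i * X.s' ^ l) * (X.s ^ l * X.i) := by simp only [mul_assoc]
    _ = _ := by rw [← (hc'.pow_right l).eq, ← mul_assoc]

/-- A twisted model meets at least `e` points of a central idempotent seeing it. -/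
theorem exists_points (hL : 1 < X.L) {eB : MonoidAlgebra k G} (hc : ∀ y, Commute eB y)
    (hee : eB * eB = eB)
    (hproj : cut X.T eB * (X.N ^ (X.L - 1) * X.i) = X.N ^ (X.L - 1) * X.i) :
    ∃ j : Fin X.e → MonoidAlgebra k G, (∀ l, IsPt (j l)) ∧ (∀ l, j l * eB = j l) ∧
      ∀ l l', l ≠ l' → ¬ EqPt (j l) (j l') := by
  classical
  haveI : NeZero ((X.e : ℕ) : k) := ⟨X.he⟩
  have he0 : 0 < X.e := Nat.pos_of_ne_zero fun h => X.he (by rw [h, Nat.cast_zero])
  haveI : NeZero X.e := ⟨he0.ne'⟩
  obtain ⟨ω, hω⟩ := HasEnoughRootsOfUnity.prim (M := k) (n := X.e)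
  obtain ⟨μ₀, hμ₀⟩ := IsAlgClosed.exists_pow_nat_eq X.ξ he0
  have hμ₀0 : μ₀ ≠ 0 := fun h => X.hξ (by rw [← hμ₀, h, zero_pow he0.ne'])
  let μ : Fin X.e → k := fun j => μ₀ * ω ^ (j : ℕ)
  have hμ0 : ∀ j, μ j ≠ 0 := fun j => mul_ne_zero hμ₀0 (pow_ne_zero _ (hω.ne_zero he0.ne'))
  have hμe : ∀ j, μ j ^ X.e = X.ξ := fun j => by
    rw [mul_pow, hμ₀, ← pow_mul, mul_comm (j : ℕ), pow_mul, hω.pow_eq_one, one_pow, mul_one]
  set top := X.N ^ (X.L - 1) * X.i with htop
  have hiN : ∀ n, X.i * X.N ^ n = X.N ^ n * X.i := fun n =>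
    ((show Commute X.i X.N from X.i_N.trans X.N_i.symm).pow_right n).eq
  have his : ∀ n, X.i * X.s ^ n = X.s ^ n * X.i := fun n =>
    ((show Commute X.i X.s from X.i_s.trans X.s_i.symm).pow_right n).eq
  have hα : X.α ^ (X.L - 1) ≠ 0 := by
    intro h0
    refine X.N_top ?_
    have h := X.s_pow_N 1 (X.L - 1)
    rw [one_mul, h0, zero_smul, pow_one] at h
    have h2 := congrArg (X.s' * ·) h
    simp only [← mul_assoc, X.s'_s, mul_zero] at h2
    rw [← hiN]
    exact h2
  -- the vectors
  let E : Fin X.e → MonoidAlgebra k G := fun j =>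
    ∑ r ∈ Finset.range X.e, (μ j)⁻¹ ^ r • (X.s ^ r * X.i)
  have hsE : ∀ j, X.s * E j = μ j • E j := by
    intro j
    simp only [E, Finset.mul_sum, Finset.smul_sum]
    set h : ℕ → MonoidAlgebra k G := fun r => μ j • ((μ j)⁻¹ ^ r • (X.s ^ r * X.i)) with hh
    have h1 : ∀ r, X.s * ((μ j)⁻¹ ^ r • (X.s ^ r * X.i)) = h (r + 1) := fun r => by
      simp only [hh]
      rw [mul_smul_comm, ← mul_assoc, ← pow_succ', smul_smul, pow_succ (μ j)⁻¹ r,
        mul_comm ((μ j)⁻¹ ^ r), ← mul_assoc, mul_inv_cancel₀ (hμ0 j), one_mul]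
    rw [Finset.sum_congr rfl fun r _ => h1 r]
    have h2 : h X.e = h 0 := by
      simp only [hh, X.s_pow, smul_smul, inv_pow, hμe, mul_assoc, inv_mul_cancel₀ X.hξ, pow_zero,
        one_mul, inv_one, mul_one]
    have h3 := Finset.sum_range_succ h X.e
    rw [Finset.sum_range_succ' h X.e, h2] at h3
    exact add_right_cancel h3
  let ν : Fin X.e → k := fun j => X.α ^ (X.L - 1) * μ j
  let wv : Fin X.e → MonoidAlgebra k G := fun j => top * E j
  have hiw : ∀ j, X.i * wv j = wv j := fun j => by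
    simp only [wv, htop, ← mul_assoc, hiN]
    rw [mul_assoc (X.N ^ (X.L - 1)), X.i_idem]
  have hsw : ∀ j, X.s * wv j = ν j • wv j := by
    intro j
    have h := X.s_pow_N 1 (X.L - 1)
    rw [one_mul, pow_one] at h
    simp only [wv, htop, ν]
    rw [← mul_assoc, ← mul_assoc, h, smul_mul_assoc, smul_mul_assoc, mul_assoc (X.N ^ (X.L - 1)) X.s,
      X.s_i, mul_assoc, hsE, mul_smul_comm, smul_smul, mul_assoc (X.N ^ (X.L - 1)) X.i]
    congr 2
    simp only [E, Finset.mul_sum, mul_smul_comm, ← mul_assoc, his]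
    exact Finset.sum_congr rfl fun r _ => by rw [mul_assoc _ X.i X.i, X.i_idem]
  have hNw : ∀ j n, 0 < n → X.N ^ n * wv j = 0 := fun j n hn => by
    simp only [wv, htop]
    rw [← mul_assoc, ← mul_assoc, ← pow_add, show n + (X.L - 1) = (n - 1) + X.L by omega, pow_add,
      mul_assoc (X.N ^ (n - 1)), X.N_pow, mul_zero, zero_mul]
  have hwne : ∀ j, wv j ≠ 0 := by
    intro j h0
    have hc0 : cut X.C (E j) = X.i := by
      simp only [E, map_sum, map_smul]
      rw [Finset.sum_eq_single_of_mem 0 (Finset.mem_range.mpr he0) fun r hr hr0 => ?_]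
      · rw [pow_zero, pow_zero, one_mul, one_smul]
        refine ga_ext fun g => ?_
        rw [coeff_cut]
        split_ifs with hg
        · rfl
        · rw [X.i_supp g hg]
      · refine smul_eq_zero_of_right _ (ga_ext fun g => ?_)
        rw [coeff_cut]
        split_ifs with hg
        swap
        · rfl
        have hsupp := ((X.s_pow_supp' r).1.mul X.i_supp) ((X.t ^ r)⁻¹ * g) fun h => hr0
          (X.cosets_inj r (Finset.mem_range.mp hr) ((X.C.inv_mem_iff).mp
            ((X.C.mul_mem_cancel_right hg).mp h)))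
        rw [mul_assoc, coeff_single_mul', one_mul, inv_inv, mul_inv_cancel_left] at hsupp
        rw [hsupp]
        rfl
    have htopC : SuppIn X.C top := by
      refine SuppIn.mul ?_ X.i_supp
      induction (X.L - 1) with
      | zero => rw [pow_zero, MonoidAlgebra.one_def]; exact suppIn_single X.C.one_mem 1
      | succ n ihn => rw [pow_succ]; exact ihn.mul X.N_supp
    have h1 := cut_mul_left htopC (E j)
    rw [show top * E j = 0 from h0, map_zero, hc0, htop, mul_assoc, X.i_idem] at h1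
    exact X.N_top h1.symm
  -- each eigenvalue occurs on some left ideal
  have hocc : ∀ j, ∃ (W : Type max u v) (_ : AddCommGroup W) (_ : Module k W)
      (_ : FiniteDimensional k W) (Ψ : MonoidAlgebra k G →ₐ[k] Module.End k W),
      Ψ eB = 1 ∧ Nontrivial W ∧ IsSimpleAct Ψ ∧ Occurs (X.opN Ψ) (X.opS Ψ) X.L (ν j) := by
    intro j
    set x := eB * wv j with hx
    let V0 : Submodule k (MonoidAlgebra k G) := LinearMap.range (LinearMap.mulRight k x)
    let Φ0 := subAct (Algebra.lmul k (MonoidAlgebra k G)) V0 fun z y hy => by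
      obtain ⟨z', rfl⟩ := hy
      exact ⟨z * z', by simp [mul_assoc]⟩
    have hB0 : Φ0 eB = 1 := LinearMap.ext fun y => Subtype.ext (by
      obtain ⟨z, hz⟩ := y.2
      show eB * (y : MonoidAlgebra k G) = y
      rw [← hz, LinearMap.mulRight_apply, hx, ← mul_assoc eB z, (hc z).eq, mul_assoc z eB,
        ← mul_assoc eB eB, hee])
    refine X.exists_simple_occurs eB Φ0 hB0 ?_
    obtain ⟨φ, hφ⟩ := Module.Projective.exists_dual_ne_zero k (hwne j)
    set φ' := (φ (wv j))⁻¹ • φ with hφ'
    have hφw : φ' (wv j) = 1 := by rw [hφ', LinearMap.smul_apply, smul_eq_mul, inv_mul_cancel₀ hφ]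
    let ℓ : X.cornerSub Φ0 →ₗ[k] k :=
      φ'.comp ((cut X.T).comp (V0.subtype.comp (X.cornerSub Φ0).subtype))
    have hline : ∀ y : X.cornerSub Φ0, ∃ c : k,
        cut X.T ((y : V0) : MonoidAlgebra k G) = c • wv j := by
      intro y
      obtain ⟨z, hz⟩ := (y : V0).2
      have hyi : X.i * ((y : V0) : MonoidAlgebra k G) = (y : V0) :=
        congrArg Subtype.val ((X.mem_cornerSub Φ0).mp y.2)
      have hwT : SuppIn X.T (wv j) := by
        have hi : SuppIn X.T X.i := fun g hg => X.i_supp g fun h => hg (X.C_le h)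
        have hN : SuppIn X.T X.N := fun g hg => X.N_supp g fun h => hg (X.C_le h)
        refine SuppIn.mul (SuppIn.mul ?_ hi) fun g hg => ?_
        · induction (X.L - 1) with
          | zero => rw [pow_zero, MonoidAlgebra.one_def]; exact suppIn_single X.T.one_mem 1
          | succ n ihn => rw [pow_succ]; exact ihn.mul hN
        · rw [coeff_sum_apply]
          refine Finset.sum_eq_zero fun r _ => ?_
          have h1 := ((X.s_pow_supp' r).1.mul X.i_supp) ((X.t ^ r)⁻¹ * g) fun h =>
            hg (by simpa using X.T.mul_mem (X.T.pow_mem X.t_mem r) (X.C_le h))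
          rw [mul_assoc, coeff_single_mul', one_mul, inv_inv, mul_inv_cancel_left] at h1
          simp [h1]
      have hiT : SuppIn X.T X.i := fun g hg => X.i_supp g fun h => hg (X.C_le h)
      have hcut : cut X.T ((y : V0) : MonoidAlgebra k G) = X.i * (cut X.T (z * eB) * X.i) * wv j := by
        rw [← hyi, cut_mul_left hiT, ← hz, LinearMap.mulRight_apply, hx, ← mul_assoc, cut_mul_right hwT]
        conv_lhs => rw [← hiw j]
        simp only [mul_assoc]
      rw [hcut, ← mul_assoc X.i]
      suffices ∀ S : Finset G, (∀ g ∈ S, g ∈ X.T) → ∀ cf : G → k, ∃ c : k,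
          X.i * (∑ g ∈ S, cf g • single g (1 : k)) * X.i * wv j = c • wv j by
        have hz' : cut X.T (z * eB) = ∑ g ∈ Finset.univ.filter (· ∈ X.T),
            (cut X.T (z * eB)).coeff g • single g (1 : k) := by
          refine ga_ext fun g => ?_
          rw [coeff_sum_apply]
          by_cases hg : g ∈ X.T
          · rw [Finset.sum_eq_single g] <;> simp +contextual [hg]
          · rw [suppIn_cut _ _ g hg]
            refine (Finset.sum_eq_zero fun x hx => ?_).symm
            simp [Finsupp.single_eq_of_ne (fun e : g = x => hg (e ▸ (Finset.mem_filter.mp hx).2))]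
        rw [hz']
        exact this _ (fun g hg => (Finset.mem_filter.mp hg).2) _
      intro S hS cf
      induction S using Finset.induction_on with
      | empty => exact ⟨0, by simp⟩
      | insert g S hg ih =>
        obtain ⟨c1, hc1⟩ := ih fun x hx => hS x (Finset.mem_insert_of_mem hx)
        obtain ⟨l, -, cc, hcc⟩ := X.corner_T (hS g (Finset.mem_insert_self g S))
        have hsl : X.s ^ l * wv j = ν j ^ l • wv j := by
          clear hcc
          induction l with
          | zero => simp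
          | succ l ihl => rw [pow_succ, mul_assoc, hsw, mul_smul_comm, ihl, smul_smul, ← pow_succ']
        refine ⟨cf g * (cc 0 * ν j ^ l) + c1, ?_⟩
        rw [Finset.sum_insert hg, mul_add, add_mul, add_mul, hc1, mul_smul_comm, smul_mul_assoc,
          smul_mul_assoc, hcc, mul_assoc, hsl, mul_smul_comm, Finset.sum_mul,
          Finset.sum_eq_single_of_mem 0 (Finset.mem_range.mpr X.L_pos) fun n hn hn0 => ?_, pow_zero,
          one_mul, smul_mul_assoc, hiw, smul_smul, smul_smul, ← add_smul]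
        · ring_nf
        · rw [smul_mul_assoc, mul_assoc, hiw, hNw j n (Nat.pos_of_ne_zero hn0), smul_zero]
    have hsT : SuppIn X.T X.s := fun g hg => by
      have h := X.s_supp (X.t⁻¹ * g) fun h' => hg (by simpa using X.T.mul_mem X.t_mem (X.C_le h'))
      rwa [coeff_single_mul', one_mul, inv_inv, mul_inv_cancel_left] at h
    have hNT : SuppIn X.T X.N := fun g hg => X.N_supp g fun h => hg (X.C_le h)
    have hxm : (x : MonoidAlgebra k G) ∈ V0 := ⟨1, by simp⟩
    have hxc : (⟨x, hxm⟩ : V0) ∈ X.cornerSub Φ0 := (X.mem_cornerSub Φ0).mpr (Subtype.ext (by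
      show X.i * x = x
      rw [hx, ← mul_assoc, ← (hc X.i).eq, mul_assoc, hiw]))
    refine ⟨ℓ, fun y => ?_, fun y => ?_, ⟨⟨x, hxm⟩, hxc⟩, ?_, ?_⟩
    · obtain ⟨c, hc'⟩ := hline y
      show φ' (cut X.T (X.s * ((y : V0) : MonoidAlgebra k G))) =
        ν j * φ' (cut X.T ((y : V0) : MonoidAlgebra k G))
      rw [cut_mul_left hsT, hc', mul_smul_comm, hsw, map_smul, map_smul, map_smul]
      simp only [smul_eq_mul]
      ring
    · obtain ⟨c, hc'⟩ := hline y
      show φ' (cut X.T (X.N * ((y : V0) : MonoidAlgebra k G))) = 0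
      rw [cut_mul_left hNT, hc', mul_smul_comm]
      have h1 := hNw j 1 one_pos
      rw [pow_one] at h1
      rw [h1, smul_zero, map_zero]
    · refine Subtype.ext (Subtype.ext ?_)
      rw [opN_pow_apply]
      show X.N ^ (X.L - 1) * x = 0
      rw [hx, ← mul_assoc, ← (hc _).eq, mul_assoc, hNw j _ (by omega), mul_zero]
    · show φ' (cut X.T x) ≠ 0
      have hcutx : cut X.T x = cut X.T eB * wv j := by
        refine cut_mul_right (fun g hg => ?_) eB
        have hNt : SuppIn X.T top := by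
          refine SuppIn.mul ?_ (fun g hg => X.i_supp g fun h => hg (X.C_le h))
          induction (X.L - 1) with
          | zero => rw [pow_zero, MonoidAlgebra.one_def]; exact suppIn_single X.T.one_mem 1
          | succ n ihn => rw [pow_succ]; exact ihn.mul hNT
        refine SuppIn.mul hNt (fun g hg => ?_) g hg
        rw [coeff_sum_apply]
        refine Finset.sum_eq_zero fun r _ => ?_
        have h1 := ((X.s_pow_supp' r).1.mul X.i_supp) ((X.t ^ r)⁻¹ * g) fun h =>
          hg (by simpa using X.T.mul_mem (X.T.pow_mem X.t_mem r) (X.C_le h))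
        rw [mul_assoc, coeff_single_mul', one_mul, inv_inv, mul_inv_cancel_left] at h1
        simp [h1]
      rw [hcutx, show cut X.T eB * wv j = wv j by simp only [wv]; rw [← mul_assoc, hproj], hφw]
      exact one_ne_zero
  choose W iW mW fW Ψ hΨB hnt hsimp hocW using hocc
  obtain ⟨n, pts, hpts, -, hsum, hin⟩ := exists_decomp (k := k) eB hee
  have hpick : ∀ j, ∃ r, Ψ j (pts r) ≠ 0 := by
    intro j
    by_contra hall
    push Not at hall
    haveI := hnt j
    have := hΨB j
    rw [← hsum, map_sum, Finset.sum_eq_zero fun r _ => hall r] at this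
    exact zero_ne_one this
  choose r hr using hpick
  refine ⟨fun j => pts (r j), fun j => hpts _, fun j => (hin _).2, fun j j' hne heq => hne ?_⟩
  have hjj' : Ψ j (pts (r j')) ≠ 0 := by
    intro h0
    obtain ⟨a, b, h1, h2, -, -, hab, -⟩ := id heq
    simp only at h1 h2 hab
    refine hr j ?_
    rw [← hab, ← h2, map_mul, map_mul, h0, mul_zero, zero_mul]
  have hν : ν j = ν j' := by
    haveI := hnt j
    haveI := hnt j'
    exact X.occurs_eq_of_common_point (hsimp j) (hsimp j') (hpts _) hjj' (hr j') (hocW j) (hocW j')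
  have h1 : ω ^ (j : ℕ) = ω ^ (j' : ℕ) := by
    have := mul_left_cancel₀ hα hν
    exact mul_left_cancel₀ hμ₀0 this
  exact Fin.ext (hω.pow_inj j.2 j'.2 h1)

end TwistData

end CfsgLib.Block.CyclicDefect
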