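import Cfsg.Agent.Lib.Block.CyclicDefect.Vectors
import Cfsg.Agent.Lib.Block.Contrib

/-!
# The base parts are divisible by the centralizer up to the defect
-/

open Finset
open scoped ComplexConjugate

set_option autoImplicit false
set_option linter.unusedSectionVars false

namespace CfsgLib.Block.CyclicDefect

open Cfsg CfsgLib.Block
open scoped Pair

universe u

variable {p : ℕ} {M : Ideal AlgInt} [M.IsMaximal]

/-- A value times the defect over the centralizer is local. -/
theorem value_div_mem (hM : IsPModular p M) {A : Type u} [Group A] [Fintype A]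
    {B : Set (IrrCharacter A)} {η : IrrCharacter A} (hη : η ∈ B) (c : A) :
    (η : A → ℂ) c * (p : ℂ) ^ blockDefect p B /
      (Nat.card (Subgroup.centralizer ({c} : Set A)) : ℂ) ∈ locRing M := by
  classical
  have hw := coe_degW hM (le_degVal_add_blockDefect (p := p) hη)
  have hA : (Nat.card A : ℂ) ≠ 0 := Nat.cast_ne_zero.mpr Nat.card_pos.ne'
  have h1 : (η : A → ℂ) 1 ≠ 0 := Char.irr_one_ne_zero η
  have hC : (Nat.card (Subgroup.centralizer ({c} : Set A)) : ℂ) ≠ 0 :=
    Nat.cast_ne_zero.mpr Nat.card_pos.ne'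
  have hi : ((Subgroup.centralizer ({c} : Set A)).index : ℂ) *
      (Nat.card (Subgroup.centralizer ({c} : Set A)) : ℂ) = (Nat.card A : ℂ) := by
    rw [← Nat.cast_mul, Subgroup.index_mul_card]
  have h : (η : A → ℂ) c * (p : ℂ) ^ blockDefect p B /
      (Nat.card (Subgroup.centralizer ({c} : Set A)) : ℂ) =
        Char.omega (η : A → ℂ) c * (degW p M hM A (blockDefect p B) η : ℂ) := by
    rw [Char.omega, Char.card_isConj, div_eq_iff hC]
    field_simp
    linear_combination (-((η : A → ℂ) c)) * hw -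
      ((η : A → ℂ) c * (degW p M hM A (blockDefect p B) η : ℂ)) * hi
  rw [h]
  exact mul_mem (integral_mem M (Char.isIntegral_omega η c)) (SetLike.coe_mem _)

namespace Frame

variable {G : Type u} [Group G] [Fintype G] [DecidableEq G] [Fintype (IrrCharacter G)]
variable (F : Frame p M G) [Fintype (IrrCharacter (CQ F.Q))]

/-- The base part, as a local integer combination of the values of its block. -/
theorem exists_basePart_eq (y : F.D) {s : CQ F.Q} (hs : s ∈ regC p (y : CQ F.Q)) :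
    ∃ (fy : Set (IrrCharacter (CQ (Subgroup.zpowers (y : CQ F.Q)))))
      (_ : Fintype (IrrCharacter (CQ (Subgroup.zpowers (y : CQ F.Q)))))
      (c : IrrCharacter (CQ (Subgroup.zpowers (y : CQ F.Q))) → ℂ)
      (hsm : s ∈ CQ (Subgroup.zpowers (y : CQ F.Q))),
      (∀ θ, c θ ∈ locRing M) ∧ (∀ θ, θ ∉ fy → c θ = 0) ∧ Nat.card F.P = p ^ blockDefect p fy ∧
      F.basePart y s = ∑ θ, c θ * (θ : CQ (Subgroup.zpowers (y : CQ F.Q)) → ℂ) ⟨s, hsm⟩ := by
  classical
  obtain ⟨fy, hfy, hsub⟩ := F.lowPair_below_sub (y := y)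
  have hfin : Fintype (IrrCharacter (CQ (Subgroup.zpowers (y : CQ F.Q)))) := Fintype.ofFinite _
  obtain ⟨k, hk⟩ := exists_pElement_orderOf F.max_d.1.1 y F.prime
  have hC : ∀ t : CQ F.Q, t ∈ CQ (Subgroup.zpowers (y : CQ F.Q)) ↔ Commute t y := fun t =>
    mem_cq_zpowers_iff
  have hC' : ∀ t : CQ (Subgroup.zpowers (y : CQ F.Q)), Commute (t : CQ F.Q) (y : CQ F.Q) :=
    fun t => (hC t).mp t.2
  obtain ⟨lam, hlam, hexp⟩ := exists_secCoeff hk hC
  have hint : ∀ η, IsIntegral ℤ (lam η) := fun η =>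
    Char.isIntegral_of_pow_eq_one (pow_ne_zero _ F.prime.ne_zero) (hlam η)
  have hsm := (mem_regC.mp hs).1
  refine ⟨fy, hfin, fun θ => if θ ∈ fy then (resMult (F.ηc 0) θ : ℂ) * lam θ else 0, hsm, fun θ => ?_,
    fun θ h => if_neg h, ?_, ?_⟩
  · dsimp only
    split_ifs
    · exact mul_mem (natCast_mem _ _) (integral_mem M (hint θ))
    · exact zero_mem _
  · have hDC : F.D ≤ CQ (Subgroup.zpowers (y : CQ F.Q)) := fun x hx =>
      Subgroup.mem_centralizer_iff.mpr fun w hw =>
        congrArg Subtype.val (F.comm_D ⟨w, Subgroup.zpowers_le.mpr y.2 hw⟩ ⟨x, hx⟩)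
    have hd := isDefectGroup_below_abelian F.hM F.max_d hDC hsub
    rw [← defectGroup_card F.hM hsub.pairL.2 hd,
      Nat.card_congr (Subgroup.subgroupOfEquivOfLe hDC).toEquiv]
    exact (Nat.card_congr (Subgroup.subgroupOfEquivOfLe F.P_le_cq).toEquiv).symm
  · rw [basePart, hfy]
    refine (secPart_eq_blockPart fy hC' (F.ηc 0) ⟨s, hsm⟩).trans ?_
    rw [blockPart_secFun_eq (b := fy) hC' (hexp (F.ηc 0)), Finset.sum_filter]
    exact Finset.sum_congr rfl fun θ _ => (ite_zero_mul _ _ _).symm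

theorem basePart_mem (y : F.D) {s : CQ F.Q} (hs : s ∈ regC p (y : CQ F.Q)) :
    F.basePart y s ∈ locRing M := by
  obtain ⟨fy, hfin, c, hsm, hc, -, -, he⟩ := F.exists_basePart_eq y hs
  rw [he]
  exact sum_mem fun θ _ => mul_mem (hc θ)
    (integral_mem M (Char.isCharacter_isIntegral (Char.isCharacter_irr θ) _))

/-- An element commutes with `y s` exactly when it commutes with both. -/
theorem commute_mul_regC {y s z : G} (hp : p.Prime) (hy : ∃ k, orderOf y = p ^ k) (hys : Commute y s)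
    (hs : ¬ p ∣ orderOf s) : Commute z (y * s) ↔ Commute z y ∧ Commute z s := by
  refine ⟨fun h => ?_, fun h => h.1.mul_right h.2⟩
  have hy' : z * y * z⁻¹ = y := by
    refine isPPart_unique hp (g := y * s) ⟨z * s * z⁻¹, ?_, ?_, ?_, ?_⟩ ⟨s, rfl, hys, hy, hs⟩
    · rw [show z * y * z⁻¹ * (z * s * z⁻¹) = z * (y * s) * z⁻¹ by group, h.eq, mul_inv_cancel_right]
    · exact (hys.map (MulAut.conj z).toMonoidHom :)
    · obtain ⟨k, hk⟩ := hy
      exact ⟨k, by rw [orderOf_conj_eq, hk]⟩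
    · rwa [orderOf_conj_eq]
  have h1 : Commute z y := mul_inv_eq_iff_eq_mul.mp hy'
  refine ⟨h1, ?_⟩
  have := h1.inv_right.mul_right h
  rwa [inv_mul_cancel_left] at this

theorem basePart_div_mem {y : F.D} (hy : y ≠ 1) {s : CQ F.Q} (hs : s ∈ regC p (y : CQ F.Q)) :
    (Nat.card F.P : ℂ) * F.basePart y s /
      (Nat.card (Subgroup.centralizer ({((y : CQ F.Q) : G) * (s : G)} : Set G)) : ℂ) ∈ locRing M := by
  obtain ⟨fy, hfin, c, hsm, hc, hc0, hcard, he⟩ := F.exists_basePart_eq y hs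
  obtain ⟨k, hk⟩ := exists_pElement_orderOf F.max_d.1.1 y F.prime
  have hcomm : Commute ((y : CQ F.Q) : G) (s : G) :=
    (mem_cq_zpowers_iff.mp hsm).symm.map (CQ F.Q).subtype
  have key : ∀ z : G, Commute z (((y : CQ F.Q) : G) * (s : G)) ↔
      Commute z ((y : CQ F.Q) : G) ∧ Commute z (s : G) := fun z =>
    commute_mul_regC F.prime ⟨k, by rw [Subgroup.orderOf_coe, hk]⟩ hcomm
      (by rw [Subgroup.orderOf_coe]; exact (mem_regC.mp hs).2)
  have hcen : Nat.card (Subgroup.centralizer ({((y : CQ F.Q) : G) * (s : G)} : Set G)) =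
      Nat.card (Subgroup.centralizer ({⟨s, hsm⟩} : Set (CQ (Subgroup.zpowers (y : CQ F.Q))))) := by
    refine Nat.card_congr
      { toFun := fun z => ⟨⟨⟨(z : G), ?_⟩, ?_⟩, ?_⟩
        invFun := fun z => ⟨((z : CQ (Subgroup.zpowers (y : CQ F.Q))) : CQ F.Q), ?_⟩
        left_inv := fun z => rfl
        right_inv := fun z => rfl }
    · exact F.cq_zpowers_le hy (mem_cq_zpowers_iff.mpr
        ((key _).mp (Subgroup.mem_centralizer_singleton_iff.mp z.2)).1)
    · exact mem_cq_zpowers_iff.mpr (Subtype.ext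
        ((key _).mp (Subgroup.mem_centralizer_singleton_iff.mp z.2)).1.eq)
    · exact Subgroup.mem_centralizer_singleton_iff.mpr (Subtype.ext (Subtype.ext
        ((key _).mp (Subgroup.mem_centralizer_singleton_iff.mp z.2)).2.eq))
    · refine Subgroup.mem_centralizer_singleton_iff.mpr ((key _).mpr ⟨?_, ?_⟩)
      · exact (mem_cq_zpowers_iff.mp z.1.2).map (CQ F.Q).subtype
      · exact congrArg (fun w : CQ (Subgroup.zpowers (y : CQ F.Q)) => ((w : CQ F.Q) : G))
          (Subgroup.mem_centralizer_singleton_iff.mp z.2)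
  rw [he, hcen, Finset.mul_sum, Finset.sum_div]
  refine sum_mem fun θ _ => ?_
  by_cases hθ : θ ∈ fy
  · have h := mul_mem (hc θ) (value_div_mem F.hM hθ ⟨s, hsm⟩)
    rw [hcard, Nat.cast_pow]
    convert h using 1
    ring
  · rw [hc0 θ hθ, zero_mul, mul_zero, zero_div]
    exact zero_mem _

end Frame

end CfsgLib.Block.CyclicDefect
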