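import Cfsg.Agent.Lib.Block.CyclicDefect.Divis

/-!
# Combinations of the block at the singular elements

`singular_expand`: a combination of members of the block at a singular element is the transform of
its products with the vectors, weighted by coefficients divisible by the centralizer up to the defect.
-/

open Finset
open scoped ComplexConjugate

set_option autoImplicit false
set_option linter.unusedSectionVars false

namespace CfsgLib.Block.CyclicDefect

open Cfsg CfsgLib.Block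
open scoped Pair

universe u

variable {p : ℕ} {M : Ideal AlgInt} [M.IsMaximal] {G : Type u} [Group G] [Fintype G] [DecidableEq G]
  [Fintype (IrrCharacter G)]

theorem card_centralizer_conj_eq (x g : G) :
    Nat.card (Subgroup.centralizer ({x * g * x⁻¹} : Set G)) =
      Nat.card (Subgroup.centralizer ({g} : Set G)) := by
  refine Nat.card_congr ((MulAut.conj x⁻¹).toEquiv.subtypeEquiv fun z => ?_)
  rw [Subgroup.mem_centralizer_singleton_iff, Subgroup.mem_centralizer_singleton_iff]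
  have he : (MulAut.conj x⁻¹).toEquiv z = x⁻¹ * z * x := by simp
  rw [he]
  constructor
  · intro h
    calc x⁻¹ * z * x * g = x⁻¹ * (z * (x * g * x⁻¹)) * x := by group
      _ = x⁻¹ * ((x * g * x⁻¹) * z) * x := by rw [h]
      _ = g * (x⁻¹ * z * x) := by group
  · intro h
    calc z * (x * g * x⁻¹) = x * (x⁻¹ * z * x * g) * x⁻¹ := by group
      _ = x * (g * (x⁻¹ * z * x)) * x⁻¹ := by rw [h]
      _ = x * g * x⁻¹ * z := by group

namespace Frame

variable (F : Frame p M G) [Fintype (IrrCharacter (CQ F.Q))]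

/-- The value at one pair. -/
theorem exists_pair_value {g s : G} (hs : s ∈ regC p (pPt F.hM g)) (hgs : pPt F.hM g * s = g)
    (hu1 : pPt F.hM g ≠ 1) {b : BrauerPairIdx G} (hb : b ∈ pairsAt M (pPt F.hM g)) :
    ∃ (j : ZMod (Nat.card F.P)) (β : ℂ), j ≠ 0 ∧ β ∈ locRing M ∧
      (Nat.card F.P : ℂ) * β / (Nat.card (Subgroup.centralizer ({g} : Set G)) : ℂ) ∈ locRing M ∧
      ∀ a : IrrCharacter G → ℂ, (∀ χ, χ ∉ F.B → a χ = 0) →
        ∑ χ, a χ * secPart χ (pPt F.hM g) b s =
          β * ∑ i, (∑ χ, a χ * F.wv i χ) * zchar (Nat.card F.P) (i * j) := by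
  classical
  set u := pPt F.hM g with hu
  have hupow := pPow_pPt F.hM g
  obtain ⟨h1, h2⟩ := mem_pairsAt.mp hb
  by_cases hof : IsBrauerPairOf p M F.B b.1 b.2
  swap
  · haveI : Fact (1 < Nat.card F.P) := ⟨F.one_lt_card⟩
    refine ⟨1, 0, one_ne_zero, zero_mem _, by rw [mul_zero, zero_div]; exact zero_mem _,
      fun a ha => ?_⟩
    rw [zero_mul]
    refine Finset.sum_eq_zero fun χ _ => ?_
    by_cases hχ : χ ∈ F.B
    · rw [secPart_eq_zero_of_not_pairOf F.hM F.hB hχ hupow hb hs hof, mul_zero]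
    · rw [ha χ hχ, zero_mul]
  obtain ⟨x, hx⟩ := exists_conj_subpairLE F.hM F.hmax hof
  have hxu : x * u * x⁻¹ ∈ F.P := SubpairLE.le hx (conj_mem_cjS.mpr (h1 ▸ Subgroup.mem_zpowers u))
  set y : F.D := ⟨⟨x * u * x⁻¹, F.P_le_cq hxu⟩, hxu⟩ with hy
  have hy1 : y ≠ 1 := fun h => hu1 (by
    have h' : x * u * x⁻¹ = 1 := congrArg (fun z : F.D => ((z : CQ F.Q) : G)) h
    simpa using h')
  have hlow : cjP x b = F.lowG y :=
    below_ext F.hM F.hmax.1.1 (show Below p M F.P F.c (cjP x b) from hx)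
      (lowPair_below F.hM F.hmax.1.1 _)
      (show cjS x b.1 = Subgroup.zpowers (x * u * x⁻¹) by rw [h1, cjS_zpowers])
  obtain ⟨hs1, hs2⟩ := mem_regC.mp hs
  have hs' : x * s * x⁻¹ ∈ regC p ((y : CQ F.Q) : G) :=
    mem_regC.mpr ⟨mem_cq_zpowers_iff.mpr
      (((mem_cq_zpowers_iff.mp hs1).map (MulAut.conj x).toMonoidHom) :),
      by rwa [orderOf_conj_eq]⟩
  have hsC : x * s * x⁻¹ ∈ CQ F.Q := F.cq_zpowers_le hy1 (mem_regC.mp hs').1
  have hsec : ∀ χ : IrrCharacter G, secPart χ u b s =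
      (∑ i, F.mult χ i * zchar (Nat.card F.P) (i * F.idx (F.toP y))) *
        F.basePart y ⟨_, hsC⟩ := fun χ => by
    rw [← secPart_cjP χ x u b s, hlow]
    exact F.secPart_restrict hy1 (s := ⟨_, hsC⟩) (F.regC_coe.mpr hs') χ
  set j := F.idx (F.toP y) with hj
  have hj0 : j ≠ 0 := fun h => hy1 (F.toP_injective (F.idx_injective (h.trans F.idx_one.symm)))
  refine ⟨j, F.basePart y ⟨_, hsC⟩, hj0, F.basePart_mem y (F.regC_coe.mpr hs'), ?_, fun a _ => ?_⟩
  · have h := F.basePart_div_mem hy1 (s := ⟨_, hsC⟩) (F.regC_coe.mpr hs')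
    rwa [show ((y : CQ F.Q) : G) * ((⟨_, hsC⟩ : CQ F.Q) : G) = x * g * x⁻¹ by
      rw [← hgs]; show x * u * x⁻¹ * (x * s * x⁻¹) = _; group, card_centralizer_conj_eq] at h
  calc ∑ χ, a χ * secPart χ u b s
      = (∑ χ, a χ * ∑ i, F.mult χ i * zchar (Nat.card F.P) (i * j)) * F.basePart y ⟨_, hsC⟩ := by
        rw [Finset.sum_mul]
        exact Finset.sum_congr rfl fun χ _ => by rw [hsec χ]; exact (mul_assoc _ _ _).symm
    _ = (∑ i, (∑ χ, a χ * F.mult χ i) * zchar (Nat.card F.P) (i * j)) * F.basePart y ⟨_, hsC⟩ := by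
        congr 1
        simp only [Finset.mul_sum, Finset.sum_mul, mul_assoc]
        exact Finset.sum_comm
    _ = _ := by
        rw [mul_comm]
        congr 1
        have hw : ∀ i, ∑ χ, a χ * F.wv i χ = (∑ χ, a χ * F.mult χ i) - ∑ χ, a χ * F.mult χ 0 :=
          fun i => by simp only [wv, mul_sub, Finset.sum_sub_distrib]
        simp only [hw, sub_mul, Finset.sum_sub_distrib, ← Finset.mul_sum, zchar_sum, if_neg hj0,
          mul_zero, sub_zero]

theorem singular_expand {g : G} (hg : p ∣ orderOf g) :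
    ∃ c : ZMod (Nat.card F.P) → ℂ, c 0 = 0 ∧ (∀ j, c j ∈ locRing M) ∧
      (∀ j, (Nat.card F.P : ℂ) * c j /
        (Nat.card (Subgroup.centralizer ({g} : Set G)) : ℂ) ∈ locRing M) ∧
      ∀ a : IrrCharacter G → ℂ, (∀ χ, χ ∉ F.B → a χ = 0) →
        ∑ χ, a χ * (χ : G → ℂ) g =
          ∑ j, c j * ∑ i, (∑ χ, a χ * F.wv i χ) * zchar (Nat.card F.P) (i * j) := by
  classical
  obtain ⟨s, hs, hgs⟩ := exists_regC F.hM g
  have hupow := pPow_pPt F.hM g
  have hu1 : pPt F.hM g ≠ 1 := fun h => (mem_regC.mp hs).2 (by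
    rw [show s = g by rw [← hgs, h, one_mul]]; exact hg)
  choose jf βf h1 h2 h3 h4 using fun b : {b // b ∈ pairsAt M (pPt F.hM g)} =>
    F.exists_pair_value hs hgs hu1 b.2
  refine ⟨fun j => ∑ b, if jf b = j then βf b else 0, Finset.sum_eq_zero fun b _ => if_neg (h1 b),
    fun j => sum_mem fun b _ => ?_, fun j => ?_, fun a ha => ?_⟩
  · split_ifs
    · exact h2 b
    · exact zero_mem _
  · rw [Finset.mul_sum, Finset.sum_div]
    refine sum_mem fun b _ => ?_
    split_ifs
    · exact h3 b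
    · rw [mul_zero, zero_div]; exact zero_mem _
  conv_lhs => rw [← hgs]
  rw [Finset.sum_congr rfl fun χ _ => by rw [apply_eq_sum_secPart F.hM χ hupow hs, Finset.mul_sum],
    Finset.sum_comm, ← Finset.sum_attach]
  simp only [Finset.sum_mul, ite_mul, zero_mul]
  rw [Finset.sum_comm (s := (Finset.univ : Finset (ZMod (Nat.card F.P))))]
  simp only [Finset.sum_ite_eq, Finset.mem_univ, if_true]
  rw [Finset.univ_eq_attach]
  refine Finset.sum_congr rfl fun b _ => ?_
  rw [h4 b a ha, Finset.mul_sum, Finset.mul_sum]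
  simp only [Finset.sum_mul]

end Frame

end CfsgLib.Block.CyclicDefect
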