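import Cfsg.Agent.Lib.Block.IsoBlocks
import Cfsg.Agent.Lib.Block.CyclicDefect.Chains
import Mathlib.GroupTheory.GroupAction.Quotient

/-!
# The twisted local model inside a group algebra, and its modules with scalar endomorphisms

`TwistData` records an idempotent `i` of the block `f` of `C` with truncated polynomial corner, and
an element `s` of the corner over the stabilizer.  On a module whose endomorphisms are scalars, one
eigenvalue of `s` occurs among the non-projective heads.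
-/

open Finset MonoidAlgebra

set_option autoImplicit false
set_option linter.unusedSectionVars false

namespace CfsgLib.Block.CyclicDefect

open CfsgLib.Block

universe u v w

variable {k : Type v} [Field k] {G : Type u} [Group G] [Fintype G] [DecidableEq G]

/-- The twisted local model of a block `f` of `C`: `i` primitive, `N` a generator of the radical of
the corner, `s` a twisting element over the stabilizer `T`, `u` a relative trace from `D` to `f`. -/
structure TwistData (k : Type v) [Field k] (G : Type u) [Group G] [Fintype G] where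
  C : Subgroup G
  D : Subgroup G
  T : Subgroup G
  NQ : Subgroup G
  f : MonoidAlgebra k G
  i : MonoidAlgebra k G
  N : MonoidAlgebra k G
  s : MonoidAlgebra k G
  s' : MonoidAlgebra k G
  tr : MonoidAlgebra k G
  t : G
  e : ℕ
  L : ℕ
  α : k
  ξ : k
  he : (e : k) ≠ 0
  hξ : ξ ≠ 0
  L_pos : 0 < L
  D_le : D ≤ C
  C_le : C ≤ T
  T_le : T ≤ NQ
  normC : ∀ g ∈ NQ, ∀ x ∈ C, g * x * g⁻¹ ∈ C
  t_mem : t ∈ T
  cosets : ∀ g ∈ T, ∃ l < e, (t ^ l)⁻¹ * g ∈ C
  cosets_inj : ∀ l < e, t ^ l ∈ C → l = 0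
  free : ∀ g : G, g ∉ NQ → ∀ d ∈ D, g⁻¹ * d * g ∈ D → d = 1
  f_supp : SuppIn C f
  f_idem : f * f = f
  f_comm : ∀ g ∈ T, Commute (single g 1) f
  f_orth : ∀ g ∈ NQ, g ∉ T → f * (single g 1 * f * single g⁻¹ 1) = 0
  i_supp : SuppIn C i
  i_idem : i * i = i
  f_i : f * i = i
  i_f : i * f = i
  N_supp : SuppIn C N
  i_N : i * N = N
  N_i : N * i = N
  N_pow : N ^ L * i = 0
  N_top : N ^ (L - 1) * i ≠ 0
  corner : ∀ a, SuppIn C a → ∃ c : ℕ → k, i * a * i = ∑ j ∈ Finset.range L, c j • (N ^ j * i)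
  full : ∃ (n : ℕ) (a b : Fin n → MonoidAlgebra k G), (∀ r, SuppIn C (a r)) ∧ (∀ r, SuppIn C (b r)) ∧
    (∀ r, a r * i = a r) ∧ (∀ r, i * b r = b r) ∧ ∑ r, a r * b r = f
  i_s : i * s = s
  s_i : s * i = s
  i_s' : i * s' = s'
  s'_i : s' * i = s'
  s_s' : s * s' = i
  s'_s : s' * s = i
  s_supp : SuppIn C (single t⁻¹ 1 * s)
  s'_supp : SuppIn C (s' * single t 1)
  s_N : s * N = α • (N * s)
  s_pow : s ^ e * i = ξ • i
  tr_supp : SuppIn C tr
  tr_comm : ∀ d ∈ D, Commute (single d 1) tr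
  f_tr : f * tr = tr
  tr_f : tr * f = tr
  tr_sum : ∑ q ∈ @Finset.filter _ (fun q : G ⧸ D => q.out ∈ C) (Classical.decPred _)
    (@Finset.univ _ (Fintype.ofFinite _)), single q.out 1 * tr * single q.out⁻¹ 1 = f

namespace TwistData

variable (X : TwistData k G)

theorem f_commute {a : MonoidAlgebra k G} (ha : SuppIn X.C a) : Commute X.f a :=
  letI := Fintype.ofFinite X.C
  Iso.CInv.commute_of_suppIn (cinv_of_commute fun s hs => X.f_comm s (X.C_le hs)) ha

theorem single_conj_supp {a : MonoidAlgebra k G} (ha : SuppIn X.C a) {g : G} (hg : g ∈ X.NQ) :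
    SuppIn X.C (single g 1 * a * single g⁻¹ 1) := by
  intro x hx
  rw [coeff_mul_single', coeff_single_mul', one_mul, mul_one]
  refine ha _ fun h => hx ?_
  have := X.normC g hg _ h
  simpa [mul_assoc] using this

variable {V : Type w} [AddCommGroup V] [Module k V] (Φ : MonoidAlgebra k G →ₐ[k] Module.End k V)

/-- The corner of a module. -/
noncomputable def cornerSub : Submodule k V := LinearMap.range (Φ X.i)

theorem mem_cornerSub {x : V} : x ∈ X.cornerSub Φ ↔ Φ X.i x = x := by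
  refine ⟨?_, fun h => ⟨x, h⟩⟩
  rintro ⟨y, rfl⟩
  rw [← Module.End.mul_apply, ← map_mul, X.i_idem]

theorem mapsTo_corner {a : MonoidAlgebra k G} (ha : X.i * a = a) :
    ∀ x ∈ X.cornerSub Φ, Φ a x ∈ X.cornerSub Φ := fun x _ =>
  (X.mem_cornerSub Φ).mpr (by rw [← Module.End.mul_apply, ← map_mul, ha])

/-- The action of `N` on the corner. -/
noncomputable def opN : Module.End k (X.cornerSub Φ) := (Φ X.N).restrict (X.mapsTo_corner Φ X.i_N)

/-- The action of `s` on the corner. -/
noncomputable def opS : Module.End k (X.cornerSub Φ) := (Φ X.s).restrict (X.mapsTo_corner Φ X.i_s)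

theorem opN_pow_apply (n : ℕ) (x : X.cornerSub Φ) :
    (((X.opN Φ ^ n) x : X.cornerSub Φ) : V) = Φ (X.N ^ n) x := by
  induction n with
  | zero => simp
  | succ n ih =>
    rw [pow_succ', pow_succ' X.N, map_mul, Module.End.mul_apply, Module.End.mul_apply, ← ih]
    rfl

theorem opS_pow_apply (n : ℕ) (x : X.cornerSub Φ) :
    (((X.opS Φ ^ n) x : X.cornerSub Φ) : V) = Φ (X.s ^ n) x := by
  induction n with
  | zero => simp
  | succ n ih =>
    rw [pow_succ', pow_succ' X.s, map_mul, Module.End.mul_apply, Module.End.mul_apply, ← ih]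
    rfl

theorem opS_pow : X.opS Φ ^ X.e = X.ξ • 1 := by
  refine LinearMap.ext fun x => Subtype.ext ?_
  rw [opS_pow_apply, ← (X.mem_cornerSub Φ).mp x.2, ← Module.End.mul_apply, ← map_mul, X.s_pow,
    map_smul]
  simp [(X.mem_cornerSub Φ).mp x.2]

theorem opN_pow : X.opN Φ ^ X.L = 0 := by
  refine LinearMap.ext fun x => Subtype.ext ?_
  rw [opN_pow_apply, ← (X.mem_cornerSub Φ).mp x.2, ← Module.End.mul_apply, ← map_mul, X.N_pow,
    map_zero]
  rfl

theorem opS_opN : X.opS Φ * X.opN Φ = X.α • (X.opN Φ * X.opS Φ) := by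
  refine LinearMap.ext fun x => Subtype.ext ?_
  show Φ X.s (Φ X.N x) = X.α • Φ X.N (Φ X.s x)
  rw [← Module.End.mul_apply, ← map_mul, X.s_N, map_smul, LinearMap.smul_apply, map_mul,
    Module.End.mul_apply]

/-- A module with scalar endomorphisms has one non-projective head in the corner. -/
theorem occurs_unique_of_scalar [IsAlgClosed k] [FiniteDimensional k V]
    (hschur : ∀ β : Module.End k V, (∀ g : G, Commute (Φ (single g 1)) β) → ∃ c : k, β = c • 1)
    {ν ν' : k} (hν : Occurs (X.opN Φ) (X.opS Φ) X.L ν) (hν' : Occurs (X.opN Φ) (X.opS Φ) X.L ν') :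
    ν = ν' := by
  classical
  letI : Fintype (G ⧸ X.D) := Fintype.ofFinite _
  letI : Fintype X.C := Fintype.ofFinite _
  letI : Fintype X.D := Fintype.ofFinite _
  refine CfsgLib.Block.CyclicDefect.occurs_unique X.he X.hξ (X.opS_pow Φ) (X.opS_opN Φ) (X.opN_pow Φ)
    (fun γ hγN hγS => ?_) hν hν'
  obtain ⟨n, a, b, ha, hb, hai, hib, hab⟩ := X.full
  -- the extension of `γ` by zero, then along the matrix units
  let γ₀ : Module.End k V := (X.cornerSub Φ).subtype ∘ₗ γ ∘ₗ
    ((Φ X.i).codRestrict (X.cornerSub Φ) fun x => ⟨x, rfl⟩)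
  have hiγ : Φ X.i * γ₀ = γ₀ := LinearMap.ext fun x => (X.mem_cornerSub Φ).mp (γ _).2
  have hγi : γ₀ * Φ X.i = γ₀ := by
    refine LinearMap.ext fun x => ?_
    show ((γ _ : X.cornerSub Φ) : V) = ((γ _ : X.cornerSub Φ) : V)
    refine congrArg (fun z => ((γ z : X.cornerSub Φ) : V)) (Subtype.ext ?_)
    show Φ X.i (Φ X.i x) = Φ X.i x
    rw [← Module.End.mul_apply, ← map_mul, X.i_idem]
  have hγ₀ : ∀ x : X.cornerSub Φ, γ₀ (x : V) = γ x := fun x => by
    show ((γ _ : X.cornerSub Φ) : V) = _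
    exact congrArg (fun z => ((γ z : X.cornerSub Φ) : V)) (Subtype.ext ((X.mem_cornerSub Φ).mp x.2))
  have hlift : ∀ (z : MonoidAlgebra k G) (hz : X.i * z = z) (_ : z * X.i = z),
      γ * (Φ z).restrict (X.mapsTo_corner Φ hz) = (Φ z).restrict (X.mapsTo_corner Φ hz) * γ →
      γ₀ * Φ z = Φ z * γ₀ := by
    intro z hz hzi hc
    have h1 : γ₀ * Φ z = γ₀ * Φ z * Φ X.i := by rw [mul_assoc, ← map_mul, hzi]
    have h2 : Φ z * γ₀ = Φ z * γ₀ * Φ X.i := by rw [mul_assoc, hγi]
    rw [h1, h2]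
    refine LinearMap.ext fun x => ?_
    have hx : Φ X.i x ∈ X.cornerSub Φ := ⟨x, rfl⟩
    have h3 := congrArg (fun T : Module.End k (X.cornerSub Φ) => ((T ⟨_, hx⟩ : X.cornerSub Φ) : V)) hc
    show γ₀ (Φ z (Φ X.i x)) = Φ z (γ₀ (Φ X.i x))
    rw [show γ₀ (Φ X.i x) = γ ⟨_, hx⟩ from hγ₀ ⟨_, hx⟩]
    exact (hγ₀ ⟨Φ z (Φ X.i x), X.mapsTo_corner Φ hz _ hx⟩).trans h3
  have hN₀ : γ₀ * Φ X.N = Φ X.N * γ₀ := hlift X.N X.i_N X.N_i hγN
  have hS₀ : γ₀ * Φ X.s = Φ X.s * γ₀ := hlift X.s X.i_s X.s_i hγS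
  have hcorner : ∀ z, SuppIn X.C z → γ₀ * Φ (X.i * z * X.i) = Φ (X.i * z * X.i) * γ₀ := by
    intro z hz
    obtain ⟨c, hc⟩ := X.corner z hz
    rw [hc]
    simp only [map_sum, map_smul, Finset.mul_sum, Finset.sum_mul, map_mul, map_pow]
    refine Finset.sum_congr rfl fun j _ => ?_
    rw [mul_smul_comm, smul_mul_assoc, ← mul_assoc, ((show Commute γ₀ (Φ X.N) from hN₀).pow_right j).eq,
      mul_assoc, hγi, mul_assoc, hiγ]
  let Γ : Module.End k V := ∑ r, Φ (a r) * γ₀ * Φ (b r)
  have hbf : ∀ r, b r * X.f = b r := fun r => by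
    rw [← (X.f_commute (hb r)).eq, ← hib r, ← mul_assoc, X.f_i]
  have hfa : ∀ r, X.f * a r = a r := fun r => by
    rw [(X.f_commute (ha r)).eq, ← hai r, mul_assoc, X.i_f]
  have hfΓ : Φ X.f * Γ = Γ := by
    simp only [Γ, Finset.mul_sum]
    refine Finset.sum_congr rfl fun r _ => ?_
    rw [← mul_assoc, ← mul_assoc, ← map_mul, hfa]
  have hΓf : Γ * Φ X.f = Γ := by
    simp only [Γ, Finset.sum_mul]
    refine Finset.sum_congr rfl fun r _ => ?_
    rw [mul_assoc, ← map_mul, hbf]
  have hΓC : ∀ z, SuppIn X.C z → Φ z * Γ = Γ * Φ z := by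
    intro z hz
    have h1 : ∀ r, b r * z = ∑ s, (X.i * (b r * z * a s) * X.i) * b s := fun r => by
      calc b r * z = b r * z * X.f := by
            rw [mul_assoc, ← (X.f_commute hz).eq, ← mul_assoc, hbf]
        _ = _ := by
            rw [← hab, Finset.mul_sum]
            refine Finset.sum_congr rfl fun s _ => ?_
            simp only [← mul_assoc, hib r]
            rw [mul_assoc (b r * z * a s) X.i, hib s]
    have h2 : Γ * Φ z = ∑ r, ∑ s, Φ (a r * (X.i * (b r * z * a s) * X.i)) * γ₀ * Φ (b s) := by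
      simp only [Γ, Finset.sum_mul]
      refine Finset.sum_congr rfl fun r _ => ?_
      conv_lhs => rw [mul_assoc, ← map_mul, h1, map_sum, Finset.mul_sum]
      refine Finset.sum_congr rfl fun s _ => ?_
      rw [map_mul, ← mul_assoc, mul_assoc (Φ (a r)) γ₀, hcorner _ (((hb r).mul hz).mul (ha s)),
        ← mul_assoc, ← map_mul]
    have h3 : ∀ r s, a r * (X.i * (b r * z * a s) * X.i) = a r * b r * z * a s := fun r s => by
      simp only [← mul_assoc, hai r]
      rw [mul_assoc (a r * b r * z) (a s) X.i, hai s]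
    rw [h2, Finset.sum_comm]
    simp only [h3, ← Finset.sum_mul, ← map_sum, hab]
    simp only [Γ, Finset.mul_sum]
    refine Finset.sum_congr rfl fun s _ => ?_
    rw [← mul_assoc, ← mul_assoc, ← map_mul, (X.f_commute hz).eq, mul_assoc z, hfa]
  have hiΓ : Φ X.i * Γ * Φ X.i = γ₀ := by
    have h : ∀ r, X.i * a r = X.i * a r * X.i := fun r => by rw [mul_assoc, hai r]
    simp only [Γ, Finset.mul_sum, Finset.sum_mul]
    rw [Finset.sum_congr rfl (g := fun r => γ₀ * Φ (X.i * a r * b r * X.i)) fun r _ => by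
      rw [← mul_assoc, ← mul_assoc, ← map_mul, h r, ← hcorner _ (ha r), mul_assoc, mul_assoc,
        ← map_mul, ← map_mul, ← h r]
      simp only [mul_assoc],
      ← Finset.mul_sum, ← map_sum, ← Finset.sum_mul]
    rw [show ∑ r, X.i * a r * b r = X.i * ∑ r, a r * b r by simp only [Finset.mul_sum, mul_assoc],
      hab, X.i_f, X.i_idem, hγi]
  have hΓi : Γ * Φ X.i = γ₀ := by
    conv_rhs => rw [← hiΓ]
    rw [hΓC _ X.i_supp, mul_assoc, ← map_mul, X.i_idem]
  have hiΓ' : Φ X.i * Γ = γ₀ := by rw [hΓC _ X.i_supp, hΓi]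
  let cg : G → Module.End k V := fun g => Φ (single g 1)
  have hcg : ∀ g h, cg g * cg h = cg (g * h) := fun g h => by
    simp only [cg, ← map_mul, MonoidAlgebra.single_mul_single, one_mul]
  have hcg1 : cg 1 = 1 := by simp only [cg, ← MonoidAlgebra.one_def, map_one]
  have htN : X.t ∈ X.NQ := X.T_le X.t_mem
  set w := single X.t⁻¹ 1 * X.s with hw
  have hwi : w * X.i = w := by rw [hw, mul_assoc, X.s_i]
  have hΓs : Γ * Φ X.s = Φ X.s * γ₀ := by
    rw [← X.i_s, map_mul, ← mul_assoc, hΓi, hS₀, ← map_mul, X.i_s]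
  let Γ' : Module.End k V := cg X.t⁻¹ * Γ * cg X.t
  have hΓ'C : ∀ z, SuppIn X.C z → Φ z * Γ' = Γ' * Φ z := by
    intro z hz
    set z' := single X.t 1 * z * single X.t⁻¹ 1 with hz'
    have h1 : Φ z * cg X.t⁻¹ = cg X.t⁻¹ * Φ z' := by
      simp only [cg, ← map_mul, hz', ← mul_assoc, MonoidAlgebra.single_mul_single, inv_mul_cancel,
        one_mul, ← MonoidAlgebra.one_def]
    have h2 : cg X.t * Φ z = Φ z' * cg X.t := by
      simp only [cg, ← map_mul, hz', mul_assoc, MonoidAlgebra.single_mul_single, inv_mul_cancel,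
        one_mul, ← MonoidAlgebra.one_def, mul_one]
    calc Φ z * Γ' = cg X.t⁻¹ * (Φ z' * Γ) * cg X.t := by simp only [Γ', ← mul_assoc, h1]
      _ = cg X.t⁻¹ * (Γ * Φ z') * cg X.t := by rw [hΓC _ (X.single_conj_supp hz htN)]
      _ = Γ' * Φ z := by simp only [Γ', mul_assoc, h2]
  have hdiff : (Γ' - Γ) * Φ w = 0 := by
    have h1 : Γ' * Φ w = Φ w * γ₀ := by
      have : cg X.t * Φ w = Φ X.s := by
        simp only [cg, hw, ← map_mul, ← mul_assoc, MonoidAlgebra.single_mul_single, mul_inv_cancel,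
          one_mul, ← MonoidAlgebra.one_def]
      rw [show Γ' * Φ w = cg X.t⁻¹ * (Γ * (cg X.t * Φ w)) by simp only [Γ', mul_assoc], this, hΓs,
        ← mul_assoc]
      simp only [cg, hw, ← map_mul]
    have h2 : Γ * Φ w = Φ w * γ₀ := by
      rw [← hΓC w X.s_supp]
      conv_lhs => rw [← hwi, map_mul, mul_assoc, hiΓ']
    rw [sub_mul, h1, h2, sub_self]
  have hdi : (Γ' - Γ) * Φ X.i = 0 := by
    set x := X.s' * single X.t 1 with hx
    have hxw : x * w = X.i := by
      rw [hx, hw, mul_assoc, ← mul_assoc (single X.t 1), MonoidAlgebra.single_mul_single,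
        mul_inv_cancel, one_mul, ← MonoidAlgebra.one_def, one_mul, X.s'_s]
    rw [← hxw, map_mul, ← mul_assoc, sub_mul, ← hΓ'C _ X.s'_supp, ← hΓC _ X.s'_supp, ← mul_sub,
      mul_assoc, hdiff, mul_zero]
  have hft : cg X.t * Φ X.f = Φ X.f * cg X.t := by
    simp only [cg, ← map_mul, (X.f_comm X.t X.t_mem).eq]
  have hΓ'f : Γ' * Φ X.f = Γ' := by
    rw [show Γ' * Φ X.f = cg X.t⁻¹ * (Γ * (cg X.t * Φ X.f)) by simp only [Γ', mul_assoc], hft,
      ← mul_assoc Γ, hΓf]
    simp only [Γ', mul_assoc]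
  have hΓeq : Γ' = Γ := by
    refine sub_eq_zero.mp ?_
    calc Γ' - Γ = (Γ' - Γ) * Φ X.f := by rw [sub_mul, hΓ'f, hΓf]
      _ = ∑ r, (Γ' - Γ) * Φ (a r) * Φ (b r) := by
          rw [← hab, map_sum, Finset.mul_sum]
          simp only [map_mul, mul_assoc]
      _ = 0 := Finset.sum_eq_zero fun r _ => by
          rw [sub_mul (a := Γ'), ← hΓ'C _ (ha r), ← hΓC _ (ha r), ← mul_sub, mul_assoc, ← hib r,
            map_mul, ← mul_assoc (Γ' - Γ), hdi, zero_mul, mul_zero]
  have hΓt : Commute (cg X.t) Γ := by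
    have h : cg X.t * Γ' = Γ * cg X.t := by
      simp only [Γ', ← mul_assoc, hcg, mul_inv_cancel, hcg1, one_mul]
    rw [hΓeq] at h
    exact h
  -- the relative trace
  set φ : Module.End k V := Φ X.tr * Γ with hφ
  have hΓsingle : ∀ x ∈ X.C, Commute (cg x) Γ := fun x hx => hΓC _ (suppIn_single hx 1)
  have hφD : ∀ d ∈ X.D, cg d * φ * cg d⁻¹ = φ := by
    intro d hd
    have h1 : Commute (cg d) φ :=
      ((X.tr_comm d hd).map Φ).mul_right (hΓsingle d (X.D_le hd))
    rw [h1.eq, mul_assoc, hcg, mul_inv_cancel, hcg1, mul_one]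
  let F : G ⧸ X.D → Module.End k V := fun q => cg q.out * φ * cg q.out⁻¹
  have hFmk : ∀ g : G, F (g : G ⧸ X.D) = cg g * φ * cg g⁻¹ := by
    intro g
    obtain ⟨d, hd⟩ := QuotientGroup.mk_out_eq_mul X.D g
    simp only [F, hd, mul_inv_rev, ← hcg]
    conv_rhs => rw [← hφD d d.2]
    simp only [mul_assoc]
  have hFsmul : ∀ (g : G) (q : G ⧸ X.D), F (g • q) = cg g * F q * cg g⁻¹ := by
    intro g q
    conv_lhs => rw [← QuotientGroup.out_eq' q, MulAction.Quotient.smul_mk, hFmk]
    simp only [F, smul_eq_mul, mul_inv_rev, ← hcg, mul_assoc]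
  obtain ⟨lam, hlam⟩ := hschur (∑ q, F q) fun g => by
    show cg g * _ = _ * cg g
    rw [Finset.mul_sum, Finset.sum_mul]
    refine Fintype.sum_equiv (MulAction.toPerm g) _ _ fun q => ?_
    rw [MulAction.toPerm_apply, hFsmul, mul_assoc, hcg, inv_mul_cancel, hcg1, mul_one]
  have hmemC : ∀ g : G, ((g : G ⧸ X.D).out ∈ X.C ↔ g ∈ X.C) := fun g => by
    obtain ⟨d, hd⟩ := QuotientGroup.mk_out_eq_mul X.D g
    rw [hd, X.C.mul_mem_cancel_right (X.D_le d.2)]
  have hmemT : ∀ g : G, ((g : G ⧸ X.D).out ∈ X.T ↔ g ∈ X.T) := fun g => by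
    obtain ⟨d, hd⟩ := QuotientGroup.mk_out_eq_mul X.D g
    rw [hd, X.T.mul_mem_cancel_right (X.C_le (X.D_le d.2))]
  have hmemN : ∀ g : G, ((g : G ⧸ X.D).out ∈ X.NQ ↔ g ∈ X.NQ) := fun g => by
    obtain ⟨d, hd⟩ := QuotientGroup.mk_out_eq_mul X.D g
    rw [hd, X.NQ.mul_mem_cancel_right (X.T_le (X.C_le (X.D_le d.2)))]
  set SC := Finset.univ.filter (fun q : G ⧸ X.D => q.out ∈ X.C) with hSC
  have hsumC : ∑ q ∈ SC, F q = Γ := by
    have h1 : ∀ q ∈ SC, F q = Φ (single q.out 1 * X.tr * single q.out⁻¹ 1) * Γ := fun q hq => by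
      have h2 := hΓsingle _ (X.C.inv_mem (Finset.mem_filter.mp hq).2)
      simp only [F, hφ, mul_assoc, ← h2.eq]
      simp only [cg, map_mul, mul_assoc]
    rw [Finset.sum_congr rfl h1, ← Finset.sum_mul, ← map_sum,
      show ∑ q ∈ SC, single q.out 1 * X.tr * single q.out⁻¹ 1 = X.f by
        convert X.tr_sum using 2,
      hfΓ]
  have hpow : ∀ l : ℕ, Commute (cg (X.t ^ l)) Γ := by
    intro l
    induction l with
    | zero => rw [pow_zero, hcg1]; exact Commute.one_left Γ
    | succ l ihl => rw [pow_succ, ← hcg]; exact ihl.mul_left hΓt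
  set ST := Finset.univ.filter (fun q : G ⧸ X.D => q.out ∈ X.T) with hST
  have hsumT : ∑ q ∈ ST, F q = X.e • Γ := by
    rw [show X.e • Γ = ∑ l ∈ Finset.range X.e, ∑ q ∈ SC, F q by simp [hsumC]]
    rw [show ∑ l ∈ Finset.range X.e, ∑ q ∈ SC, F q =
        ∑ l ∈ Finset.range X.e, ∑ q ∈ SC, F (X.t ^ l • q) from Finset.sum_congr rfl fun l _ => by
      simp only [hFsmul, ← Finset.mul_sum, ← Finset.sum_mul, hsumC]
      have hc : Commute (cg (X.t ^ l)) Γ := hpow l
      rw [hc.eq, mul_assoc, hcg, mul_inv_cancel, hcg1, mul_one], ← Finset.sum_product']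
    refine (Finset.sum_bij (fun lq _ => X.t ^ lq.1 • lq.2) (fun lq hlq => ?_) (fun lq hlq lq' hlq' h => ?_)
      (fun q hq => ?_) fun lq _ => rfl).symm
    · obtain ⟨l, q⟩ := lq
      obtain ⟨-, hq⟩ := Finset.mem_product.mp hlq
      refine Finset.mem_filter.mpr ⟨Finset.mem_univ _, ?_⟩
      rw [← QuotientGroup.out_eq' q, MulAction.Quotient.smul_mk, hmemT, smul_eq_mul]
      exact X.T.mul_mem (X.T.pow_mem X.t_mem _) (X.C_le (Finset.mem_filter.mp hq).2)
    · obtain ⟨l, q⟩ := lq
      obtain ⟨l', q'⟩ := lq'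
      obtain ⟨hl, hq⟩ := Finset.mem_product.mp hlq
      obtain ⟨hl', hq'⟩ := Finset.mem_product.mp hlq'
      have hl := Finset.mem_range.mp hl
      have hl' := Finset.mem_range.mp hl'
      have hq := (Finset.mem_filter.mp hq).2
      have hq' := (Finset.mem_filter.mp hq').2
      simp only at h hl hl' hq hq'
      have key : ∀ l l' : ℕ, l ≤ l' → l' < X.e → ∀ q q' : G ⧸ X.D, q.out ∈ X.C → q'.out ∈ X.C →
          X.t ^ l • q = X.t ^ l' • q' → l = l' := by
        intro l l' hle hlt q q' hq hq' h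
        obtain ⟨d, rfl⟩ := Nat.exists_eq_add_of_le hle
        rw [pow_add, mul_smul] at h
        have h1 := smul_left_cancel _ h
        rw [h1, ← QuotientGroup.out_eq' q', MulAction.Quotient.smul_mk, hmemC, smul_eq_mul,
          X.C.mul_mem_cancel_right hq'] at hq
        rw [X.cosets_inj d (by omega) hq, add_zero]
      obtain rfl : l = l' := (le_total l l').elim (fun h0 => key l l' h0 hl' q q' hq hq' h)
        fun h0 => (key l' l h0 hl q' q hq' hq h.symm).symm
      rw [smul_left_cancel _ h]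
    · obtain ⟨l, hl, hlC⟩ := X.cosets q.out (Finset.mem_filter.mp hq).2
      refine ⟨(l, (X.t ^ l)⁻¹ • q), Finset.mem_product.mpr ⟨Finset.mem_range.mpr hl,
        Finset.mem_filter.mpr ⟨Finset.mem_univ _, ?_⟩⟩, smul_inv_smul _ q⟩
      rw [← QuotientGroup.out_eq' q, MulAction.Quotient.smul_mk, hmemC]
      exact hlC
  set SN := Finset.univ.filter (fun q : G ⧸ X.D => q.out ∈ X.NQ ∧ q.out ∉ X.T) with hSN
  have hsumN : Φ X.f * ∑ q ∈ SN, F q = 0 := by
    rw [Finset.mul_sum]
    refine Finset.sum_eq_zero fun q hq => ?_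
    obtain ⟨-, hqN, hqT⟩ := Finset.mem_filter.mp hq
    have h1 : φ = Φ X.f * φ := by rw [hφ, ← mul_assoc, ← map_mul, X.f_tr]
    have h0 : Φ (X.f * (single q.out 1 * X.f * single q.out⁻¹ 1)) = 0 := by
      rw [X.f_orth _ hqN hqT, map_zero]
    calc Φ X.f * F q
        = Φ X.f * (cg q.out * (Φ X.f * φ) * cg q.out⁻¹) := by rw [← h1]
      _ = Φ X.f * (cg q.out * Φ X.f * (cg q.out⁻¹ * cg q.out) * φ * cg q.out⁻¹) := by
          rw [hcg, inv_mul_cancel, hcg1, mul_one]; simp only [mul_assoc]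
      _ = Φ (X.f * (single q.out 1 * X.f * single q.out⁻¹ 1)) * (cg q.out * φ * cg q.out⁻¹) := by
          simp only [map_mul, cg, mul_assoc]
      _ = 0 := by rw [h0, zero_mul]
  set SO := Finset.univ.filter (fun q : G ⧸ X.D => q.out ∉ X.NQ) with hSO
  letI := MulAction.compHom (G ⧸ X.D) X.D.subtype
  have hdsmul : ∀ (d : X.D) (q : G ⧸ X.D), d • q = (d : G) • q := fun d q => rfl
  have hSOC : ∀ x ∈ X.NQ, ∀ q : G ⧸ X.D, (x • q).out ∉ X.NQ ↔ q.out ∉ X.NQ := fun x hx q => by
    rw [← QuotientGroup.out_eq' q, MulAction.Quotient.smul_mk, hmemN, smul_eq_mul,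
      X.NQ.mul_mem_cancel_left hx, hmemN]
  let rep : G ⧸ X.D → G ⧸ X.D := fun q =>
    (Quotient.mk (MulAction.orbitRel X.D (G ⧸ X.D)) q).out
  let h₀ : Module.End k V := ∑ q ∈ SO.filter (fun q => rep q = q), F q
  have hD : ∑ q ∈ SO, F q = ∑ d : X.D, cg d * h₀ * cg (d : G)⁻¹ := by
    simp only [h₀, Finset.mul_sum, Finset.sum_mul, ← hFsmul]
    rw [← Finset.sum_product']
    have hrep : ∀ (d : X.D) q, rep (d • q) = rep q := fun d q =>
      congrArg Quotient.out (Quotient.sound ⟨d, rfl⟩)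
    refine (Finset.sum_bij (fun dq _ => dq.1 • dq.2) (fun dq hdq => ?_) (fun dq hdq dq' hdq' h => ?_)
      (fun q hq => ?_) fun dq _ => rfl).symm
    · obtain ⟨-, hq⟩ := Finset.mem_product.mp hdq
      refine Finset.mem_filter.mpr ⟨Finset.mem_univ _, ?_⟩
      rw [hdsmul, hSOC _ (X.T_le (X.C_le (X.D_le dq.1.2)))]
      exact (Finset.mem_filter.mp (Finset.mem_filter.mp hq).1).2
    · obtain ⟨d, q⟩ := dq
      obtain ⟨d', q'⟩ := dq'
      obtain ⟨-, hq⟩ := Finset.mem_product.mp hdq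
      obtain ⟨-, hq'⟩ := Finset.mem_product.mp hdq'
      simp only at h hq hq'
      have hqq : q = q' := by
        rw [← (Finset.mem_filter.mp hq).2, ← (Finset.mem_filter.mp hq').2, ← hrep d q, h, hrep]
      subst hqq
      have hfix : ((d'⁻¹ * d : X.D) : G) • q = q := by
        rw [← hdsmul, mul_smul, h, inv_smul_smul]
      have hnN : q.out ∉ X.NQ := (Finset.mem_filter.mp (Finset.mem_filter.mp hq).1).2
      rw [← QuotientGroup.out_eq' q, MulAction.Quotient.smul_mk, QuotientGroup.eq, smul_eq_mul]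
        at hfix
      have h2 := X.free q.out hnN ((d'⁻¹ * d : X.D) : G)⁻¹ (X.D.inv_mem (d'⁻¹ * d : X.D).2)
        (by simpa [mul_assoc] using hfix)
      rw [inv_eq_one, OneMemClass.coe_eq_one, inv_mul_eq_one] at h2
      rw [h2]
    · obtain ⟨d, hd⟩ : ∃ d : X.D, d • rep q = q := by
        have h1 : (MulAction.orbitRel X.D (G ⧸ X.D)) q (rep q) :=
          Quotient.exact (Quotient.out_eq (Quotient.mk (MulAction.orbitRel X.D (G ⧸ X.D)) q)).symm
        exact h1
      refine ⟨(d, rep q), Finset.mem_product.mpr ⟨Finset.mem_univ _, Finset.mem_filter.mpr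
        ⟨Finset.mem_filter.mpr ⟨Finset.mem_univ _, ?_⟩, ?_⟩⟩, hd⟩
      · have := (Finset.mem_filter.mp hq).2
        rw [← hd, hdsmul, hSOC _ (X.T_le (X.C_le (X.D_le d.2)))] at this
        exact this
      · conv_rhs => rw [show rep q = (Quotient.mk (MulAction.orbitRel X.D (G ⧸ X.D)) q).out from rfl]
        exact congrArg Quotient.out (Quotient.out_eq _)
  set H : Module.End k V := ∑ q ∈ SO, F q with hH
  have hHC : ∀ x ∈ X.C, Commute (cg x) H := by
    intro x hx
    show cg x * H = H * cg x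
    rw [hH, Finset.mul_sum, Finset.sum_mul]
    refine Finset.sum_equiv (MulAction.toPerm x) (fun q => ?_) fun q _ => ?_
    · simp only [hSO, Finset.mem_filter, Finset.mem_univ, true_and, MulAction.toPerm_apply,
        hSOC _ (X.T_le (X.C_le hx))]
    · rw [MulAction.toPerm_apply, hFsmul, mul_assoc, hcg, inv_mul_cancel, hcg1, mul_one]
  have hsplit : ∑ q, F q = X.e • Γ + ∑ q ∈ SN, F q + H := by
    rw [← hsumT, hH, ← Finset.sum_union, ← Finset.sum_union]
    · refine Finset.sum_congr (Finset.ext fun q => ?_) fun _ _ => rfl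
      simp only [hST, hSN, hSO, Finset.mem_union, Finset.mem_filter, Finset.mem_univ, true_and, true_iff]
      tauto
    · rw [Finset.disjoint_left]
      intro q hq hq'
      simp only [hST, hSN, hSO, Finset.mem_union, Finset.mem_filter, Finset.mem_univ, true_and] at hq hq'
      rcases hq with h | h
      · exact hq' (X.T_le h)
      · exact hq' h.1
    · rw [Finset.disjoint_left]
      intro q hq hq'
      simp only [hST, hSN, Finset.mem_filter, Finset.mem_univ, true_and] at hq hq'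
      exact hq'.2 hq
  -- the relative trace from the trivial subgroup
  set h₁ : Module.End k V := Φ X.tr * h₀ * Φ X.f with hh₁
  have hHf : Φ X.f * H * Φ X.f = ∑ y : X.C, cg y * h₁ * cg (y : G)⁻¹ := by
    have hf' : ∀ x ∈ X.C, Commute (cg x) (Φ X.f) := fun x hx =>
      (X.f_comm x (X.C_le hx)).map Φ
    have h2 : Φ X.f * H * Φ X.f =
        ∑ q ∈ SC, cg q.out * (Φ X.tr * H * Φ X.f) * cg q.out⁻¹ := by
      conv_lhs => arg 1; arg 1; rw [show X.f = ∑ q ∈ SC, single q.out 1 * X.tr * single q.out⁻¹ 1 by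
        convert X.tr_sum.symm using 2]
      rw [map_sum, Finset.sum_mul, Finset.sum_mul]
      refine Finset.sum_congr rfl fun q hq => ?_
      have hx := X.C.inv_mem (Finset.mem_filter.mp hq).2
      rw [map_mul, map_mul]
      calc cg q.out * Φ X.tr * cg q.out⁻¹ * H * Φ X.f
          = cg q.out * Φ X.tr * (cg q.out⁻¹ * H) * Φ X.f := by simp only [mul_assoc]
        _ = cg q.out * Φ X.tr * H * (cg q.out⁻¹ * Φ X.f) := by rw [(hHC _ hx).eq]; simp only [mul_assoc]
        _ = cg q.out * (Φ X.tr * H * Φ X.f) * cg q.out⁻¹ := by rw [(hf' _ hx).eq]; simp only [mul_assoc]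
    have h3 : Φ X.tr * H * Φ X.f = ∑ d : X.D, cg d * h₁ * cg (d : G)⁻¹ := by
      rw [hD, Finset.mul_sum, Finset.sum_mul]
      refine Finset.sum_congr rfl fun d _ => ?_
      have e1 : Commute (cg d) (Φ X.tr) := (X.tr_comm d d.2).map Φ
      have e2 := hf' _ (X.C.inv_mem (X.D_le d.2))
      calc Φ X.tr * (cg d * h₀ * cg (d : G)⁻¹) * Φ X.f
          = (Φ X.tr * cg d) * h₀ * (cg (d : G)⁻¹ * Φ X.f) := by simp only [mul_assoc]
        _ = cg d * h₁ * cg (d : G)⁻¹ := by rw [← e1.eq, e2.eq, hh₁]; simp only [mul_assoc]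
    rw [h2]
    simp only [h3, Finset.mul_sum, Finset.sum_mul]
    rw [← Finset.sum_product']
    refine Finset.sum_bij (fun qd hqd => (⟨qd.1.out * (qd.2 : G), X.C.mul_mem
        (Finset.mem_filter.mp (Finset.mem_product.mp hqd).1).2 (X.D_le qd.2.2)⟩ : X.C))
      (fun _ _ => Finset.mem_univ _) (fun qd _ qd' _ h => ?_) (fun y _ => ?_) fun qd _ => ?_
    · obtain ⟨q, d⟩ := qd
      obtain ⟨q', d'⟩ := qd'
      have h' : q.out * (d : G) = q'.out * d' := congrArg Subtype.val h
      have hqq : q = q' := by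
        rw [← QuotientGroup.out_eq' q, ← QuotientGroup.out_eq' q', QuotientGroup.eq]
        rw [show q.out⁻¹ * q'.out = (d : G) * (d' : G)⁻¹ by
          rw [eq_mul_inv_iff_mul_eq, mul_assoc, ← h', inv_mul_cancel_left]]
        exact X.D.mul_mem d.2 (X.D.inv_mem d'.2)
      subst hqq
      rw [show d = d' from Subtype.ext (mul_left_cancel h')]
    · obtain ⟨d, hd⟩ := QuotientGroup.mk_out_eq_mul X.D (y : G)
      exact ⟨((y : G ⧸ X.D), d⁻¹), Finset.mem_product.mpr
        ⟨Finset.mem_filter.mpr ⟨Finset.mem_univ _, (hmemC y).mpr y.2⟩, Finset.mem_univ _⟩,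
        Subtype.ext (by show _ * ((d⁻¹ : X.D) : G) = _; rw [hd]; simp)⟩
    · simp only [← hcg, mul_inv_rev, mul_assoc]
  set b₀ := Module.finBasis k V with hb₀
  have hkill : ∀ x : V, Φ X.i x = x → Φ (X.N ^ (X.L - 1)) x = 0 →
      ∃ z, Φ X.i ((Φ X.f * H * Φ X.f) x) = Φ X.N z := by
    intro x hxi hxN
    let A : Fin (Module.finrank k V) → V → MonoidAlgebra k G := fun j v =>
      ∑ y : X.C, b₀.coord j (h₁ (cg (y : G)⁻¹ v)) • single (y : G) (1 : k)
    have hAsupp : ∀ j v, SuppIn X.C (A j v) := fun j v g hg => by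
      rw [coeff_sum_apply]
      exact Finset.sum_eq_zero fun y _ => (suppIn_single y.2 (1 : k)).smul _ g hg
    have hAlin : ∀ j v v' (r : k), A j (r • v + v') = r • A j v + A j v' := fun j v v' r => by
      simp only [A, map_add, map_smul, add_smul, smul_eq_mul, Finset.sum_add_distrib, mul_smul,
        Finset.smul_sum]
    have hAmul : ∀ j z, SuppIn X.C z → ∀ v, A j (Φ z v) = z * A j v := by
      intro j z hz v
      have hone : ∀ c ∈ X.C, A j (cg c v) = single c 1 * A j v := by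
        intro c hc
        simp only [A, Finset.mul_sum, mul_smul_comm, MonoidAlgebra.single_mul_single, one_mul]
        refine Fintype.sum_equiv (Equiv.mulLeft (⟨c, hc⟩⁻¹ : X.C)) _ _ fun y => ?_
        simp only [Equiv.coe_mulLeft, Subgroup.coe_mul, InvMemClass.coe_inv, mul_inv_rev, inv_inv,
          mul_inv_cancel_left, ← hcg, Module.End.mul_apply]
      have hsum : ∀ (S : Finset G), (∀ c ∈ S, c ∈ X.C) →
          A j (Φ (∑ c ∈ S, z.coeff c • single c (1 : k)) v) =
            (∑ c ∈ S, z.coeff c • single c (1 : k)) * A j v := by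
        intro S hS
        induction S using Finset.induction_on with
        | empty =>
          simp only [Finset.sum_empty, map_zero, LinearMap.zero_apply, zero_mul]
          simpa using hAlin j 0 0 1
        | insert c S hc ih =>
          rw [Finset.sum_insert hc, map_add, map_smul, LinearMap.add_apply, LinearMap.smul_apply,
            hAlin, ih fun x hx => hS x (Finset.mem_insert_of_mem hx), add_mul, smul_mul_assoc,
            hone c (hS c (Finset.mem_insert_self c S))]
      have hzs : z = ∑ c ∈ Finset.univ.filter (· ∈ X.C), z.coeff c • single c (1 : k) := by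
        refine ga_ext fun g => ?_
        rw [coeff_sum_apply]
        by_cases hg : g ∈ X.C
        · rw [Finset.sum_eq_single g] <;> simp +contextual [hg]
        · rw [hz g hg, Finset.sum_eq_zero fun c hc => ?_]
          simp [Finset.mem_filter] at hc
          simp [Finsupp.single_eq_of_ne (fun e : g = c => hg (e ▸ hc))]
      conv_lhs => rw [hzs]
      conv_rhs => rw [hzs]
      exact hsum _ fun c hc => (Finset.mem_filter.mp hc).2
    have hP : (Φ X.f * H * Φ X.f) x = ∑ j, Φ (A j x) (b₀ j) := by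
      rw [hHf, LinearMap.sum_apply]
      simp only [A, map_sum, map_smul, LinearMap.sum_apply, LinearMap.smul_apply]
      rw [Finset.sum_comm]
      refine Finset.sum_congr rfl fun y _ => ?_
      rw [Module.End.mul_apply, Module.End.mul_apply]
      conv_lhs => rw [← b₀.sum_repr (h₁ (cg (y : G)⁻¹ x)), map_sum]
      simp only [map_smul]
      rfl
    have hA0 : ∀ j, ∃ z, X.i * A j x = X.N * z := by
      intro j
      have h1 : X.i * A j x = A j x := by rw [← hAmul j _ X.i_supp, hxi]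
      have hNsupp : ∀ n, SuppIn X.C (X.N ^ n * X.i) := fun n => by
        refine SuppIn.mul ?_ X.i_supp
        induction n with
        | zero => rw [pow_zero, MonoidAlgebra.one_def]; exact suppIn_single X.C.one_mem 1
        | succ n ihn => rw [pow_succ]; exact ihn.mul X.N_supp
      have h2 : X.N ^ (X.L - 1) * X.i * A j x = 0 := by
        rw [← hAmul j _ (hNsupp _), map_mul, Module.End.mul_apply, hxi, hxN]
        simpa using hAlin j 0 0 1
      have hAf : A j x = X.i * A j x * X.f := by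
        rw [h1, ← (X.f_commute (hAsupp j x)).eq, ← hAmul j _ X.f_supp]
        congr 1
        rw [← hxi, ← Module.End.mul_apply, ← map_mul, X.f_i]
      have hdec : A j x = ∑ r, (X.i * (A j x * a r) * X.i) * b r := by
        conv_lhs => rw [hAf, ← hab, Finset.mul_sum]
        refine Finset.sum_congr rfl fun r _ => ?_
        rw [mul_assoc X.i (A j x * a r) X.i, mul_assoc (A j x) (a r) X.i, hai r]
        simp only [mul_assoc]
      choose c hc using fun r => X.corner (A j x * a r) ((hAsupp j x).mul (ha r))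
      have hc0 : ∀ r, c r 0 = 0 := by
        intro r
        have h3 : X.N ^ (X.L - 1) * X.i * (X.i * (A j x * a r) * X.i) = 0 := by
          rw [← mul_assoc (X.N ^ (X.L - 1) * X.i) (X.i * (A j x * a r)), ← mul_assoc
            (X.N ^ (X.L - 1) * X.i) X.i, mul_assoc _ X.i X.i, X.i_idem, ← mul_assoc _ (A j x) (a r), h2,
            zero_mul, zero_mul]
        rw [hc r, Finset.mul_sum, Finset.sum_eq_single_of_mem 0 (Finset.mem_range.mpr X.L_pos) fun n hn hn0 => ?_,
          pow_zero, one_mul, mul_smul_comm, mul_assoc, X.i_idem] at h3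
        · exact (smul_eq_zero.mp h3).resolve_right X.N_top
        · have hiN : X.i * X.N ^ n = X.N ^ n * X.i :=
            ((show Commute X.i X.N from X.i_N.trans X.N_i.symm).pow_right n).eq
          rw [mul_smul_comm, mul_assoc, ← mul_assoc X.i, hiN, mul_assoc, X.i_idem, ← mul_assoc,
            ← pow_add, show X.L - 1 + n = (n - 1) + X.L by have := X.L_pos; omega, pow_add, mul_assoc, X.N_pow, mul_zero,
            smul_zero]
      refine ⟨∑ r, (∑ n ∈ Finset.range (X.L - 1), c r (n + 1) • (X.N ^ n * X.i)) * b r, ?_⟩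
      rw [h1, hdec, Finset.mul_sum]
      refine Finset.sum_congr rfl fun r _ => ?_
      rw [hc r, ← mul_assoc]
      congr 1
      obtain ⟨L', hL'⟩ : ∃ L', X.L = L' + 1 := ⟨X.L - 1, by have := X.L_pos; omega⟩
      rw [hL', Finset.sum_range_succ', hc0 r, zero_smul, add_zero, Finset.mul_sum, Nat.add_sub_cancel]
      exact Finset.sum_congr rfl fun n _ => by rw [mul_smul_comm, ← mul_assoc, ← pow_succ']
    choose z hz using hA0
    refine ⟨∑ j, Φ (z j) (b₀ j), ?_⟩
    rw [hP, map_sum, map_sum]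
    refine Finset.sum_congr rfl fun j _ => ?_
    rw [← Module.End.mul_apply, ← map_mul, hz, map_mul, Module.End.mul_apply]
  refine ⟨lam / (X.e : k), fun x hx => ?_⟩
  have hxi : Φ X.i (x : V) = x := (X.mem_cornerSub Φ).mp x.2
  have hxN : Φ (X.N ^ (X.L - 1)) (x : V) = 0 := by rw [← X.opN_pow_apply Φ, hx]; rfl
  have hxf : Φ X.f (x : V) = x := by
    rw [← hxi, ← Module.End.mul_apply, ← map_mul, X.f_i]
  obtain ⟨z, hz⟩ := hkill x hxi hxN
  have hmain : lam • (x : V) = (X.e : k) • ((γ x : X.cornerSub Φ) : V) + Φ X.N z := by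
    have h1 : Φ X.i ((Φ X.f * (∑ q, F q) * Φ X.f) (x : V)) = lam • (x : V) := by
      rw [hlam, Module.End.mul_apply, Module.End.mul_apply, LinearMap.smul_apply, Module.End.one_apply,
        hxf, map_smul, map_smul, hxf, hxi]
    rw [hsplit, mul_add, mul_add, hsumN, add_zero, add_mul, LinearMap.add_apply, map_add, hz] at h1
    rw [← h1]
    congr 1
    rw [mul_smul_comm, hfΓ, smul_mul_assoc, hΓf, LinearMap.smul_apply, map_nsmul,
      ← Nat.cast_smul_eq_nsmul k, ← Module.End.mul_apply, hiΓ']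
    rw [hγ₀]
  refine ⟨⟨Φ X.i (-((X.e : k)⁻¹ • z)), _, rfl⟩, Subtype.ext ?_⟩
  show Φ X.N (Φ X.i (-((X.e : k)⁻¹ • z))) = ((γ x : X.cornerSub Φ) : V) - (lam / (X.e : k)) • (x : V)
  rw [← Module.End.mul_apply, ← map_mul, X.N_i, map_neg, map_smul, div_eq_inv_mul, mul_smul, hmain,
    smul_add, smul_smul, inv_mul_cancel₀ X.he, one_smul]
  abel

end TwistData

end CfsgLib.Block.CyclicDefect
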