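import Cfsg.Agent.Lib.Block.TwoCharacters
import Cfsg.Agent.Lib.Block.Points
import Cfsg.Agent.Lib.Block.Rank
import Cfsg.Agent.Lib.Block.StarLift

/-!
# The values of the characters at idempotents of the residue group algebra

`idemVal χ e` is the value of `χ` at any idempotent lifting `e`.  It is additive and constant on
equivalent idempotents; pairwise inequivalent primitive idempotents below a block union are at
most as many as its regular rank.
-/

open Finset MonoidAlgebra
open scoped ComplexConjugate

set_option autoImplicit false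
set_option linter.unusedSectionVars false

namespace CfsgLib.Block.CyclicDefect

open Cfsg CfsgLib.Block CfsgLib.Block.Points

universe u

variable {p : ℕ} {M : Ideal AlgInt} [M.IsMaximal] {G : Type u} [Group G] [Fintype G] [DecidableEq G]

/-- The value of an irreducible character at a lift of an idempotent. -/
noncomputable def idemVal (χ : IrrCharacter G) (e : MonoidAlgebra (ResField M) G) : ℕ :=
  open Classical in
  if h : ∃ c : MonoidAlgebra (locRing M) G, c * c = c ∧ toK M c = e then
    ⌊(evalGA (χ : G → ℂ) h.choose).re⌋₊ else 0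

variable [Fintype (IrrCharacter G)]

theorem evalGA_congr_toK (hM : IsPModular p M) {c c' : MonoidAlgebra (locRing M) G}
    (hc : c * c = c) (hc' : c' * c' = c') (h : toK M c = toK M c') (χ : IrrCharacter G) :
    evalGA (χ : G → ℂ) c = evalGA (χ : G → ℂ) c' := by
  have h1 : ∀ d : MonoidAlgebra (locRing M) G, Commute (single (1 : G) (1 : locRing M)) d := fun d => by
    rw [← MonoidAlgebra.one_def]; exact Commute.one_left d
  have := sum_idem_mul_pElement_congr hM (x := (1 : G)) ⟨0, by simp⟩ hc hc' (h1 c) (h1 c')
    (fun t _ => by rw [← coeff_toK, ← coeff_toK, h]) χ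
  simpa [evalGA] using this

/-- The value is that at any lift. -/
theorem idemVal_spec (hM : IsPModular p M) {c : MonoidAlgebra (locRing M) G} (hc : c * c = c)
    {e : MonoidAlgebra (ResField M) G} (he : toK M c = e) (χ : IrrCharacter G) :
    evalGA (χ : G → ℂ) c = idemVal χ e := by
  have hex : ∃ c : MonoidAlgebra (locRing M) G, c * c = c ∧ toK M c = e := ⟨c, hc, he⟩
  obtain ⟨n, hn⟩ := exists_evalGA_eq_natCast (G := G) hc χ
  rw [idemVal, dif_pos hex,
    ← evalGA_congr_toK hM hc hex.choose_spec.1 (he.trans hex.choose_spec.2.symm) χ, hn,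
    Complex.natCast_re, Nat.floor_natCast]

theorem exists_lift {e : MonoidAlgebra (ResField M) G} (he : e * e = e) :
    ∃ c : MonoidAlgebra (locRing M) G, c * c = c ∧ toK M c = e := by
  obtain ⟨c, h1, h2, -⟩ := exists_lift_idem_commute he (S := ∅) (fun g hg => hg.elim)
  exact ⟨c, h1, h2⟩

/-- A lift inside the corner of a lift. -/
theorem exists_lift_below {c : MonoidAlgebra (locRing M) G} (hc : c * c = c)
    {s : MonoidAlgebra (ResField M) G} (hs : s * s = s) (h1 : toK M c * s = s) (h2 : s * toK M c = s) :
    ∃ d : MonoidAlgebra (locRing M) G, d * d = d ∧ toK M d = s ∧ c * d = d ∧ d * c = d := by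
  obtain ⟨d₀, -, hd₀⟩ := exists_lift hs
  set a := c * d₀ * c with ha
  have hca : c * a = a := by rw [ha, ← mul_assoc, ← mul_assoc, hc]
  have hac : a * c = a := by rw [ha, mul_assoc, hc]
  have haK : toK M a = s := by rw [ha, map_mul, map_mul, hd₀, h1, h2]
  obtain ⟨q, hq, hq'⟩ := exists_lift_idem a (by rw [haK, hs])
  have hcomm : Commute c (Polynomial.aeval a q) := by
    clear hq hq'
    induction q using Polynomial.induction_on' with
    | add q r ihq ihr => rw [map_add]; exact ihq.add_right ihr
    | monomial n r =>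
      rw [Polynomial.aeval_monomial, ← Algebra.smul_def]
      exact ((show Commute c a from hca.trans hac.symm).pow_right n).smul_right r
  refine ⟨c * Polynomial.aeval a q, ?_, ?_, by rw [← mul_assoc, hc], ?_⟩
  · rw [hcomm.symm.mul_mul_mul_comm, hc, hq]
  · rw [map_mul, hq', haK, h1]
  · rw [mul_assoc, ← hcomm.eq, ← mul_assoc, hc]

/-- Values add on orthogonal idempotents. -/
theorem idemVal_add (hM : IsPModular p M) (χ : IrrCharacter G) {e f : MonoidAlgebra (ResField M) G}
    (he : e * e = e) (hf : f * f = f) (hef : e * f = 0) (hfe : f * e = 0) :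
    idemVal χ (e + f) = idemVal χ e + idemVal χ f := by
  have hs : (e + f) * (e + f) = e + f := by
    rw [mul_add, add_mul, add_mul, he, hf, hef, hfe, add_zero, zero_add]
  obtain ⟨c, hc, hcK⟩ := exists_lift (M := M) hs
  obtain ⟨d, hd, hdK, hcd, hdc⟩ := exists_lift_below hc he
    (by rw [hcK, add_mul, he, hfe, add_zero]) (by rw [hcK, mul_add, he, hef, add_zero])
  have hr : (c - d) * (c - d) = c - d := by
    rw [sub_mul, mul_sub, mul_sub, hc, hd, hcd, hdc]; abel
  have h := TwoChar.evalGA_add (M := M) (χ : G → ℂ) d (c - d)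
  rw [add_sub_cancel] at h
  rw [idemVal_spec hM hc hcK, idemVal_spec hM hd hdK, idemVal_spec hM hr (e := f)
    (by rw [map_sub, hcK, hdK, add_sub_cancel_left])] at h
  exact_mod_cast h

/-- Values at equivalent idempotents agree. -/
theorem idemVal_eqPt (hM : IsPModular p M) (χ : IrrCharacter G) {e f : MonoidAlgebra (ResField M) G}
    (h : EqPt e f) : idemVal χ e = idemVal χ f := by
  obtain ⟨a, b, ha1, ha2, hb1, hb2, hab, hba⟩ := h
  have he : e * e = e := by
    conv_lhs => rw [← hab, show a * b * (a * b) = a * (b * a) * b by simp only [mul_assoc], hba, ha2,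
      hab]
  have hf : f * f = f := by
    conv_lhs => rw [← hba, show b * a * (b * a) = b * (a * b) * a by simp only [mul_assoc], hab, hb2,
      hba]
  obtain ⟨c, hc, hcK⟩ := exists_lift (M := M) he
  obtain ⟨d, hd, hdK⟩ := exists_lift (M := M) hf
  choose l hl using fun r : ResField M => res_surjective (M := M) r
  have hsurj : ∀ y : MonoidAlgebra (ResField M) G, ∃ z, toK M z = y := fun y =>
    ⟨gaOfFun fun g => l (y.coeff g), ga_ext fun g => by simp [hl]⟩
  obtain ⟨a₀, haK⟩ := hsurj a
  obtain ⟨b₀, hbK⟩ := hsurj b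
  set A := c * a₀ * d with hA
  set B := d * b₀ * c with hB
  have hAK : toK M A = a := by rw [hA, map_mul, map_mul, hcK, haK, hdK, ha1, ha2]
  have hBK : toK M B = b := by rw [hB, map_mul, map_mul, hdK, hbK, hcK, hb1, hb2]
  obtain ⟨w, hw⟩ := (isUnit_of_toK_eq_one (x := A * B + (1 - c)) (by
    rw [map_add, map_mul, map_sub, map_one, hAK, hBK, hab, hcK, add_sub_cancel])).exists_right_inv
  have hcA : c * A = A := by rw [hA, ← mul_assoc, ← mul_assoc, hc]
  have hAB : A * (B * (w * c)) = c := by
    have h1 := congrArg (fun z => c * z * c) hw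
    simp only [mul_one, hc] at h1
    rw [← mul_assoc c (A * B + (1 - c)) w, mul_add, mul_sub, mul_one, hc, sub_self, add_zero,
      ← mul_assoc, hcA] at h1
    rw [← mul_assoc B, ← mul_assoc A, ← mul_assoc A]
    exact h1
  set B' := B * (w * c) with hB'
  have hBA : B' * A * (B' * A) = B' * A := by
    rw [show B' * A * (B' * A) = B' * (A * B') * A by simp only [mul_assoc], hAB, mul_assoc B' c,
      hcA]
  have hB'K : toK M B' = b := by
    have hwK := congrArg (toK M) hw
    rw [map_mul, map_add, map_mul, map_sub, map_one, hAK, hBK, hab, hcK, add_sub_cancel, one_mul]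
      at hwK
    rw [hB', map_mul, hBK, map_mul, hwK, hcK, one_mul, hb2]
  have h := evalGA_mul_comm (M := M) (Char.isClassFunction_irr χ) A B'
  rw [hAB, idemVal_spec hM hc hcK, idemVal_spec hM hBA (e := f) (by rw [map_mul, hB'K, hAK, hba])]
    at h
  exact_mod_cast h

theorem idemVal_zero (hM : IsPModular p M) (χ : IrrCharacter G) :
    idemVal χ (0 : MonoidAlgebra (ResField M) G) = 0 := by
  have h := idemVal_spec hM (c := (0 : MonoidAlgebra (locRing M) G)) (mul_zero 0)
    (map_zero (toK M)) χ
  simp [evalGA] at h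
  exact_mod_cast h.symm

theorem idemVal_sum (hM : IsPModular p M) (χ : IrrCharacter G) {ι : Type*} [DecidableEq ι]
    (t : Finset ι) (s : ι → MonoidAlgebra (ResField M) G) (hs : ∀ r ∈ t, s r * s r = s r)
    (horth : ∀ r ∈ t, ∀ r' ∈ t, r ≠ r' → s r * s r' = 0) :
    idemVal χ (∑ r ∈ t, s r) = ∑ r ∈ t, idemVal χ (s r) := by
  have h := (sum_additive (fun e => (idemVal χ e : ℤ))
    (fun e f he hf hef hfe => by simp [idemVal_add hM χ he hf hef hfe]) t s hs horth).1
  exact_mod_cast h

/-- Characters with the same regular values have the same values at idempotents. -/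
theorem idemVal_congr_regular (hM : IsPModular p M) {χ ψ : IrrCharacter G}
    (h : ∀ g : G, ¬ p ∣ orderOf g → (χ : G → ℂ) g = (ψ : G → ℂ) g)
    {e : MonoidAlgebra (ResField M) G} (he : e * e = e) : idemVal χ e = idemVal ψ e := by
  obtain ⟨c, hc, hcK⟩ := exists_lift (M := M) he
  have hd := evalGA_eq_zero_of_regular hM hc (f := fun g => (χ : G → ℂ) g - (ψ : G → ℂ) g)
    (fun a b => by simp [Char.isClassFunction_irr χ a b, Char.isClassFunction_irr ψ a b])
    (fun g hg => by simp [h g hg])
  simp only [evalGA, mul_sub, Finset.sum_sub_distrib] at hd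
  have h1 := idemVal_spec hM hc hcK χ
  have h2 := idemVal_spec hM hc hcK ψ
  simp only [evalGA] at h1 h2
  rw [h1, h2, sub_eq_zero] at hd
  exact_mod_cast hd

/-- Values below a block union vanish outside it. -/
theorem idemVal_eq_zero_of_not_mem (hM : IsPModular p M) {S : Set (IrrCharacter G)}
    (hS : IsBlockUnion M S) {e : MonoidAlgebra (ResField M) G} (he : e * e = e)
    (heS : e * toK M (blockIdem M S : MonoidAlgebra (locRing M) G) = e) {χ : IrrCharacter G}
    (hχ : χ ∉ S) : idemVal χ e = 0 := by
  classical
  obtain ⟨c, hc, hcK⟩ := exists_lift (M := M) he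
  set d := (blockIdem M S : MonoidAlgebra (locRing M) G) with hd
  have hdc : Commute c d :=
    ((mem_center_iff_isClassElt.mp (blockIdem M S).2).commute c).symm
  have hcd : c * d * (c * d) = c * d := by
    rw [hdc.symm.mul_mul_mul_comm, hc,
      show d * d = d from congrArg Subtype.val (blockIdem_mul_self hM hS)]
  have h := idemVal_spec hM hcd (e := e) (by rw [map_mul, hcK, heS]) χ
  rw [hd, TwoChar.evalGA_mul_blockIdem hM hS, if_neg hχ] at h
  exact_mod_cast h.symm

/-- The value at the idempotent of a block union is the degree. -/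
theorem idemVal_blockIdem (hM : IsPModular p M) {S : Set (IrrCharacter G)}
    (hS : IsBlockUnion M S) {χ : IrrCharacter G} (hχ : χ ∈ S) :
    (idemVal χ (toK M (blockIdem M S : MonoidAlgebra (locRing M) G)) : ℂ) = (χ : G → ℂ) 1 := by
  classical
  rw [← idemVal_spec hM (congrArg Subtype.val (blockIdem_mul_self hM hS)) rfl χ,
    ← one_mul (blockIdem M S : MonoidAlgebra (locRing M) G), TwoChar.evalGA_mul_blockIdem hM hS,
    if_pos hχ, evalGA, Finset.sum_eq_single (1 : G)]
  · simp [MonoidAlgebra.one_def]
  · intro b _ hb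
    simp [MonoidAlgebra.one_def, Finsupp.single_eq_of_ne hb]
  · simp

/-- Pairwise inequivalent primitive idempotents below a block union are at most the regular rank. -/
theorem card_points_le_blockRank (hM : IsPModular p M) {S : Set (IrrCharacter G)}
    (hS : IsBlockUnion M S) {ι : Type} [Fintype ι] (j : ι → MonoidAlgebra (ResField M) G)
    (hj : ∀ i, IsPt (j i))
    (hjS : ∀ i, j i * toK M (blockIdem M S : MonoidAlgebra (locRing M) G) = j i)
    (hne : ∀ i i', i ≠ i' → ¬ EqPt (j i) (j i')) : Fintype.card ι ≤ blockRank p S := by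
  classical
  haveI : IsAlgClosed (ResField M) := isAlgClosed_resField
  choose τ hcl hreg hone hzero using fun i =>
    TwoChar.exists_functional hM (show IsIdempotentElem (j i) from (hj i).idem) (hj i).ne
      (fun a ha h1 h2 => (hj i).prim a ha h1 h2)
  choose a ha using fun i => TwoChar.exists_combination hM (τ i) (hcl i) (hreg i)
  choose c hc hcK using fun i => exists_lift (M := M) (hj i).idem
  let n : ι → IrrCharacter G → ℕ := fun i χ => idemVal χ (j i)
  have hn : ∀ i (χ : IrrCharacter G), evalGA (χ : G → ℂ) (c i) = n i χ := fun i χ => idemVal_spec hM (hc i) (hcK i) χ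
  have horth : ∀ i i', i ≠ i' → ∑ t, (j i').coeff t * τ i t = 0 := by
    intro i i' hii
    refine hzero i _ fun x y _ => ?_
    have hv : val (ResField M) (hj i) (x * j i' * y) = 0 := by
      by_contra hv
      exact hne i i' hii (eqPt_of_val_ne_zero (hj i) (hj i') hv)
    obtain ⟨m, hm⟩ := val_nil (k := ResField M) (hj i) (x * j i' * y)
    rw [hv, zero_smul, sub_zero] at hm
    refine ⟨m + 1, Subtype.ext ?_⟩
    have hpow : ∀ k : ℕ, ((LocalAlg.cornerProj (ResField M) (show IsIdempotentElem (j i) from (hj i).idem)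
        (x * j i' * y)) ^ (k + 1)).1 = (j i * (x * j i' * y) * j i) ^ (k + 1) := by
      intro k
      induction k with
      | zero => rw [zero_add, pow_one, pow_one]; rfl
      | succ k ih =>
        rw [pow_succ, pow_succ (j i * (x * j i' * y) * j i), ← ih]
        rfl
    rw [hpow, pow_succ, hm, zero_mul]
    rfl
  let T : Matrix ι ι (locRing M) := Matrix.of fun i i' => ∑ ψ, a i ψ * (n i' ψ : locRing M)
  have hTres : T.map (res M) = 1 := by
    refine Matrix.ext fun i i' => ?_
    simp only [Matrix.map_apply, T, Matrix.of_apply, map_sum, map_mul, map_natCast]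
    rw [← ha i (c i') (n i') (hc i') (hn i'), hcK, Matrix.one_apply]
    split_ifs with h
    · subst h; exact hone i
    · exact horth i i' h
  have hdet : (T.map (locRing M).subtype).det ≠ 0 := by
    rw [← RingHom.mapMatrix_apply, ← RingHom.map_det]
    intro h
    have h0 : T.det = 0 := Subtype.ext h
    have := RingHom.map_det (res M) T
    rw [h0, map_zero, RingHom.mapMatrix_apply, hTres, Matrix.det_one] at this
    exact zero_ne_one this
  let L : (G → ℂ) →ₗ[ℂ] (ι → ℂ) := LinearMap.pi fun i =>
    ∑ t, ((c i).coeff t : ℂ) • LinearMap.proj t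
  have hL : ∀ ψ : IrrCharacter G, L (pRegularPart p (ψ : G → ℂ)) = fun i => (n i ψ : ℂ) := by
    intro ψ
    funext i
    have hz := evalGA_eq_zero_of_regular hM (hc i)
      (f := fun g => pRegularPart p (ψ : G → ℂ) g - (ψ : G → ℂ) g)
      (fun x y => by
        rw [pRegularPart_eq_regFun]
        simp only [isClassFunction_regFun p (Char.isClassFunction_irr ψ) x y,
          Char.isClassFunction_irr ψ x y])
      (fun g hg => by simp [pRegularPart, IsPRegular, hg])
    rw [← hn i ψ, evalGA]
    simp only [evalGA, mul_sub, Finset.sum_sub_distrib, sub_eq_zero] at hz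
    simpa [L] using hz
  set V := Submodule.span ℂ
    ((fun χ : IrrCharacter G => pRegularPart p (χ : G → ℂ)) '' S) with hV
  suffices htop : Submodule.map L V = ⊤ by
    have := Submodule.finrank_map_le L V
    rw [htop, finrank_top, Module.finrank_fintype_fun_eq_card] at this
    exact this
  have hrow : ∀ i, (fun i' => (T.map (locRing M).subtype) i i') ∈ Submodule.map L V := by
    intro i
    have : (fun i' => (T.map (locRing M).subtype) i i') = ∑ ψ, (a i ψ : ℂ) • fun i' => (n i' ψ : ℂ) := by
      funext i'
      simp [T, Finset.sum_apply]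
    rw [this]
    refine Submodule.sum_mem _ fun ψ _ => Submodule.smul_mem _ _ ?_
    by_cases hψ : ψ ∈ S
    · exact ⟨_, Submodule.subset_span ⟨ψ, hψ, rfl⟩, hL ψ⟩
    · rw [show (fun i' => (n i' ψ : ℂ)) = 0 from funext fun i' => by
        simp [n, idemVal_eq_zero_of_not_mem hM hS (hj i').idem (hjS i') hψ]]
      exact Submodule.zero_mem _
  refine eq_top_iff.mpr ?_
  rw [← (Matrix.linearIndependent_rows_of_det_ne_zero hdet).span_eq_top_of_card_eq_finrank'
    (by rw [Module.finrank_fintype_fun_eq_card]), Submodule.span_le]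
  rintro _ ⟨i, rfl⟩
  exact hrow i

end CfsgLib.Block.CyclicDefect
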