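import Cfsg.Agent.Lib.Block.CyclicDefect.Twist
import Cfsg.Agent.Lib.Block.Correspondence

/-!
# At least the inertial index many simple modules

The twisted model sees the block, so the block has at least `e` inequivalent primitive idempotents,
hence regular rank at least `e`.
-/

open Finset MonoidAlgebra
open scoped ComplexConjugate

set_option autoImplicit false
set_option linter.unusedSectionVars false

namespace CfsgLib.Block.CyclicDefect

open Cfsg CfsgLib.Block CfsgLib.Block.Points
open scoped Pair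

universe u

variable {p : ℕ} {M : Ideal AlgInt} [M.IsMaximal] {G : Type u} [Group G] [Fintype G] [DecidableEq G]
  [Fintype (IrrCharacter G)]

namespace Frame

variable (F : Frame p M G) [Fintype (IrrCharacter (CQ F.Q))]

/-- The part of the block at `Q` contains the local block. -/
theorem trC_mul_eG :
    trC F.Q (blockBar M F.B : MonoidAlgebra (ResField M) G) * eG M F.f = eG M F.f := by
  classical
  haveI : Fact p.Prime := ⟨F.prime⟩
  have := Fintype.ofFinite (ConjClasses (CQ F.Q))
  set eB : MonoidAlgebra (ResField M) G := (blockBar M F.B : MonoidAlgebra (ResField M) G) with heB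
  set w := resHK M (CQ F.Q) (blockBar M F.B) with hw
  have hemb : (emb (w : MonoidAlgebra (ResField M) (CQ F.Q)) : MonoidAlgebra (ResField M) G) =
      trC F.Q eB := ga_ext fun g => by
    by_cases hg : g ∈ CQ F.Q
    · rw [show g = ((⟨g, hg⟩ : CQ F.Q) : G) from rfl, coeff_emb_coe, coeff_trC _ (SetLike.coe_mem _)]
      exact coeff_resHK _ _
    · rw [suppIn_emb _ g hg, suppIn_trC _ g hg]
  have hee : eB * eB = eB :=
    congrArg Subtype.val (blockBar_mul_self F.hM (IsBlockUnion.of_isPBlock F.hB))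
  have hww : w * w = w := by
    refine Subtype.ext (incl_injective (CQ F.Q) ?_)
    rw [MulMemClass.coe_mul, map_mul, incl_eq_emb, hemb,
      ← trC_mul F.hM (F.isPGroup.to_le F.Q_le) (cinv_of_central _ _) (cinv_of_central _ _), hee]
  have hf := blockBar_mul_self F.hM (IsBlockUnion.of_isPBlock F.block_f)
  have hwf : w * blockBar M F.f = blockBar M F.f := by
    refine eq_of_omegaBar_eq_of_idem F.hM ?_ hf fun ξ => ?_
    · rw [mul_mul_mul_comm, hww, hf]
    · rw [map_mul, omegaBar_blockBar F.hM (.of_isPBlock F.block_f)]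
      by_cases hξ : ξ ∈ F.f
      · obtain ⟨χ, hχ⟩ := isPBlock_nonempty F.hB
        rw [if_pos hξ, mul_one, hw, (isInducedBlock_iff.mp F.induced_f).2.2 ξ hξ χ hχ,
          omegaBar_blockBar F.hM (.of_isPBlock F.hB), if_pos hχ]
      · rw [if_neg hξ, mul_zero]
  rw [← hemb, eG, ← emb_mul, ← MulMemClass.coe_mul, hwf]

/-- `Q` fixes the top of the corner. -/
theorem single_mul_top {x : CQ F.Q} (hx : (x : G) ∈ F.Q) :
    single x (1 : ResField M) * (F.eig ^ (Nat.card F.P - 1) * F.pt) =
      F.eig ^ (Nat.card F.P - 1) * F.pt := by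
  classical
  haveI : Fact p.Prime := ⟨F.prime⟩
  have := charP_resField F.hM
  set L := Nat.card F.P with hL
  set top := F.eig ^ (L - 1) * F.pt with htop
  have hcx : ∀ y, Commute (single x (1 : ResField M)) y := fun y => by
    refine (isClassElt_iff _).mpr (fun u => ?_) |>.commute y
    show _ * _ = _ * _
    rw [MonoidAlgebra.single_mul_single, MonoidAlgebra.single_mul_single]
    congr 1
    exact Subtype.ext (Subgroup.mem_centralizer_iff.mp u.2 _ hx).symm
  obtain ⟨c, hc⟩ := F.corner_eig (single x 1)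
  have hpp : F.pt * F.pt = F.pt := F.isPt_pt.idem
  have hxp : F.pt * single x (1 : ResField M) * F.pt = single x 1 * F.pt := by
    rw [← (hcx F.pt).eq, mul_assoc, hpp]
  rw [hxp] at hc
  have hz : ∀ j, 0 < j → top * (F.eig ^ j * F.pt) = 0 := by
    intro j hj
    rw [htop, ← mul_assoc, mul_assoc (F.eig ^ (L - 1)) F.pt, ← ((F.commute_eig F.pt).pow_left j).eq,
      ← mul_assoc, ← pow_add, mul_assoc, hpp, show L - 1 + j = (j - 1) + L by
        have : 0 < L := hL ▸ Nat.card_pos
        omega, pow_add, mul_assoc, hL, F.eig_pow_card_mul_pt, mul_zero]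
  have htopx : single x (1 : ResField M) * top = c 0 • top := by
    rw [(hcx top).eq]
    calc top * single x (1 : ResField M) = top * (single x 1 * F.pt) := by
          rw [htop, mul_assoc, mul_assoc, ← mul_assoc F.pt (single x 1), hxp]
          exact congrArg (F.eig ^ (L - 1) * ·) (hcx F.pt).eq.symm
      _ = c 0 • top := by
          rw [hc, Finset.mul_sum, Finset.sum_eq_single 0]
          · rw [pow_zero, one_mul, mul_smul_comm, htop, mul_assoc, hpp]
          · intro j _ hj
            rw [mul_smul_comm, hz j (Nat.pos_of_ne_zero hj), smul_zero]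
          · exact fun h => absurd (Finset.mem_range.mpr (hL ▸ Nat.card_pos)) h
  have hpow : ∀ n : ℕ, single x (1 : ResField M) ^ n * top = c 0 ^ n • top := by
    intro n
    induction n with
    | zero => simp
    | succ n ih => rw [pow_succ', mul_assoc, ih, mul_smul_comm, htopx, smul_smul, pow_succ]
  have hxp' : x ^ p = 1 := Subtype.ext (by
    rw [SubmonoidClass.coe_pow, OneMemClass.coe_one]
    have h := congrArg Subtype.val (pow_card_eq_one' (x := (⟨(x : G), hx⟩ : F.Q)))
    rwa [F.Q_card] at h)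
  have h := hpow p
  rw [MonoidAlgebra.single_pow, hxp', one_pow, ← MonoidAlgebra.one_def, one_mul] at h
  have hne : top ≠ 0 := F.eig_top
  have hcp : c 0 ^ p = 1 :=
    smul_left_injective (ResField M) hne (h.symm.trans (one_smul _ top).symm)
  rw [htopx, frobenius_inj (ResField M) p (show frobenius (ResField M) p (c 0) =
    frobenius (ResField M) p 1 by rw [frobenius_def, frobenius_def, hcp, one_pow]), one_smul]

theorem e_le_blockRank : F.e ≤ blockRank p F.B := by
  classical
  haveI : Fact p.Prime := ⟨F.prime⟩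
  have := charP_resField F.hM
  haveI : IsAlgClosed (ResField M) := isAlgClosed_resField
  obtain ⟨X, hC, hD, hT, he, hL, hf, hi, hN⟩ := F.exists_twistData
  set eB : MonoidAlgebra (ResField M) G := (blockBar M F.B : MonoidAlgebra (ResField M) G) with heB
  have hc : ∀ y, Commute eB y :=
    (mem_center_iff_isClassElt.mp (blockBar M F.B).2).commute
  have hee : eB * eB = eB :=
    congrArg Subtype.val (blockBar_mul_self F.hM (IsBlockUnion.of_isPBlock F.hB))
  set top0 := F.eig ^ (Nat.card F.P - 1) * F.pt with htop0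
  have htopG : X.N ^ (X.L - 1) * X.i = incl (CQ F.Q) top0 := by
    have hNpow : ∀ j, X.N ^ j * X.i = incl (CQ F.Q) (F.eig ^ j * F.pt) := by
      intro j
      rw [hN, hi, ← map_pow, ← map_mul]
      congr 1
      induction j with
      | zero => simp
      | succ j ih =>
        rw [pow_succ', mul_assoc, ih, mul_assoc, ← mul_assoc F.pt, ← ((F.commute_eig F.pt).pow_left j).eq,
          mul_assoc (F.eig ^ j), F.isPt_pt.idem, ← mul_assoc, ← pow_succ']
    rw [hL, hNpow, htop0]
  have hffix : eG M F.f * incl (CQ F.Q) top0 = incl (CQ F.Q) top0 := by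
    rw [show eG M F.f = incl (CQ F.Q) F.fK by rw [incl_eq_emb]; rfl, ← map_mul, htop0, ← mul_assoc,
      show F.fK * F.eig ^ (Nat.card F.P - 1) = F.eig ^ (Nat.card F.P - 1) * F.fK from
        (commute_eK (f := F.f) _).eq, mul_assoc, F.fK_pt]
  -- the rest of the part over the stabilizer is killed
  set rest := cut F.T' eB - trC F.Q eB with hrest
  have hrestC : ∀ g ∈ CQ F.Q, rest.coeff g = 0 := fun g hg => by
    rw [hrest, MonoidAlgebra.coeff_sub, Finsupp.sub_apply, coeff_cut,
      if_pos (show g ∈ F.T' from Subgroup.mem_sup_right hg), coeff_trC _ hg, sub_self]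
  have hrest' : ∀ g, g ∉ CQ F.Q → rest.coeff g = (cut F.T' eB).coeff g := fun g hg => by
    rw [hrest, MonoidAlgebra.coeff_sub, Finsupp.sub_apply, suppIn_trC _ g hg, sub_zero]
  -- invariance under right translation by `Q`
  have hinv : ∀ q ∈ F.Q, rest * single q 1 = rest := by
    intro q hq
    refine ga_ext fun g => ?_
    rw [coeff_mul_single', mul_one]
    by_cases hgT : g ∈ F.T'
    swap
    · have h1 : g * q⁻¹ ∉ F.T' := fun h => hgT (by
        have := F.T'.mul_mem h (Subgroup.mem_sup_right (F.Q_le_cq hq) : q ∈ F.T')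
        simpa using this)
      have hnC : ∀ y, y ∉ F.T' → y ∉ CQ F.Q := fun y hy h => hy (Subgroup.mem_sup_right h)
      rw [hrest' _ (hnC _ h1), hrest' _ (hnC _ hgT), coeff_cut, coeff_cut, if_neg h1, if_neg hgT]
    by_cases hgC : g ∈ CQ F.Q
    · rw [hrestC _ ((CQ F.Q).mul_mem hgC ((CQ F.Q).inv_mem (F.Q_le_cq hq))), hrestC _ hgC]
    have h1 : g * q⁻¹ ∉ CQ F.Q := fun h => hgC (by
      have := (CQ F.Q).mul_mem h (F.Q_le_cq hq)
      simpa using this)
    rw [hrest' _ h1, hrest' _ hgC, coeff_cut, coeff_cut, if_pos hgT,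
      if_pos (F.T'.mul_mem hgT (F.T'.inv_mem (Subgroup.mem_sup_right (F.Q_le_cq hq))))]
    -- `q` acts without fixed points
    have hgN := (F.T'_stab hgT).1
    let θ : F.Q → F.Q := fun v => ⟨(v : G) * (g * (v : G)⁻¹ * g⁻¹),
      F.Q.mul_mem v.2 ((Subgroup.mem_normalizer_iff.mp hgN _).mp (F.Q.inv_mem v.2))⟩
    have hcomm : ∀ u v : F.Q, Commute (u : G) (v : G) := fun u v =>
      F.P_comm (F.Q_le u.2) (F.Q_le v.2)
    have hθ : Function.Injective θ := by
      intro u v huv
      have huv' : (u : G) * (g * (u : G)⁻¹ * g⁻¹) = (v : G) * (g * (v : G)⁻¹ * g⁻¹) :=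
        congrArg Subtype.val huv
      by_contra hne
      have hw : (⟨(v : G)⁻¹ * u, F.Q.mul_mem (F.Q.inv_mem v.2) u.2⟩ : F.Q) ≠ 1 := fun h => hne (by
        have := congrArg Subtype.val h
        exact Subtype.ext (inv_mul_eq_one.mp this).symm)
      have hfix : Commute ((v : G)⁻¹ * u) g := by
        have e : (v : G)⁻¹ * u = g * ((v : G)⁻¹ * u) * g⁻¹ := by
          have h2 : (v : G)⁻¹ * u = g * (v : G)⁻¹ * g⁻¹ * (g * (u : G)⁻¹ * g⁻¹)⁻¹ := by
            rw [eq_mul_inv_iff_mul_eq, mul_assoc, huv', inv_mul_cancel_left]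
          refine h2.trans ?_
          group
        show (v : G)⁻¹ * u * g = g * ((v : G)⁻¹ * u)
        exact (eq_mul_inv_iff_mul_eq.mp e)
      have htop : Subgroup.zpowers (⟨(v : G)⁻¹ * u, F.Q.mul_mem (F.Q.inv_mem v.2) u.2⟩ : F.Q) = ⊤ :=
        zpowers_eq_top_of_prime_card F.Q_card hw
      refine hgC (Subgroup.mem_centralizer_iff.mpr fun z hz => ?_)
      obtain ⟨i, hi'⟩ := Subgroup.mem_zpowers_iff.mp
        (htop ▸ Subgroup.mem_top (⟨z, hz⟩ : F.Q) : (⟨z, hz⟩ : F.Q) ∈ _)
      have hz' : ((v : G)⁻¹ * u) ^ i = z := congrArg Subtype.val hi'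
      rw [← hz']
      exact (hfix.zpow_left i).eq
    obtain ⟨v, hv⟩ := Finite.surjective_of_injective hθ ⟨g * q⁻¹ * g⁻¹,
      (Subgroup.mem_normalizer_iff.mp hgN _).mp (F.Q.inv_mem hq)⟩
    have hv' : (v : G) * (g * (v : G)⁻¹ * g⁻¹) = g * q⁻¹ * g⁻¹ := congrArg Subtype.val hv
    rw [show g * q⁻¹ = (v : G) * g * (v : G)⁻¹ by
      calc g * q⁻¹ = g * q⁻¹ * g⁻¹ * g := by group
        _ = _ := by rw [← hv']; group]
    exact mem_center_iff_isClassElt.mp (blockBar M F.B).2 g v
  have hrest0 : rest * incl (CQ F.Q) top0 = 0 := by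
    have hfix : ∀ q ∈ F.Q, single q (1 : ResField M) * incl (CQ F.Q) top0 = incl (CQ F.Q) top0 := by
      intro q hq
      rw [← incl_single (CQ F.Q) ⟨q, F.Q_le_cq hq⟩, ← map_mul,
        F.single_mul_top (x := ⟨q, F.Q_le_cq hq⟩) hq]
    refine ga_ext fun g => ?_
    rw [coeff_mul_sum]
    show ∑ x, rest.coeff x * (incl (CQ F.Q) top0).coeff (x⁻¹ * g) = 0
    letI : MulAction F.Q G :=
      { smul := fun v x => x * (v : G)⁻¹
        one_smul := fun x => show x * ((1 : F.Q) : G)⁻¹ = x by simp
        mul_smul := fun v w x => show x * ((v * w : F.Q) : G)⁻¹ = x * (w : G)⁻¹ * (v : G)⁻¹ by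
          simp [mul_assoc] }
    have hsum := sum_eq_sum_fixedPoints (R := ResField M) (p := p) (P := F.Q)
      (IsPGroup.to_le F.isPGroup F.Q_le)
      (fun x : G => rest.coeff x * (incl (CQ F.Q) top0).coeff (x⁻¹ * g)) fun v x => by
        show rest.coeff (x * (v : G)⁻¹) * (incl (CQ F.Q) top0).coeff ((x * (v : G)⁻¹)⁻¹ * g) = _
        have h1 := congrArg (fun z : MonoidAlgebra (ResField M) G => z.coeff x) (hinv v v.2)
        simp only [coeff_mul_single', mul_one] at h1
        have h2 := congrArg (fun z : MonoidAlgebra (ResField M) G => z.coeff (x⁻¹ * g))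
          (hfix (v : G)⁻¹ (F.Q.inv_mem v.2))
        simp only [coeff_single_mul', one_mul, inv_inv] at h2
        rw [h1, mul_inv_rev, inv_inv, mul_assoc, h2]
    rw [hsum, Finset.filter_eq_empty_iff.mpr fun x _ hx => F.Q_ne ?_, Finset.sum_empty]
    refine eq_bot_iff.mpr fun z hz => ?_
    have h : x * z⁻¹ = x := hx ⟨z, hz⟩
    simpa using h
  have hproj : cut X.T eB * (X.N ^ (X.L - 1) * X.i) = X.N ^ (X.L - 1) * X.i := by
    rw [htopG, hT, show cut F.T' eB = trC F.Q eB + rest by rw [hrest]; abel, add_mul, hrest0, add_zero]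
    conv_lhs => rw [← hffix, ← mul_assoc, F.trC_mul_eG, hffix]
  obtain ⟨j, hj, hjB, hne⟩ := X.exists_points (hL ▸ lt_of_lt_of_le F.prime.one_lt
    (Nat.le_of_dvd Nat.card_pos F.p_dvd_card)) hc hee hproj
  have h := card_points_le_blockRank F.hM (.of_isPBlock F.hB) j hj (fun l => hjB l) hne
  rwa [Fintype.card_fin, he] at h

end Frame

end CfsgLib.Block.CyclicDefect
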