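import Cfsg.Agent.Lib.Block.CyclicDefect.Match

/-!
# The isometry between two blocks with cyclic defect groups of one order and one inertial index

`Frame.exists_isometry`: the orbits of the labels agree, as the units of order dividing `e` are
the powers of one of them.
-/

open Finset
open scoped ComplexConjugate

set_option autoImplicit false
set_option linter.unusedSectionVars false

namespace CfsgLib.Block.CyclicDefect

open Cfsg CfsgLib.Block

universe u v

variable {p : ℕ} {M : Ideal AlgInt} [M.IsMaximal]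

namespace Frame

section

variable {G : Type u} [Group G] [Fintype G] [DecidableEq G] [Fintype (IrrCharacter G)]
  (F : Frame p M G) [Fintype (IrrCharacter (CQ F.Q))]

/-- The reduction of the labels modulo `p`. -/
noncomputable def red : ZMod (Nat.card F.P) →+* ZMod p := ZMod.castHom F.p_dvd_card (ZMod p)

theorem isUnit_of_red_ne {x : ZMod (Nat.card F.P)} (hx : F.red x ≠ 0) : IsUnit x := by
  haveI : Fact p.Prime := ⟨F.prime⟩
  haveI : NeZero (Nat.card F.P) := ⟨Nat.card_pos.ne'⟩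
  obtain ⟨k, hk⟩ := IsPGroup.iff_card.mp F.isPGroup
  have hx' : ¬ p ∣ x.val := fun h => hx (by
    rw [← ZMod.natCast_zmod_val x, map_natCast, (ZMod.natCast_eq_zero_iff _ _).mpr h])
  rw [← ZMod.natCast_zmod_val x, ZMod.isUnit_iff_coprime]
  suffices h : x.val.Coprime (p ^ k) by simpa only [← hk] using h
  exact (F.prime.coprime_iff_not_dvd.mpr hx').symm.pow_right k

/-- The solutions of `x ^ e = 1` among the labels are the powers of `r`. -/
theorem exists_pow_eq_of_pow_e {x : ZMod (Nat.card F.P)} (hx : x ^ F.e = 1) :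
    ∃ l, x = F.r ^ l := by
  classical
  haveI : Fact p.Prime := ⟨F.prime⟩
  haveI : Fact (1 < Nat.card F.P) := ⟨F.one_lt_card⟩
  set rb := F.red F.r with hrb
  have hrbe : rb ^ F.e = 1 := by rw [hrb, ← map_pow, F.r_pow_e, map_one]
  have hne : ∀ l, 0 < l → l < F.e → rb ^ l ≠ 1 := fun l h0 hl h => by
    have h1 := (F.isUnit_r_pow_sub_one h0 hl).map F.red
    rw [map_sub, map_pow, map_one, ← hrb, h, sub_self] at h1
    exact not_isUnit_zero h1
  have hord : orderOf rb = F.e := by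
    refine (Nat.le_of_dvd F.e_pos (orderOf_dvd_of_pow_eq_one hrbe)).lt_or_eq.resolve_left fun h => ?_
    exact hne _ (Nat.pos_of_ne_zero fun h0 => by
      have := (isOfFinOrder_iff_pow_eq_one.mpr ⟨F.e, F.e_pos, hrbe⟩).orderOf_pos
      omega) h (pow_orderOf_eq_one rb)
  have hprim : IsPrimitiveRoot rb F.e := hord ▸ IsPrimitiveRoot.orderOf rb
  haveI : NeZero F.e := ⟨F.e_pos.ne'⟩
  obtain ⟨l, -, hl⟩ := hprim.eq_pow_of_pow_eq_one (show F.red x ^ F.e = 1 by rw [← map_pow, hx, map_one])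
  refine ⟨l, ?_⟩
  set y := x * F.r ^ (l * (F.e - 1)) with hy
  have hrl : F.r ^ (l * (F.e - 1)) * F.r ^ l = 1 := by
    rw [← pow_add, show l * (F.e - 1) + l = F.e * l by
      have := F.e_pos
      rw [← Nat.mul_succ, Nat.succ_eq_add_one, Nat.sub_add_cancel this, mul_comm], pow_mul,
      F.r_pow_e, one_pow]
  have hye : y ^ F.e = 1 := by
    rw [hy, mul_pow, hx, one_mul, ← pow_mul, mul_comm, pow_mul, F.r_pow_e, one_pow]
  have hy1 : F.red y = 1 := by
    rw [hy, map_mul, map_pow, ← hrb, ← hl, hrb, ← map_pow, ← map_pow, ← map_mul, mul_comm, hrl, map_one]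
  have hS : IsUnit (∑ t ∈ Finset.range F.e, y ^ t) := F.isUnit_of_red_ne (by
    rw [map_sum, Finset.sum_congr rfl fun t _ => by rw [map_pow, hy1, one_pow], Finset.sum_const,
      Finset.card_range, nsmul_eq_mul, mul_one, ne_eq, ZMod.natCast_eq_zero_iff]
    exact F.not_dvd_e)
  have hy0 : y = 1 := by
    have h := geom_sum_mul y F.e
    rw [hye, sub_self] at h
    exact sub_eq_zero.mp (hS.mul_right_eq_zero.mp h)
  calc x = x * (F.r ^ (l * (F.e - 1)) * F.r ^ l) := by rw [hrl, mul_one]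
    _ = F.r ^ l := by rw [← mul_assoc, ← hy, hy0, one_mul]

theorem wv_pow_mul (χ : IrrCharacter G) (l : ℕ) (i : ZMod (Nat.card F.P)) :
    F.wv (F.r ^ l * i) χ = F.wv i χ := by
  rw [wv, wv, F.mult_pow_mul]

end

variable {G : Type u} [Group G] [Fintype G] [DecidableEq G] [Fintype (IrrCharacter G)]
variable {H : Type v} [Group H] [Fintype H] [DecidableEq H] [Fintype (IrrCharacter H)]
variable {F : Frame p M G} [Fintype (IrrCharacter (CQ F.Q))]
  {F' : Frame p M H} [Fintype (IrrCharacter (CQ F'.Q))]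

/-- The orbits of the labels match. -/
theorem exists_orb_equiv (hn : Nat.card F'.P = Nat.card F.P) (he : F'.e = F.e) :
    ∃ φ : F'.Orb ≃ F.Orb, ∀ o, ∃ l,
      ZMod.ringEquivCongr hn (F'.rep o) = F.r ^ l * F.rep (φ o) := by
  set κ := ZMod.ringEquivCongr hn with hκ
  have hne : ∀ o, κ (F'.rep o) ≠ 0 := fun o h =>
    F'.rep_ne o (by rw [← κ.symm_apply_apply (F'.rep o), h, map_zero])
  choose φ l hl hφ using fun o => F.exists_rep (hne o)
  obtain ⟨m, hm⟩ := F'.exists_pow_eq_of_pow_e (x := κ.symm F.r)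
    (by rw [← map_pow, he, F.r_pow_e, map_one])
  have hφinj : Function.Injective φ := by
    intro o o' h
    have h1 : κ (F'.rep o) * F.r ^ l o' = F.r ^ l o * κ (F'.rep o') := by
      rw [hφ o, hφ o', h]; ring
    have h2 := congrArg κ.symm h1
    simp only [map_mul, map_pow, RingEquiv.symm_apply_apply, hm] at h2
    rw [mul_comm (F'.rep o), ← pow_mul, ← pow_mul, F'.r_pow_mod (m * l o'),
      F'.r_pow_mod (m * l o)] at h2
    exact (F'.rep_unique (Nat.mod_lt _ F'.e_pos) (Nat.mod_lt _ F'.e_pos) h2).1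
  have hcard : Fintype.card F'.Orb = Fintype.card F.Orb := by
    have h1 := F'.card_orb_mul
    have h2 := F.card_orb_mul
    rw [he] at h1
    exact Nat.eq_of_mul_eq_mul_right F.e_pos (by omega)
  exact ⟨Equiv.ofBijective φ ((Fintype.bijective_iff_injective_and_card φ).mpr ⟨hφinj, hcard⟩),
    fun o => ⟨l o, hφ o⟩⟩

theorem Shape.wv_eq (S : F.Shape) (o : F.Orb) (χ : IrrCharacter G) [Decidable (χ = S.Y o)] :
    F.wv (F.rep o) χ = (S.u χ : ℂ) + (S.δ : ℂ) * if χ = S.Y o then 1 else 0 := by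
  rw [← F.coe_wz, S.wz_eq]
  split_ifs <;> simp_all

/-- With one orbit for each label, `u = -δ`. -/
theorem Shape.u_eq_neg (S : F.Shape) (he : F.e = 1) {χ : IrrCharacter G} (hχ : χ ∈ S.X) :
    S.u χ = -S.δ := by
  classical
  obtain ⟨o⟩ := F.orb_nonempty
  have h := S.relation o (g := (1 : G)) (by rw [orderOf_one]; exact F.prime.not_dvd_one)
  have hX : ∀ ψ, ψ ∈ S.X → ψ = χ := fun ψ hψ => by
    have h1 := S.card_X
    rw [he, Nat.card_eq_one_iff_unique] at h1
    exact congrArg Subtype.val (h1.1.elim ⟨ψ, hψ⟩ ⟨χ, hχ⟩)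
  rw [Finset.sum_eq_single χ (fun ψ _ hne => by
    rw [S.u_out ψ fun hψ => hne (hX ψ hψ), Int.cast_zero, zero_mul])
    (fun h => absurd (Finset.mem_univ _) h), (charDegree_eq _).1, (charDegree_eq χ).1] at h
  have h' : S.δ * (charDegree (S.Y o : G → ℂ) : ℤ) + S.u χ * (charDegree (χ : G → ℂ) : ℤ) = 0 := by
    exact_mod_cast h
  have p1 : (0 : ℤ) < charDegree (S.Y o : G → ℂ) := by
    exact_mod_cast Nat.pos_of_ne_zero (charDegree_eq _).2
  have p2 : (0 : ℤ) < charDegree (χ : G → ℂ) := by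
    exact_mod_cast Nat.pos_of_ne_zero (charDegree_eq χ).2
  rcases S.δ_sq with hd | hd <;> rcases S.u_X χ hχ with hu | hu <;> rw [hd, hu] at h' ⊢ <;> omega

open scoped Classical in
/-- The isometry. -/
theorem exists_isometry (S : F.Shape) (S' : F'.Shape) (hn : Nat.card F'.P = Nat.card F.P)
    (he : F'.e = F.e) :
    ∃ (I : IrrCharacter H → IrrCharacter G) (ε : IrrCharacter H → ℤ),
      IsPerfectIsometry p M F'.B F.B I ε ∧ (∀ o, ε (S'.Y o) = S'.δ * S.δ) ∧
        (F.e = 1 → ∀ η ∈ F'.B, ε η = S'.δ * S.δ) := by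
  obtain ⟨φ, hφ⟩ := exists_orb_equiv hn he
  haveI := F.orb_nonempty
  obtain ⟨eX⟩ : Nonempty (S'.X ≃ S.X) := by
    have h : Nat.card S'.X = Nat.card S.X := by rw [S'.card_X, S.card_X, he]
    rw [Nat.card_eq_fintype_card, Nat.card_eq_fintype_card] at h
    exact Fintype.card_eq.mp h
  let I : IrrCharacter H → IrrCharacter G := fun η =>
    if h : η ∈ S'.X then (eX ⟨η, h⟩).1
    else if h' : ∃ o, η = S'.Y o then S.Y (φ h'.choose) else S.Y (Classical.arbitrary F.Orb)
  let ε : IrrCharacter H → ℤ := fun η =>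
    if η ∈ S'.X then S'.u η * S.u (I η) else S'.δ * S.δ
  have hYX : ∀ o, S'.Y o ∉ S'.X := fun o h => ((S'.X_eq _).mp h).2 o rfl
  have hIX : ∀ {η} (h : η ∈ S'.X), I η = (eX ⟨η, h⟩).1 := fun {η} h => dif_pos h
  have hIY : ∀ o, I (S'.Y o) = S.Y (φ o) := fun o => by
    simp only [I, dif_neg (hYX o)]
    rw [dif_pos ⟨o, rfl⟩]
    congr 2
    exact (S'.Y_inj (Exists.choose_spec (p := fun o' => S'.Y o = S'.Y o') ⟨o, rfl⟩)).symm
  have hcases : ∀ η ∈ F'.B, η ∈ S'.X ∨ ∃ o, η = S'.Y o := fun η hη => by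
    by_cases h : ∃ o, η = S'.Y o
    · exact Or.inr h
    · exact Or.inl ((S'.X_eq η).mpr ⟨hη, fun o ho => h ⟨o, ho⟩⟩)
  have hbij : Set.BijOn I F'.B F.B := by
    refine ⟨fun η hη => ?_, fun η hη η' hη' hee => ?_, fun χ hχ => ?_⟩
    · rcases hcases η hη with h | ⟨o, rfl⟩
      · rw [hIX h]; exact S.X_sub (eX ⟨η, h⟩).2
      · rw [hIY]; exact S.Y_mem _
    · rcases hcases η hη with h | ⟨o, rfl⟩ <;> rcases hcases η' hη' with h' | ⟨o', rfl⟩
      · rw [hIX h, hIX h'] at hee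
        exact congrArg Subtype.val (eX.injective (Subtype.ext hee))
      · rw [hIX h, hIY] at hee
        exact absurd hee (((S.X_eq _).mp (eX ⟨η, h⟩).2).2 _)
      · rw [hIX h', hIY] at hee
        exact absurd hee.symm (((S.X_eq _).mp (eX ⟨η', h'⟩).2).2 _)
      · rw [hIY, hIY] at hee
        rw [φ.injective (S.Y_inj hee)]
    · by_cases h : ∃ o, χ = S.Y o
      · obtain ⟨o, rfl⟩ := h
        exact ⟨S'.Y (φ.symm o), S'.Y_mem _, by rw [hIY, φ.apply_symm_apply]⟩
      · have hX : χ ∈ S.X := (S.X_eq χ).mpr ⟨hχ, fun o ho => h ⟨o, ho⟩⟩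
        refine ⟨(eX.symm ⟨χ, hX⟩).1, S'.X_sub (eX.symm ⟨χ, hX⟩).2, ?_⟩
        rw [hIX (eX.symm ⟨χ, hX⟩).2, Subtype.coe_eta, eX.apply_symm_apply]
  have hsign : ∀ η ∈ F'.B, ε η = 1 ∨ ε η = -1 := fun η _ => by
    simp only [ε]
    split_ifs with h
    · rcases S'.u_X η h with a | a <;>
        rcases S.u_X _ (by rw [hIX h]; exact (eX ⟨η, h⟩).2 : I η ∈ S.X) with b | b <;> simp [a, b]
    · rcases S'.δ_sq with a | a <;> rcases S.δ_sq with b | b <;> simp [a, b]
  refine ⟨I, ε, isPerfectIsometry_of_wv F F' hn I ε hbij hsign fun η hη i => ?_,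
    fun o => if_neg (hYX o), fun h1 η hη => ?_⟩
  · rcases eq_or_ne i 0 with rfl | hi
    · rw [map_zero, wv, wv, sub_self, sub_self, mul_zero]
    obtain ⟨o, t, -, rfl⟩ := F'.exists_rep hi
    obtain ⟨l, hl⟩ := hφ o
    obtain ⟨m, hm⟩ := F.exists_pow_eq_of_pow_e (x := ZMod.ringEquivCongr hn F'.r)
      (by rw [← map_pow, ← he, F'.r_pow_e, map_one])
    rw [map_mul, map_pow, hm, hl, ← pow_mul, wv_pow_mul, wv_pow_mul, wv_pow_mul, S.wv_eq, S'.wv_eq]
    rcases hcases η hη with h | ⟨o', rfl⟩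
    · have hIm : I η ∈ S.X := by rw [hIX h]; exact (eX ⟨η, h⟩).2
      rw [if_neg (((S.X_eq _).mp hIm).2 _), if_neg (((S'.X_eq _).mp h).2 _)]
      simp only [ε, if_pos h]
      push_cast
      linear_combination (S'.u η : ℂ) * S.u_cast_sq hIm
    · rw [hIY, S.u_Y, S'.u_Y]
      simp only [ε, if_neg (hYX o'), S.Y_inj.eq_iff, S'.Y_inj.eq_iff, φ.injective.eq_iff]
      push_cast
      linear_combination ((S'.δ : ℂ) * if o' = o then 1 else 0) * S.δ_cast_sq
  · simp only [ε]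
    split_ifs with h
    · have hIm : I η ∈ S.X := by rw [hIX h]; exact (eX ⟨η, h⟩).2
      rw [S.u_eq_neg h1 hIm, S'.u_eq_neg (he.trans h1) h, neg_mul_neg]
    · rfl

end Frame

end CfsgLib.Block.CyclicDefect
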