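import Cfsg.Agent.Lib.Block.CyclicDefect.Local
import Cfsg.Agent.Lib.Block.NilpotentBijection
import Mathlib.Analysis.Fourier.ZMod
import Mathlib.NumberTheory.LegendreSymbol.AddCharacter

/-!
# The labelled members of the local block

The members of `f` are `η i`, `i` a residue modulo the order of the defect group: twists of one of
them by the characters of the defect group.  They agree on the regular elements, their expansion in
the characters of the residues is integral, and the stabilizer acts on the labels by the exponent.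
-/

open Finset MonoidAlgebra
open scoped ComplexConjugate

set_option autoImplicit false
set_option linter.unusedSectionVars false

namespace CfsgLib.Block.CyclicDefect

open Cfsg CfsgLib.Block
open scoped Pair

universe u

section zchar

variable (n : ℕ) [NeZero n]

/-- The character of the residues. -/
noncomputable def zchar : AddChar (ZMod n) ℂ := ZMod.stdAddChar

theorem zchar_prim : (zchar n).IsPrimitive := ZMod.isPrimitive_stdAddChar n

theorem zchar_sum (b : ZMod n) : ∑ x : ZMod n, zchar n (x * b) = if b = 0 then (n : ℂ) else 0 := by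
  rw [AddChar.sum_mulShift b (zchar_prim n), ZMod.card]
  split_ifs <;> simp

theorem zchar_pow (x : ZMod n) : zchar n x ^ n = 1 := by
  rw [← AddChar.map_nsmul_eq_pow, nsmul_eq_mul, ZMod.natCast_self, zero_mul, AddChar.map_zero_eq_one]

theorem conj_zchar (x : ZMod n) : conj (zchar n x) = zchar n (-x) := by
  have h1 : zchar n x * zchar n (-x) = 1 := by
    rw [← AddChar.map_add_eq_mul, add_neg_cancel, AddChar.map_zero_eq_one]
  rw [← Complex.inv_eq_conj (Complex.norm_eq_one_of_pow_eq_one (zchar_pow n x) (NeZero.ne n))]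
  exact inv_eq_of_mul_eq_one_right h1

theorem isIntegral_zchar (x : ZMod n) : IsIntegral ℤ (zchar n x) :=
  isIntegral_of_pow_eq_one (Nat.pos_of_ne_zero (NeZero.ne n)) (zchar_pow n x)

theorem zchar_injective {x y : ZMod n} (h : zchar n x = zchar n y) : x = y :=
  ZMod.injective_stdAddChar h

end zchar

variable {p : ℕ} {M : Ideal AlgInt} [M.IsMaximal] {G : Type u} [Group G] [Fintype G] [DecidableEq G]
  [Fintype (IrrCharacter G)]

/-- The inner automorphism of `G` on a normalized subgroup. -/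
def conjAut {H : Subgroup G} {t : G} (ht : t ∈ Subgroup.normalizer (H : Set G)) : H ≃* H where
  toFun x := ⟨t * (x : G) * t⁻¹, (Subgroup.mem_normalizer_iff.mp ht _).mp x.2⟩
  invFun x := ⟨t⁻¹ * (x : G) * t⁻¹⁻¹, (Subgroup.mem_normalizer_iff.mp (inv_mem ht) _).mp x.2⟩
  left_inv x := Subtype.ext (by simp [mul_assoc])
  right_inv x := Subtype.ext (by simp [mul_assoc])
  map_mul' a b := Subtype.ext (by simp [mul_assoc])

@[simp] theorem coe_conjAut {H : Subgroup G} {t : G} (ht : t ∈ Subgroup.normalizer (H : Set G))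
    (x : H) : ((conjAut ht x : H) : G) = t * (x : G) * t⁻¹ := rfl

namespace Frame

variable (F : Frame p M G) [Fintype (IrrCharacter (CQ F.Q))]

instance : NeZero (Nat.card F.P) := ⟨Nat.card_pos.ne'⟩

/-- An element of `D` as one of `P`. -/
def toP (y : F.D) : F.P := ⟨((y : CQ F.Q) : G), y.2⟩

/-- The linear character of `D` with label `i`. -/
noncomputable def lam (i : ZMod (Nat.card F.P)) : F.D →* ℂˣ :=
  ({ toFun := fun y : F.D => zchar (Nat.card F.P) (i * F.idx (F.toP y))
     map_one' := by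
      rw [show F.toP 1 = 1 from rfl, F.idx_one, mul_zero, AddChar.map_zero_eq_one]
     map_mul' := fun a b => by
      rw [show F.toP (a * b) = F.toP a * F.toP b from rfl, F.idx_mul, mul_add,
        AddChar.map_add_eq_mul] } : F.D →* ℂ).toHomUnits

theorem coe_lam (i : ZMod (Nat.card F.P)) (y : F.D) :
    (F.lam i y : ℂ) = zchar (Nat.card F.P) (i * F.idx (F.toP y)) := rfl

theorem fusInv (lam : F.D →* ℂˣ) : FusInv F.hM F.max_d.1.1 lam := fun y z h => by
  rw [F.fus_trivial h]

/-- The weights of label `i`. -/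
noncomputable def wt (i : ZMod (Nat.card F.P)) : CQ F.Q → BrauerPairIdx (CQ F.Q) → ℂ :=
  starW F.hM F.max_d.1.1 (F.lam i)

open scoped Classical in
/-- The label of a pair. -/
noncomputable def pairLabel (u : CQ F.Q) (a : BrauerPairIdx (CQ F.Q)) : ZMod (Nat.card F.P) :=
  if h : ∃ s : CQ F.Q × F.D, s.1 * (s.2 : CQ F.Q) * s.1⁻¹ = u ∧
      cjP s.1 (lowPair F.hM F.max_d.1.1 s.2) = a
  then F.idx (F.toP h.choose.2) else 0

theorem wt_eq (i : ZMod (Nat.card F.P)) (u : CQ F.Q) (a : BrauerPairIdx (CQ F.Q)) :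
    F.wt i u a = zchar (Nat.card F.P) (i * F.pairLabel u a) := by
  rw [wt, starW, pairLabel]
  split_ifs with h
  · exact F.coe_lam i _
  · rw [mul_zero, AddChar.map_zero_eq_one]

/-- A member of `f`. -/
noncomputable def base : IrrCharacter (CQ F.Q) := (isPBlock_nonempty F.block_f).choose

theorem base_mem : F.base ∈ F.f := (isPBlock_nonempty F.block_f).choose_spec

/-- The member of `f` with label `i`. -/
noncomputable def η (i : ZMod (Nat.card F.P)) : IrrCharacter (CQ F.Q) :=
  (exists_starIrr F.hM (isWeight_starW F.hM F.max_d (F.fusInv (F.lam i)))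
    (starW_mul_conj F.hM F.max_d.1.1 (F.lam i)) F.base).choose

theorem η_eq (i : ZMod (Nat.card F.P)) :
    (F.η i : CQ F.Q → ℂ) = starFun F.hM (F.wt i) F.base :=
  (exists_starIrr F.hM (isWeight_starW F.hM F.max_d (F.fusInv (F.lam i)))
    (starW_mul_conj F.hM F.max_d.1.1 (F.lam i)) F.base).choose_spec.1

theorem η_mem (i : ZMod (Nat.card F.P)) : F.η i ∈ F.f :=
  (exists_starIrr F.hM (isWeight_starW F.hM F.max_d (F.fusInv (F.lam i)))
    (starW_mul_conj F.hM F.max_d.1.1 (F.lam i)) F.base).choose_spec.2.2 F.f F.block_f F.base_mem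

theorem η_regular (i : ZMod (Nat.card F.P)) {g : CQ F.Q} (hg : ¬ p ∣ orderOf g) :
    (F.η i : CQ F.Q → ℂ) g = (F.η 0 : CQ F.Q → ℂ) g := by
  rw [η_eq, η_eq]
  exact (starFun_regular F.hM (isWeight_starW F.hM F.max_d (F.fusInv (F.lam i))) F.base hg).trans
    (starFun_regular F.hM (isWeight_starW F.hM F.max_d (F.fusInv (F.lam 0))) F.base hg).symm

/-- The generator in `D`. -/
noncomputable def genD : F.D := ⟨⟨(F.gen : G), F.P_le_cq F.gen.2⟩, F.gen.2⟩

theorem idx_genD : F.idx (F.toP F.genD) = 1 := F.idx_gen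

theorem toP_injective : Function.Injective F.toP := fun a b h =>
  Subtype.ext (Subtype.ext (congrArg Subtype.val h : _))

theorem idx_toP_pow (y : F.D) (m : ℕ) :
    F.idx (F.toP (y ^ m)) = (m : ZMod (Nat.card F.P)) * F.idx (F.toP y) := by
  rw [show F.toP (y ^ m) = F.toP y ^ m from Subtype.ext (by simp [toP]), F.idx_pow]

theorem zpowers_eq_D {y : F.D} (hy : IsUnit (F.idx (F.toP y))) :
    Subgroup.zpowers (y : CQ F.Q) = F.D := by
  refine le_antisymm (Subgroup.zpowers_le.mpr y.2) fun x hx => ?_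
  obtain ⟨v, hv⟩ := hy
  refine Subgroup.mem_zpowers_iff.mpr
    ⟨((F.idx (F.toP ⟨x, hx⟩) * ↑v⁻¹ : ZMod (Nat.card F.P)).val : ℤ), ?_⟩
  have h : y ^ (F.idx (F.toP ⟨x, hx⟩) * ↑v⁻¹ : ZMod (Nat.card F.P)).val = (⟨x, hx⟩ : F.D) :=
    F.toP_injective (F.idx_injective (by
      rw [F.idx_toP_pow, ZMod.natCast_zmod_val, ← hv, mul_assoc, Units.inv_mul, mul_one]))
  rw [zpow_natCast]
  exact congrArg Subtype.val h

/-- The coefficients of the pair on a generator of `D`. -/
theorem coeff_lowPair {y : F.D} (hy : IsUnit (F.idx (F.toP y))) (v : CQ F.Q) :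
    subgroupBlockCoeff (CQ (lowPair F.hM F.max_d.1.1 y).1) (lowPair F.hM F.max_d.1.1 y).2 v =
      subgroupBlockCoeff (CQ F.P) F.c (v : G) := by
  have h : lowPair F.hM F.max_d.1.1 y = ⟨F.D, F.d⟩ :=
    below_ext F.hM F.max_d.1.1 (lowPair_below F.hM F.max_d.1.1 y) Relation.ReflTransGen.refl
      ((lowPair_fst F.hM F.max_d.1.1 y).trans (F.zpowers_eq_D hy))
  exact (congrArg (fun a : BrauerPairIdx (CQ F.Q) => subgroupBlockCoeff (CQ a.1) a.2 v) h).trans
    (F.subgroupBlockCoeff_d v)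

theorem secPart_η (i : ZMod (Nat.card F.P)) (y : F.D) {s : CQ F.Q}
    (hs : s ∈ regC p (y : CQ F.Q)) :
    secPart (F.η i) (y : CQ F.Q) (lowPair F.hM F.max_d.1.1 y) s =
      zchar (Nat.card F.P) (i * F.idx (F.toP y)) *
        secPart F.base (y : CQ F.Q) (lowPair F.hM F.max_d.1.1 y) s := by
  have hw : F.wt i (y : CQ F.Q) (lowPair F.hM F.max_d.1.1 y) =
      zchar (Nat.card F.P) (i * F.idx (F.toP y)) :=
    (starW_eq F.hM F.max_d.1.1 (F.fusInv _) (x := 1) (y := y) (by group)
      (cjP_one F.hM (isPBlock_lowPair F.hM F.max_d.1.1 y))).trans (F.coe_lam i y)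
  rw [secPart_starFun F.hM (F.η_eq i) (exists_pElement_orderOf F.max_d.1.1 y F.prime)
    (mem_pairsAt.mpr ⟨lowPair_fst F.hM F.max_d.1.1 y, isPBlock_lowPair F.hM F.max_d.1.1 y⟩) hs, hw]

theorem genD_central (y : F.D) : y ∈ Subgroup.center F.D :=
  Subgroup.mem_center_iff.mpr fun u => F.comm_D u y

theorem η_injective : Function.Injective F.η := fun i k h => by
  classical
  obtain ⟨s, hs, hne⟩ := exists_secPart_ne_zero_of_center F.hM F.max_d F.base_mem
    (F.genD_central F.genD)
  have h1 := F.secPart_η i F.genD hs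
  rw [h, F.secPart_η k F.genD hs, idx_genD, mul_one, mul_one] at h1
  exact zchar_injective _ (mul_right_cancel₀ hne h1).symm

theorem card_f : Nat.card F.f = Nat.card F.P := by
  classical
  obtain ⟨Φ, -⟩ := exists_height_bijection F.hM F.max_d F.nilpotent_f
  letI : CommGroup F.D := F.cyc_D.commGroup
  rw [Nat.card_congr Φ, Char.card_irr_eq_card_conjClasses,
    ← Nat.card_congr (Equiv.ofBijective _ (ConjClasses.mk_bijective (α := F.D))),
    show Nat.card F.D = Nat.card (F.P.subgroupOf (CQ F.Q)) from rfl,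
    Nat.card_congr (Subgroup.subgroupOfEquivOfLe F.P_le_cq).toEquiv]

theorem range_η : Set.range F.η = F.f := by
  classical
  refine Set.eq_of_subset_of_ncard_le (Set.range_subset_iff.mpr F.η_mem) ?_ (Set.toFinite _)
  rw [← Nat.card_coe_set_eq, ← Nat.card_coe_set_eq, F.card_f,
    Nat.card_congr (Equiv.ofInjective _ F.η_injective).symm, Nat.card_zmod]

theorem exists_label {θ : IrrCharacter (CQ F.Q)} (hθ : θ ∈ F.f) : ∃ i, F.η i = θ := by
  rwa [← F.range_η] at hθ

/-! ### The expansion in the characters of the residues -/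

/-- The coefficient at `j` of the values `η · x`. -/
noncomputable def sec (x : CQ F.Q) (j : ZMod (Nat.card F.P)) : ℂ :=
  (Nat.card F.P : ℂ)⁻¹ *
    ∑ i : ZMod (Nat.card F.P), zchar (Nat.card F.P) (-(i * j)) * (F.η i : CQ F.Q → ℂ) x

theorem η_expand (i : ZMod (Nat.card F.P)) (x : CQ F.Q) :
    (F.η i : CQ F.Q → ℂ) x = ∑ j, zchar (Nat.card F.P) (i * j) * F.sec x j := by
  have hn : (Nat.card F.P : ℂ) ≠ 0 := Nat.cast_ne_zero.mpr Nat.card_pos.ne'
  have hkey : ∀ l : ZMod (Nat.card F.P),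
      ∑ j, zchar (Nat.card F.P) (i * j) * zchar (Nat.card F.P) (-(l * j)) =
        if l = i then (Nat.card F.P : ℂ) else 0 := fun l => by
    rw [Finset.sum_congr rfl (g := fun j => zchar (Nat.card F.P) (j * (i - l))) fun j _ => by
      rw [← AddChar.map_add_eq_mul]; congr 1; ring, zchar_sum]
    simp only [sub_eq_zero, eq_comm (a := i)]
  simp only [sec, Finset.mul_sum]
  rw [Finset.sum_comm, Finset.sum_congr rfl (g := fun l : ZMod (Nat.card F.P) =>
    (Nat.card F.P : ℂ)⁻¹ * (F.η l : CQ F.Q → ℂ) x *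
      ∑ j, zchar (Nat.card F.P) (i * j) * zchar (Nat.card F.P) (-(l * j))) fun l _ => by
    rw [Finset.mul_sum]; exact Finset.sum_congr rfl fun j _ => by ring]
  simp only [hkey, mul_ite, mul_zero, Finset.sum_ite_eq', Finset.mem_univ, if_true]
  field_simp

open scoped Classical in
/-- The coefficients are the sums of the parts with the label. -/
theorem exists_sec_eq (x : CQ F.Q) (j : ZMod (Nat.card F.P)) : ∃ s ∈ regC p (pPt F.hM x),
    F.sec x j = ∑ a ∈ pairsAt M (pPt F.hM x),
      if F.pairLabel (pPt F.hM x) a = j then secPart F.base (pPt F.hM x) a s else 0 := by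
  classical
  obtain ⟨s, hs, hx⟩ := exists_regC F.hM x
  set u := pPt F.hM x with hu
  have hn : (Nat.card F.P : ℂ) ≠ 0 := Nat.cast_ne_zero.mpr Nat.card_pos.ne'
  have hval : ∀ i, (F.η i : CQ F.Q → ℂ) x = ∑ a ∈ pairsAt M u,
      zchar (Nat.card F.P) (i * F.pairLabel u a) * secPart F.base u a s := fun i => by
    rw [η_eq, ← hx, starFun_apply F.hM _ F.base (pPow_pPt F.hM x) hs]
    exact Finset.sum_congr rfl fun a _ => by rw [wt_eq]
  have h : F.sec x j = ∑ a ∈ pairsAt M u, if F.pairLabel u a = j then secPart F.base u a s else 0 := by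
    simp only [sec, hval, Finset.mul_sum]
    rw [Finset.sum_comm]
    refine Finset.sum_congr rfl fun a _ => ?_
    rw [Finset.sum_congr rfl (g := fun i : ZMod (Nat.card F.P) => (Nat.card F.P : ℂ)⁻¹ *
      secPart F.base u a s * zchar (Nat.card F.P) (i * (F.pairLabel u a - j))) fun i _ => by
        rw [mul_sub, sub_eq_add_neg, AddChar.map_add_eq_mul]; ring,
      ← Finset.mul_sum, zchar_sum]
    simp only [sub_eq_zero]
    split_ifs with h
    · field_simp
    · rw [mul_zero]
  exact ⟨s, hs, h⟩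

theorem sec_mem (x : CQ F.Q) (j : ZMod (Nat.card F.P)) : F.sec x j ∈ locRing M := by
  classical
  obtain ⟨s, -, h⟩ := F.exists_sec_eq x j
  rw [h]
  refine sum_mem fun a ha => ?_
  split_ifs
  swap
  · exact zero_mem _
  exact sum_mem fun t _ => mul_mem (subgroupBlockCoeff_mem F.hM (mem_pairsAt.mp ha).2 _)
    (integral_mem M (Char.isCharacter_isIntegral (Char.isCharacter_irr F.base) _))

/-- A label other than zero occurs only on the sections of the non-trivial elements of `D`. -/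
theorem exists_of_sec_ne_zero {x : CQ F.Q} {j : ZMod (Nat.card F.P)} (hj : j ≠ 0)
    (h : F.sec x j ≠ 0) :
    ∃ (y : F.D) (c : CQ F.Q), y ≠ 1 ∧ c * (y : CQ F.Q) * c⁻¹ = pPt F.hM x := by
  classical
  obtain ⟨s, -, hs⟩ := F.exists_sec_eq x j
  rw [hs] at h
  obtain ⟨a, -, ha⟩ := Finset.exists_ne_zero_of_sum_ne_zero h
  split_ifs at ha with hl
  swap
  · exact absurd rfl ha
  rw [pairLabel] at hl
  split_ifs at hl with hd
  swap
  · exact absurd hl.symm hj
  refine ⟨hd.choose.2, hd.choose.1, fun h1 => hj ?_, hd.choose_spec.1⟩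
  rw [← hl, h1, show F.toP 1 = 1 from rfl, F.idx_one]

/-! ### The action of the stabilizer -/

theorem t_normalizes : F.t ∈ Subgroup.normalizer (CQ F.Q : Set G) :=
  Subgroup.mem_normalizer_iff.mpr fun x => F.T_normalizes_cq F.t_mem F.Q_le x

/-- Conjugation by the generator of the stabilizer. -/
noncomputable def σ : CQ F.Q ≃* CQ F.Q := conjAut F.t_normalizes

theorem r_unit : IsUnit F.r :=
  IsUnit.of_pow_eq_one F.r_pow_e F.e_pos.ne'

theorem coeff_c_invariant (v : G) :
    subgroupBlockCoeff (CQ F.P) F.c (F.t * v * F.t⁻¹) = subgroupBlockCoeff (CQ F.P) F.c v := by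
  have hn := ((F.mem_T F.t).mp F.t_mem).1
  have h := cjP_eq_of_stabilizes F.hM hn F.isPBlock_c ((F.mem_T F.t).mp F.t_mem).2
  have h2 := congrArg
    (fun a : BrauerPairIdx G => subgroupBlockCoeff (CQ a.1) a.2 (F.t * v * F.t⁻¹)) h
  refine (Eq.symm h2).trans ?_
  show subgroupBlockCoeff (CQ (cjS F.t F.P)) (conjBlock F.P F.t F.c) (F.t * v * F.t⁻¹) = _
  rw [subgroupBlockCoeff_conjBlock]
  congr 1
  group

/-- The image of a generator under the twist. -/
noncomputable def genT : F.D :=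
  ⟨F.σ (F.genD : CQ F.Q), (F.conjP F.t F.t_mem F.gen).2⟩

theorem idx_genT : F.idx (F.toP F.genT) = F.r := by
  rw [show F.toP F.genT = F.conjP F.t F.t_mem F.gen from Subtype.ext rfl, F.idx_conjP, F.idx_gen,
    mul_one]

/-- The sections at a generator along the twist. -/
theorem secPart_twist {χ θ : IrrCharacter (CQ F.Q)}
    (h : ∀ x, (θ : CQ F.Q → ℂ) x = (χ : CQ F.Q → ℂ) (F.σ x)) (s : CQ F.Q) :
    secPart θ (F.genD : CQ F.Q) (lowPair F.hM F.max_d.1.1 F.genD) s =
      secPart χ (F.genT : CQ F.Q) (lowPair F.hM F.max_d.1.1 F.genT) (F.σ s) := by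
  refine Fintype.sum_equiv F.σ.toEquiv _ _ fun v => ?_
  rw [F.coeff_lowPair (by rw [idx_genD]; exact isUnit_one), MulEquiv.toEquiv_eq_coe,
    MulEquiv.coe_toEquiv, F.coeff_lowPair (by rw [idx_genT]; exact F.r_unit), h, map_mul, map_mul]
  congr 1
  exact (F.coeff_c_invariant _).symm

theorem sigma_regC {s : CQ F.Q} (hs : s ∈ regC p (F.genD : CQ F.Q)) :
    F.σ s ∈ regC p (F.genT : CQ F.Q) := by
  obtain ⟨h1, h2⟩ := mem_regC.mp hs
  refine mem_regC.mpr ⟨mem_cq_zpowers_iff.mpr ((mem_cq_zpowers_iff.mp h1).map F.σ.toMonoidHom), ?_⟩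
  rwa [MulEquiv.orderOf_eq]

/-- A twisted member lies in `f`. -/
theorem twist_mem (i : ZMod (Nat.card F.P)) : irrEquiv F.σ.symm (F.η i) ∈ F.f := by
  classical
  have hN : F.t ∈ Subgroup.normalizer (F.Q : Set G) := F.T_normalizes F.Q_le F.t_mem
  have hst : StabilizesBlock (CQ F.Q) F.f F.t⁻¹ :=
    (stabilizesBlock_iff F.hM (inv_mem hN) F.block_f).mpr
      (F.T'_stab (inv_mem (show F.t ∈ F.T' from Subgroup.mem_sup_left F.t_mem))).2
  obtain ⟨χ', hχ', hc⟩ := hst.2 (F.η i) (F.η_mem i)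
  suffices irrEquiv F.σ.symm (F.η i) = χ' by rwa [this]
  refine Subtype.ext (funext fun x => ?_)
  rw [irrEquiv_apply, MulEquiv.symm_symm]
  refine (hc (F.σ x) x ?_).symm
  show (x : G) = F.t⁻¹ * ((F.σ x : CQ F.Q) : G) * F.t⁻¹⁻¹
  rw [show ((F.σ x : CQ F.Q) : G) = F.t * (x : G) * F.t⁻¹ from rfl]
  group

/-- The stabilizer acts on the labels by the exponent, up to a translation. -/
theorem exists_twist : ∃ μ : ZMod (Nat.card F.P), ∀ i x,
    (F.η i : CQ F.Q → ℂ) (F.σ x) = (F.η (F.r * i + μ) : CQ F.Q → ℂ) x := by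
  classical
  obtain ⟨μ, hμ⟩ := F.exists_label (F.twist_mem 0)
  refine ⟨μ, fun i x => ?_⟩
  obtain ⟨k, hk⟩ := F.exists_label (F.twist_mem i)
  have hσ : ∀ l j, F.η j = irrEquiv F.σ.symm (F.η l) → ∀ x,
      (F.η j : CQ F.Q → ℂ) x = (F.η l : CQ F.Q → ℂ) (F.σ x) := fun l j h x => by
    rw [h, irrEquiv_apply, MulEquiv.symm_symm]
  suffices k = F.r * i + μ by rw [← this, hσ i k hk]
  obtain ⟨s, hs, hne⟩ := exists_secPart_ne_zero_of_center F.hM F.max_d F.base_mem
    (F.genD_central F.genD)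
  have hs' := F.sigma_regC hs
  have hi := F.secPart_twist (hσ i k hk) s
  have h0 := F.secPart_twist (hσ 0 μ hμ) s
  rw [F.secPart_η k F.genD hs, F.secPart_η i F.genT hs', idx_genD, idx_genT, mul_one] at hi
  rw [F.secPart_η μ F.genD hs, F.secPart_η 0 F.genT hs', idx_genD, idx_genT, mul_one, zero_mul,
    AddChar.map_zero_eq_one, one_mul] at h0
  rw [← h0, ← mul_assoc, ← AddChar.map_add_eq_mul, mul_comm i F.r] at hi
  exact zchar_injective _ (mul_right_cancel₀ hne hi)

theorem exists_centre : ∃ i₀ : ZMod (Nat.card F.P), ∀ i x,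
    (F.η (i + i₀) : CQ F.Q → ℂ) (F.σ x) = (F.η (F.r * i + i₀) : CQ F.Q → ℂ) x := by
  classical
  obtain ⟨μ, hμ⟩ := F.exists_twist
  suffices h : ∃ i₀, F.r * i₀ + μ = i₀ by
    obtain ⟨i₀, hi₀⟩ := h
    exact ⟨i₀, fun i x => by rw [hμ, mul_add, add_assoc, hi₀]⟩
  obtain he | he := Nat.lt_or_ge 1 F.e
  · obtain ⟨v, hv⟩ := F.isUnit_r_pow_sub_one one_pos he
    rw [pow_one] at hv
    refine ⟨-(↑v⁻¹ * μ), ?_⟩
    have h : F.r = (v : ZMod (Nat.card F.P)) + 1 := by rw [hv]; ring
    rw [h]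
    linear_combination (-μ) * v.mul_inv
  · refine ⟨0, ?_⟩
    obtain ⟨l, hl, hlC⟩ := F.cosets F.t_mem
    obtain rfl : l = 0 := by omega
    rw [pow_zero, inv_one, one_mul] at hlC
    have hfix : F.η (F.r * 0 + μ) = F.η 0 := Subtype.ext (funext fun x => by
      rw [← hμ]
      have h := Char.isClassFunction_irr (F.η 0) x ⟨F.t, cq_mono F.Q_le hlC⟩
      refine (congrArg (F.η 0 : CQ F.Q → ℂ) (Subtype.ext ?_ : F.σ x = _)).trans h
      rfl)
    exact F.η_injective hfix

/-- The label fixed by the stabilizer. -/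
noncomputable def centre : ZMod (Nat.card F.P) := F.exists_centre.choose

/-- The members of `f`, labelled around the fixed one. -/
noncomputable def ηc (i : ZMod (Nat.card F.P)) : IrrCharacter (CQ F.Q) := F.η (i + F.centre)

theorem ηc_injective : Function.Injective F.ηc := fun _ _ h => add_right_cancel (F.η_injective h)

theorem range_ηc : Set.range F.ηc = F.f := by
  rw [← F.range_η]
  exact (Equiv.addRight F.centre).surjective.range_comp F.η

theorem ηc_mem (i : ZMod (Nat.card F.P)) : F.ηc i ∈ F.f := F.η_mem _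

theorem exists_ηc {θ : IrrCharacter (CQ F.Q)} (hθ : θ ∈ F.f) : ∃ i, F.ηc i = θ := by
  rwa [← F.range_ηc] at hθ

theorem ηc_regular (i j : ZMod (Nat.card F.P)) {g : CQ F.Q} (hg : ¬ p ∣ orderOf g) :
    (F.ηc i : CQ F.Q → ℂ) g = (F.ηc j : CQ F.Q → ℂ) g :=
  (F.η_regular _ hg).trans (F.η_regular _ hg).symm

theorem ηc_sigma (i : ZMod (Nat.card F.P)) (x : CQ F.Q) :
    (F.ηc i : CQ F.Q → ℂ) (F.σ x) = (F.ηc (F.r * i) : CQ F.Q → ℂ) x :=
  F.exists_centre.choose_spec i x

/-- The stabilizer of `(Q, f)` multiplies the labels. -/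
theorem ηc_conj (l : ℕ) {g : G} (hg : (F.t ^ l)⁻¹ * g ∈ CQ F.Q) (i : ZMod (Nat.card F.P))
    (x y : CQ F.Q) (hy : (y : G) = g * (x : G) * g⁻¹) :
    (F.ηc i : CQ F.Q → ℂ) y = (F.ηc (F.r ^ l * i) : CQ F.Q → ℂ) x := by
  induction l generalizing g i y with
  | zero =>
    rw [pow_zero, inv_one, one_mul] at hg
    have h := Char.isClassFunction_irr (F.ηc i) x ⟨g, hg⟩
    rw [pow_zero, one_mul]
    exact (congrArg (F.ηc i : CQ F.Q → ℂ) (Subtype.ext hy : y = _)).trans h
  | succ l ih =>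
    have hy' : F.σ (F.σ.symm y) = y := F.σ.apply_symm_apply y
    rw [← hy', F.ηc_sigma, pow_succ, mul_assoc]
    refine ih (g := F.t⁻¹ * g) ?_ (F.r * i) _ ?_
    · rwa [← mul_assoc, ← mul_inv_rev, ← pow_succ']
    · have h := congrArg (fun z : CQ F.Q => (z : G)) hy'
      rw [hy, show ((F.σ (F.σ.symm y) : CQ F.Q) : G) = F.t * ((F.σ.symm y : CQ F.Q) : G) * F.t⁻¹
        from rfl, mul_inv_eq_iff_eq_mul] at h
      rw [eq_inv_mul_of_mul_eq h]
      group

/-! ### Degree -/

theorem deg_val :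
    (charDegree (F.η 0 : CQ F.Q → ℂ)).factorization p + (Nat.card F.P).factorization p =
      (Nat.card (CQ F.Q)).factorization p := by
  classical
  obtain ⟨χ, hχ, h0⟩ := exists_height_zero F.hM F.block_f
  obtain ⟨k, rfl⟩ := F.exists_label hχ
  have hdeg : charDegree (F.η k : CQ F.Q → ℂ) = charDegree (F.η 0 : CQ F.Q → ℂ) := by
    simp only [charDegree, F.η_regular k (g := 1) (by rw [orderOf_one]; exact F.prime.not_dvd_one)]
  have hmin := Nat.sInf_le (s := (fun χ : IrrCharacter (CQ F.Q) =>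
    (charDegree (χ : CQ F.Q → ℂ)).factorization p) '' F.f) ⟨_, hχ, rfl⟩
  simp only [blockHeight, Nat.sub_eq_zero_iff_le] at h0
  dsimp only at hmin
  have hcard := exists_defect_pow_card F.hM F.max_d
  rw [show Nat.card F.D = Nat.card F.P from
    Nat.card_congr (Subgroup.subgroupOfEquivOfLe F.P_le_cq).toEquiv] at hcard
  rw [show (Nat.card F.P).factorization p = blockDefect p F.f by
      rw [congrArg Nat.factorization hcard, Nat.Prime.factorization_pow F.prime, Finsupp.single_eq_same],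
    blockDefect]
  have hle : (charDegree (F.η k : CQ F.Q → ℂ)).factorization p ≤
      (Nat.card (CQ F.Q)).factorization p := by
    have hd : charDegree (F.η k : CQ F.Q → ℂ) ∣ Nat.card (CQ F.Q) :=
      Char.degree_dvd_card (F.η k) (charDegree_eq (F.η k)).1
    exact (Nat.factorization_le_iff_dvd (charDegree_eq (F.η k)).2 Nat.card_pos.ne').mpr hd p
  rw [← hdeg]
  omega

end Frame

end CfsgLib.Block.CyclicDefect
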