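import Cfsg.Agent.Lib.Block.CyclicDefect.Setup
import Cfsg.Agent.Lib.Block.NilpotentLocal
import Cfsg.Agent.Lib.Block.StarChar

/-!
# The local block of a frame, inside its group

The defect group of `f` in `C(Q)`, the pair on it coming from `c`, and the triviality of its fusion.
-/

open Finset MonoidAlgebra
open scoped ComplexConjugate

set_option autoImplicit false
set_option linter.unusedSectionVars false

namespace CfsgLib.Block.CyclicDefect

open Cfsg CfsgLib.Block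
open scoped Pair

universe u

variable {p : ℕ} {M : Ideal AlgInt} [M.IsMaximal] {G : Type u} [Group G] [Fintype G] [DecidableEq G]
  [Fintype (IrrCharacter G)]

namespace Frame

variable (F : Frame p M G) [Fintype (IrrCharacter (CQ F.Q))]

/-- The defect group inside `C(Q)`. -/
def D : Subgroup (CQ F.Q) := F.P.subgroupOf (CQ F.Q)

theorem mem_D {x : CQ F.Q} : x ∈ F.D ↔ (x : G) ∈ F.P := Iff.rfl

theorem mem_cq_D {x : CQ F.Q} : x ∈ CQ F.D ↔ (x : G) ∈ CQ F.P := by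
  constructor
  · intro hx
    exact Subgroup.mem_centralizer_iff.mpr fun u hu =>
      congrArg Subtype.val (Subgroup.mem_centralizer_iff.mp hx ⟨u, F.P_le_cq hu⟩ hu)
  · intro hx
    exact Subgroup.mem_centralizer_iff.mpr fun u hu =>
      Subtype.ext (Subgroup.mem_centralizer_iff.mp hx _ hu)

/-- The centralizer of `D` in `C(Q)` is that of `P`. -/
def cqD : CQ F.D ≃* CQ F.P where
  toFun c := ⟨((c : CQ F.Q) : G), F.mem_cq_D.mp c.2⟩
  invFun c := ⟨⟨(c : G), cq_mono F.Q_le c.2⟩, F.mem_cq_D.mpr c.2⟩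
  left_inv c := Subtype.ext (Subtype.ext rfl)
  right_inv c := Subtype.ext rfl
  map_mul' a b := Subtype.ext rfl

/-- The block `c` seen in `C(Q)`. -/
noncomputable def d : Set (IrrCharacter (CQ F.D)) := irrEquiv F.cqD.symm '' F.c

theorem subgroupBlockCoeff_d (v : CQ F.Q) :
    subgroupBlockCoeff (CQ F.D) F.d v = subgroupBlockCoeff (CQ F.P) F.c (v : G) := by
  by_cases h : v ∈ CQ F.D
  · rw [show v = ((⟨v, h⟩ : CQ F.D) : CQ F.Q) from rfl, subgroupBlockCoeff_coe,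
      show (⟨v, h⟩ : CQ F.D) = F.cqD.symm (F.cqD ⟨v, h⟩) from (F.cqD.symm_apply_apply _).symm, d,
      blockCoeff_image_irrEquiv, ← subgroupBlockCoeff_coe F.c]
    rfl
  · rw [subgroupBlockCoeff_of_notMem _ h,
      subgroupBlockCoeff_of_notMem _ fun h' => h (F.mem_cq_D.mpr h')]

theorem isPBlock_c : IsPBlock M F.c := F.hmax.1.1.2

theorem isPBlock_d : IsPBlock M F.d := isPBlock_image_irrEquiv _ F.isPBlock_c

theorem pair_d : IsBrauerPairOf p M F.f F.D F.d := by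
  classical
  refine ⟨⟨F.isPGroup.of_equiv (Subgroup.subgroupOfEquivOfLe F.P_le_cq).symm, F.isPBlock_d⟩,
    F.block_f, ?_⟩
  rintro _ ⟨ξ, hξ, rfl⟩
  have h := (brauerOmega_sub_iff F.hM F.Q_le F.block_f ξ).mpr (F.sub.one ξ hξ)
  convert h using 2
  rw [brauerOmega, brauerOmega]
  refine finsum_eq_of_bijective F.cqD F.cqD.bijective fun x => ?_
  have hx : ((F.cqD x : CQ F.P) : G) ∈ CQ F.Q := cq_mono F.Q_le (F.cqD x).2
  rw [show subgroupBlockCoeff (CQ F.Q) F.f ((F.cqD x : CQ F.P) : G) = blockCoeff F.f ⟨_, hx⟩ from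
    subgroupBlockCoeff_coe F.f ⟨_, hx⟩]
  simp only [irrEquiv_apply, map_one, MulEquiv.symm_symm]
  rfl

theorem max_d : IsMaximalBrauerPair p M F.f F.D F.d :=
  isMaximal_of_defect F.hM F.isDefectGroup_f F.pair_d

theorem cyc_D : IsCyclic F.D :=
  have := F.cyc
  isCyclic_of_surjective _ (Subgroup.subgroupOfEquivOfLe F.P_le_cq).symm.surjective

theorem D_ne : F.D ≠ ⊥ := fun h => F.ne (by
  rw [D, Subgroup.subgroupOf_eq_bot] at h
  exact eq_bot_iff.mpr fun v hv => h.le_bot ⟨hv, F.P_le_cq hv⟩)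

theorem comm_D (u v : F.D) : u * v = v * u := F.cyc_D.commGroup.mul_comm u v

/-- The inertial group of the local block is the centralizer of its defect group. -/
theorem stab_D {g : CQ F.Q} (hg : g ∈ Subgroup.normalizer (F.D : Set (CQ F.Q)))
    (hs : cj g (eG M F.d) = eG M F.d) : g ∈ CQ F.D := by
  classical
  let QH : Subgroup (CQ F.Q) := F.Q.subgroupOf (CQ F.Q)
  have hQD : QH ≤ F.D := fun x hx => F.Q_le hx
  have hQ1 : QH ≠ ⊥ := fun h => F.Q_ne (by
    rw [Subgroup.subgroupOf_eq_bot] at h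
    exact eq_bot_iff.mpr fun v hv => h.le_bot ⟨hv, F.Q_le_cq hv⟩)
  let TH : Subgroup (CQ F.Q) :=
    { carrier := {g | g ∈ Subgroup.normalizer (F.D : Set (CQ F.Q)) ∧ cj g (eG M F.d) = eG M F.d}
      mul_mem' := fun {a b} ha hb => ⟨mul_mem ha.1 hb.1, by rw [← cj_cj, hb.2, ha.2]⟩
      one_mem' := ⟨one_mem _, cj_one _⟩
      inv_mem' := fun {a} ha => ⟨inv_mem ha.1, by
        conv_lhs => rw [← ha.2, cj_cj, inv_mul_cancel, cj_one]⟩ }
  have hTH : ∀ x, x ∈ TH ↔ x ∈ Subgroup.normalizer (F.D : Set (CQ F.Q)) ∧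
      StabilizesBlock (CQ F.D) F.d x := fun x =>
    ⟨fun h => ⟨h.1, (stabilizesBlock_iff F.hM h.1 F.isPBlock_d).mpr h.2⟩,
      fun h => ⟨h.1, (stabilizesBlock_iff F.hM h.1 F.isPBlock_d).mp h.2⟩⟩
  have htop : CQ QH = ⊤ := by
    rw [eq_top_iff]
    exact fun x _ => Subgroup.mem_centralizer_iff.mpr fun q hq =>
      Subtype.ext (Subgroup.mem_centralizer_iff.mp x.2 _ hq)
  have h := inf_centralizer_below F.hM F.max_d F.cyc_D hQD hQ1 hTH
  rw [htop, inf_top_eq] at h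
  exact h ▸ (show g ∈ TH from ⟨hg, hs⟩)

theorem lowPair_below_sub {y : F.D} :
    ∃ fy : Set (IrrCharacter (CQ (Subgroup.zpowers (y : CQ F.Q)))),
      lowPair F.hM F.max_d.1.1 y = ⟨_, fy⟩ ∧
        NSub p M (Subgroup.zpowers (y : CQ F.Q)) fy F.D F.d := by
  classical
  have hS : Subgroup.zpowers (y : CQ F.Q) ≤ F.D := Subgroup.zpowers_le.mpr y.2
  have hN : F.D ≤ Subgroup.normalizer (Subgroup.zpowers (y : CQ F.Q) : Set (CQ F.Q)) := by
    refine le_trans (fun x hx => ?_) (centralizer_le_normalizer' _)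
    exact Subgroup.mem_centralizer_iff.mpr fun w hw =>
      congrArg Subtype.val (F.comm_D ⟨w, hS hw⟩ ⟨x, hx⟩)
  obtain ⟨fy, hfy⟩ := exists_nSub F.hM hS hN F.max_d.1.1
  exact ⟨fy, below_ext F.hM F.max_d.1.1 (lowPair_below F.hM F.max_d.1.1 y)
    (SubpairLE.step F.hM hfy) rfl, hfy⟩

/-- There is no fusion in the local block. -/
theorem fus_trivial {y z : F.D} (h : z ∈ fusClass F.hM F.max_d.1.1 y) : z = y := by
  classical
  obtain ⟨g, hg, hgl⟩ := (mem_fusClass F.hM F.max_d.1.1).mp h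
  refine Subtype.ext ?_
  rw [← hg]
  obtain ⟨fy, hfy, hsub⟩ := F.lowPair_below_sub (y := y)
  have hcard : Subgroup.zpowers (z : CQ F.Q) = Subgroup.zpowers (y : CQ F.Q) := by
    have hord : orderOf (z : CQ F.Q) = orderOf (y : CQ F.Q) := by rw [← hg, orderOf_conj_eq]
    exact le_antisymm
      (le_of_card_dvd_of_cyclic F.cyc_D (Subgroup.zpowers_le.mpr z.2) (Subgroup.zpowers_le.mpr y.2)
        (by rw [Nat.card_zpowers, Nat.card_zpowers, hord]))
      (le_of_card_dvd_of_cyclic F.cyc_D (Subgroup.zpowers_le.mpr y.2) (Subgroup.zpowers_le.mpr z.2)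
        (by rw [Nat.card_zpowers, Nat.card_zpowers, hord]))
  have hzy : lowPair F.hM F.max_d.1.1 z = lowPair F.hM F.max_d.1.1 y :=
    below_ext F.hM F.max_d.1.1 (lowPair_below F.hM F.max_d.1.1 z)
      (lowPair_below F.hM F.max_d.1.1 y) hcard
  rw [hzy, hfy] at hgl
  obtain ⟨hn, hst⟩ := stabilizesBlock_of_cjP_eq F.hM hsub.pairL.2 hgl
  let TH : Subgroup (CQ F.Q) :=
    { carrier := {g | g ∈ Subgroup.normalizer (F.D : Set (CQ F.Q)) ∧ cj g (eG M F.d) = eG M F.d}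
      mul_mem' := fun {a b} ha hb => ⟨mul_mem ha.1 hb.1, by rw [← cj_cj, hb.2, ha.2]⟩
      one_mem' := ⟨one_mem _, cj_one _⟩
      inv_mem' := fun {a} ha => ⟨inv_mem ha.1, by
        conv_lhs => rw [← ha.2, cj_cj, inv_mul_cancel, cj_one]⟩ }
  have hTH : ∀ x, x ∈ TH ↔ x ∈ Subgroup.normalizer (F.D : Set (CQ F.Q)) ∧
      StabilizesBlock (CQ F.D) F.d x := fun x =>
    ⟨fun h => ⟨h.1, (stabilizesBlock_iff F.hM h.1 F.isPBlock_d).mpr h.2⟩,
      fun h => ⟨h.1, (stabilizesBlock_iff F.hM h.1 F.isPBlock_d).mp h.2⟩⟩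
  have hDC : F.D ≤ CQ (Subgroup.zpowers (y : CQ F.Q)) := fun x hx =>
    Subgroup.mem_centralizer_iff.mpr fun w hw =>
      congrArg Subtype.val (F.comm_D ⟨w, Subgroup.zpowers_le.mpr y.2 hw⟩ ⟨x, hx⟩)
  have hmem := stabilizer_below_le F.hM F.max_d hDC hsub hTH hn hst
  have hle : TH ⊔ CQ (Subgroup.zpowers (y : CQ F.Q)) ≤ CQ (Subgroup.zpowers (y : CQ F.Q)) :=
    sup_le (fun x hx => cq_mono (Subgroup.zpowers_le.mpr y.2) (F.stab_D hx.1 hx.2)) le_rfl
  have hc : Commute g (y : CQ F.Q) := mem_cq_zpowers_iff.mp (hle hmem)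
  rw [hc.eq, mul_inv_cancel_right]

end Frame

end CfsgLib.Block.CyclicDefect
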