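import Cfsg.Agent.Lib.Block.CyclicDefect.Labels
import Cfsg.Agent.Lib.Block.CyclicDefect.RankOne

/-!
# The corner of the local block

The central elements of the block attached to the labels have integral coefficients, and the corner
of the group algebra at a primitive idempotent of the block is a truncated polynomial ring in one of
them.
-/

open Finset MonoidAlgebra
open scoped ComplexConjugate

set_option autoImplicit false
set_option linter.unusedSectionVars false

namespace CfsgLib.Block.CyclicDefect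

open Cfsg CfsgLib.Block CfsgLib.Block.Points
open scoped Pair

universe u

section general

variable {p : ℕ} {M : Ideal AlgInt} [M.IsMaximal] {G : Type u} [Group G] [Fintype G] [DecidableEq G]
  [Fintype (IrrCharacter G)]

/-- The values of the irreducible characters at all right translates determine an element. -/
theorem ga_ext_evalGA {a b : MonoidAlgebra (locRing M) G}
    (h : ∀ (ψ : IrrCharacter G) (g : G),
      evalGA (ψ : G → ℂ) (a * single g 1) = evalGA (ψ : G → ℂ) (b * single g 1)) : a = b := by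
  classical
  have hrec : ∀ (c : MonoidAlgebra (locRing M) G) (g : G),
      ∑ ψ : IrrCharacter G, (ψ : G → ℂ) 1 * evalGA (ψ : G → ℂ) (c * single g⁻¹ 1) =
        (Nat.card G : ℂ) * (c.coeff g : ℂ) := by
    intro c g
    simp only [evalGA, Finset.mul_sum]
    rw [Finset.sum_comm, Finset.sum_congr rfl (g := fun t : G => (c.coeff (t * g) : ℂ) *
      ∑ ψ : IrrCharacter G, (ψ : G → ℂ) t * conj ((ψ : G → ℂ) 1)) fun t _ => by
      rw [Finset.mul_sum]
      refine Finset.sum_congr rfl fun ψ _ => ?_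
      rw [coeff_mul_single', inv_inv, mul_one,
        show conj ((ψ : G → ℂ) 1) = (ψ : G → ℂ) 1 by
          rw [(charDegree_eq ψ).1, map_natCast]]
      ring]
    simp only [Char.sum_irr_mul_conj, mul_ite, mul_zero]
    rw [Finset.sum_eq_single (1 : G)]
    · rw [if_pos (IsConj.refl 1), one_mul, mul_comm]
      congr 2
      rw [show Subgroup.centralizer ({1} : Set G) = ⊤ from eq_top_iff.mpr fun x _ =>
        Subgroup.mem_centralizer_singleton_iff.mpr (by simp), Subgroup.card_top]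
    · intro t _ ht
      rw [if_neg fun hc => ht (isConj_one_left.mp hc)]
    · simp
  refine ga_ext fun g => Subtype.ext ?_
  have h1 := hrec a g
  rw [Finset.sum_congr rfl fun ψ _ => by rw [h ψ g⁻¹], hrec b g] at h1
  exact (mul_left_cancel₀ (Nat.cast_ne_zero.mpr Nat.card_pos.ne') h1).symm

theorem evalGA_eq_trace {m : ℕ} {ρ : Representation ℂ G (Fin m → ℂ)} {ψ : IrrCharacter G}
    (hψ : (ψ : G → ℂ) = ρ.character) (w : MonoidAlgebra (locRing M) G) :
    evalGA (ψ : G → ℂ) w = LinearMap.trace ℂ _ (ρ.asAlgebraHom (toC M w)) := by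
  rw [Representation.asAlgebraHom_def, MonoidAlgebra.lift_apply,
    Finsupp.sum_fintype _ _ (fun g => by simp), map_sum, evalGA]
  exact Finset.sum_congr rfl fun t _ => by rw [map_smul, smul_eq_mul, coeff_toC, hψ]; rfl

/-- A central element acts on a character by its central character. -/
theorem evalGA_center_mul (ψ : IrrCharacter G)
    (z : Subalgebra.center (locRing M) (MonoidAlgebra (locRing M) G))
    (w : MonoidAlgebra (locRing M) G) :
    evalGA (ψ : G → ℂ) ((z : MonoidAlgebra (locRing M) G) * w) =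
      (omegaLoc M ψ z : ℂ) * evalGA (ψ : G → ℂ) w := by
  obtain ⟨m, ρ, hρ, hψ⟩ := ψ.2
  rw [evalGA_eq_trace hψ.symm, evalGA_eq_trace hψ.symm, map_mul, map_mul,
    rho_classElt ρ (isClassElt_toC z), coe_omegaLoc, hψ, ← Algebra.smul_def, map_smul, smul_eq_mul]

/-- A character with value one at an idempotent is multiplicative through it. -/
theorem evalGA_rank_one (ψ : IrrCharacter G) {c : MonoidAlgebra (locRing M) G} (hc : c * c = c)
    (h1 : evalGA (ψ : G → ℂ) c = 1) (u v : MonoidAlgebra (locRing M) G) :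
    evalGA (ψ : G → ℂ) (c * u * c * v) =
      evalGA (ψ : G → ℂ) (c * u) * evalGA (ψ : G → ℂ) (c * v) := by
  obtain ⟨m, ρ, -, hψ⟩ := ψ.2
  simp only [evalGA_eq_trace hψ.symm, map_mul] at h1 ⊢
  set P := ρ.asAlgebraHom (toC M c) with hP
  set U := ρ.asAlgebraHom (toC M u)
  set V := ρ.asAlgebraHom (toC M v)
  have hPP : P * P = P := by rw [hP, ← map_mul, ← map_mul, hc]
  have hproj : LinearMap.IsProj (LinearMap.range P) P :=
    ⟨fun x => ⟨x, rfl⟩, fun x ⟨w, hw⟩ => by rw [← hw]; exact LinearMap.congr_fun hPP w⟩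
  have hdim : Module.finrank ℂ (LinearMap.range P) = 1 := by
    have h := hproj.trace
    rw [h1] at h
    exact_mod_cast h.symm
  obtain ⟨⟨x, hx⟩, -, hspan⟩ := finrank_eq_one_iff'.mp hdim
  obtain ⟨a, ha⟩ := hspan ⟨P (U x), ⟨_, rfl⟩⟩
  have ha' : a • x = P (U x) := congrArg Subtype.val ha
  have hkey : P * U * P = a • P := by
    refine LinearMap.ext fun w => ?_
    obtain ⟨b, hb⟩ := hspan ⟨P w, ⟨_, rfl⟩⟩
    have hb' : b • x = P w := congrArg Subtype.val hb
    rw [Module.End.mul_apply, Module.End.mul_apply, LinearMap.smul_apply, ← hb', map_smul, map_smul,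
      ← ha', smul_comm]
  have htr : LinearMap.trace ℂ (Fin m → ℂ) (P * U) = a := by
    have h : LinearMap.trace ℂ _ (P * U * P) = LinearMap.trace ℂ _ (P * U) := by
      rw [LinearMap.trace_mul_comm, ← mul_assoc, hPP]
    rw [← h, hkey, map_smul, h1, smul_eq_mul, mul_one]
  rw [hkey, smul_mul_assoc, map_smul, smul_eq_mul, htr]

/-- Powers of `X - 1` in characteristic `p`. -/
theorem sub_one_pow_card {S : Type*} [CommRing S] {p a : ℕ} (hp : p.Prime) [CharP S p] (x : S) :
    (x - 1) ^ (p ^ a - 1) = ∑ l ∈ Finset.range (p ^ a), x ^ l := by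
  haveI : Fact p.Prime := ⟨hp⟩
  have h : ((Polynomial.X : Polynomial (ZMod p)) - 1) ^ (p ^ a - 1) =
      ∑ l ∈ Finset.range (p ^ a), Polynomial.X ^ l := by
    have hne : ((Polynomial.X : Polynomial (ZMod p)) - 1) ≠ 0 := by
      simpa using Polynomial.X_sub_C_ne_zero (1 : ZMod p)
    refine mul_left_cancel₀ hne ?_
    rw [← pow_succ', Nat.sub_add_cancel (Nat.one_le_pow _ _ hp.pos), sub_pow_char_pow, one_pow,
      mul_geom_sum]
  letI := ZMod.algebra S p
  simpa using congrArg (Polynomial.aeval x) h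

end general

variable {p : ℕ} {M : Ideal AlgInt} [M.IsMaximal] {G : Type u} [Group G] [Fintype G] [DecidableEq G]
  [Fintype (IrrCharacter G)]

namespace Frame

variable (F : Frame p M G) [Fintype (IrrCharacter (CQ F.Q))]

theorem rank_f : blockRank p F.f = 1 :=
  (blockRank_eq_one_of_unitRow F.prime.ne_one (isNilpotentBlock_unitRow F.hM F.nilpotent_f)).1

theorem regInner_η (i : ZMod (Nat.card F.P)) :
    regInner p (F.ηc i) (F.ηc i) = (Nat.card F.P : ℂ)⁻¹ := by
  classical
  have := Fintype.ofFinite (ConjClasses (CQ F.Q))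
  have h := blockRank_eq_sum_regInner F.hM (IsBlockUnion.of_isPBlock F.block_f)
  have hall : ∀ j, regInner p (F.ηc j) (F.ηc j) = regInner p (F.ηc i) (F.ηc i) := fun j => by
    refine mul_left_cancel₀ (Nat.cast_ne_zero.mpr Nat.card_pos.ne' : (Nat.card (CQ F.Q) : ℂ) ≠ 0) ?_
    rw [card_mul_regInner, card_mul_regInner]
    refine Finset.sum_congr rfl fun x hx => ?_
    have hx' := (Finset.mem_filter.mp hx).2
    rw [F.ηc_regular j i hx', F.ηc_regular j i (g := x⁻¹) (by rwa [orderOf_inv])]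
  rw [F.rank_f, show (Finset.univ.filter (· ∈ F.f)) = Finset.univ.image F.ηc from Finset.ext fun θ => by
    simp only [Finset.mem_filter, Finset.mem_univ, true_and, Finset.mem_image, ← F.range_ηc,
      Set.mem_range], Finset.sum_image fun _ _ _ _ h => F.ηc_injective h,
    Finset.sum_congr rfl fun j _ => hall j, Finset.sum_const, Finset.card_univ, ZMod.card,
    nsmul_eq_mul, Nat.cast_one] at h
  exact eq_inv_of_mul_eq_one_right h.symm

theorem ηc_one (i : ZMod (Nat.card F.P)) :
    (F.ηc i : CQ F.Q → ℂ) 1 = (charDegree (F.η 0 : CQ F.Q → ℂ) : ℂ) := by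
  rw [ηc, F.η_regular _ (by rw [orderOf_one]; exact F.prime.not_dvd_one), (charDegree_eq (F.η 0)).1]

/-- The scalar in the coefficients: `|P| η 1 / |C(Q)|`. -/
theorem cdeg_mem : (Nat.card F.P : ℂ) * charDegree (F.η 0 : CQ F.Q → ℂ) / Nat.card (CQ F.Q) ∈
    locRing M := by
  set num := Nat.card F.P * charDegree (F.η 0 : CQ F.Q → ℂ) with hnum
  set v := (Nat.card (CQ F.Q)).factorization p with hv
  have hm : ¬ p ∣ Nat.card (CQ F.Q) / p ^ v := Nat.not_dvd_ordCompl F.prime Nat.card_pos.ne'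
  have hdvd : p ^ v ∣ num := by
    have hnum0 : num ≠ 0 := mul_ne_zero Nat.card_pos.ne' (charDegree_eq (F.η 0)).2
    rw [F.prime.pow_dvd_iff_le_factorization hnum0, hnum,
      Nat.factorization_mul Nat.card_pos.ne' (charDegree_eq (F.η 0)).2, Finsupp.add_apply, hv,
      ← F.deg_val]
    omega
  obtain ⟨q, hq⟩ := hdvd
  have hcard : Nat.card (CQ F.Q) = p ^ v * (Nat.card (CQ F.Q) / p ^ v) :=
    (Nat.ordProj_mul_ordCompl_eq_self _ p).symm
  have hp0 : (p : ℂ) ^ v ≠ 0 := pow_ne_zero _ (Nat.cast_ne_zero.mpr F.prime.ne_zero)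
  have h : (Nat.card F.P : ℂ) * charDegree (F.η 0 : CQ F.Q → ℂ) / Nat.card (CQ F.Q) =
      (q : ℂ) * ((Nat.card (CQ F.Q) / p ^ v : ℕ) : ℂ)⁻¹ := by
    rw [← Nat.cast_mul, ← hnum, hq]
    conv_lhs => rw [hcard]
    push_cast
    rw [mul_div_mul_left _ _ hp0, div_eq_mul_inv]
  rw [h]
  exact mul_mem (natCast_mem _ _) (inv_natCast_mem F.hM hm)

/-- The coefficient at `j` of the values of the centred members. -/
noncomputable def secc (x : CQ F.Q) (j : ZMod (Nat.card F.P)) : ℂ :=
  zchar (Nat.card F.P) (F.centre * j) * F.sec x j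

theorem secc_mem (x : CQ F.Q) (j : ZMod (Nat.card F.P)) : F.secc x j ∈ locRing M :=
  mul_mem (integral_mem M (isIntegral_zchar _ _)) (F.sec_mem x j)

theorem ηc_expand (i : ZMod (Nat.card F.P)) (x : CQ F.Q) :
    (F.ηc i : CQ F.Q → ℂ) x = ∑ j, zchar (Nat.card F.P) (i * j) * F.secc x j := by
  rw [ηc, F.η_expand]
  exact Finset.sum_congr rfl fun j _ => by
    rw [secc, add_mul, AddChar.map_add_eq_mul, mul_assoc]

theorem sum_zchar_ηc (j : ZMod (Nat.card F.P)) (x : CQ F.Q) :
    ∑ i, zchar (Nat.card F.P) (-(i * j)) * (F.ηc i : CQ F.Q → ℂ) x =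
      (Nat.card F.P : ℂ) * F.secc x j := by
  simp only [F.ηc_expand, Finset.mul_sum]
  rw [Finset.sum_comm, Finset.sum_congr rfl (g := fun l : ZMod (Nat.card F.P) => F.secc x l *
    ∑ i : ZMod (Nat.card F.P), zchar (Nat.card F.P) (i * (l - j))) fun l _ => by
    rw [Finset.mul_sum]
    refine Finset.sum_congr rfl fun i _ => ?_
    rw [mul_sub, sub_eq_add_neg, AddChar.map_add_eq_mul]
    ring]
  simp only [zchar_sum, sub_eq_zero, mul_ite, mul_zero, Finset.sum_ite_eq', Finset.mem_univ, if_true]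
  ring

/-- The central element with the values `i ↦ ζ^(i j)` on the labels. -/
noncomputable def zc (j : ZMod (Nat.card F.P)) :
    Subalgebra.center (locRing M) (MonoidAlgebra (locRing M) (CQ F.Q)) :=
  ⟨gaOfFun fun x => (⟨_, F.cdeg_mem⟩ : locRing M) * ⟨_, F.secc_mem x⁻¹ (-j)⟩,
    mem_center_iff_isClassElt.mpr fun g h => by
      simp only [coeff_gaOfFun]
      congr 1
      refine Subtype.ext (mul_left_cancel₀ (Nat.cast_ne_zero.mpr Nat.card_pos.ne' :
        (Nat.card F.P : ℂ) ≠ 0) ?_)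
      dsimp only
      rw [← F.sum_zchar_ηc, ← F.sum_zchar_ηc]
      refine Finset.sum_congr rfl fun i _ => ?_
      rw [show (h * g * h⁻¹)⁻¹ = h * g⁻¹ * h⁻¹ by group, Char.isClassFunction_irr (F.ηc i)]⟩

theorem toC_zc (j : ZMod (Nat.card F.P)) :
    toC M (F.zc j : MonoidAlgebra (locRing M) (CQ F.Q)) =
      ∑ i, zchar (Nat.card F.P) (i * j) • charIdem (F.ηc i : CQ F.Q → ℂ) := by
  refine ga_ext fun x => ?_
  rw [coeff_toC, coeff_sum_apply]
  simp only [zc, coeff_gaOfFun, Subring.coe_mul, MonoidAlgebra.coeff_smul, Finsupp.smul_apply,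
    charIdem, smul_eq_mul, F.ηc_one, ← Char.irr_inv]
  rw [div_mul_eq_mul_div, mul_assoc, mul_comm (charDegree (F.η 0 : CQ F.Q → ℂ) : ℂ), ← mul_assoc,
    ← F.sum_zchar_ηc, Finset.sum_mul, Finset.sum_div]
  refine Finset.sum_congr rfl fun i _ => ?_
  rw [mul_neg, neg_neg]
  ring

open scoped Classical in
theorem omegaLoc_zc (j : ZMod (Nat.card F.P)) (χ : IrrCharacter (CQ F.Q)) :
    (omegaLoc M χ (F.zc j) : ℂ) =
      ∑ i, if χ = F.ηc i then zchar (Nat.card F.P) (i * j) else 0 := by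
  have hsum : ∀ (s : Finset (ZMod (Nat.card F.P)))
      (h : ZMod (Nat.card F.P) → MonoidAlgebra ℂ (CQ F.Q)),
      omega (χ : CQ F.Q → ℂ) (∑ i ∈ s, h i) = ∑ i ∈ s, omega (χ : CQ F.Q → ℂ) (h i) := fun s h =>
    map_sum (AddMonoidHom.mk' (omega (χ : CQ F.Q → ℂ)) (omega_add _)) h s
  rw [coe_omegaLoc, toC_zc, hsum]
  simp [omega_smul, omega_charIdem]

theorem omegaLoc_zc_η (j i : ZMod (Nat.card F.P)) :
    (omegaLoc M (F.ηc i) (F.zc j) : ℂ) = zchar (Nat.card F.P) (i * j) := by
  classical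
  rw [omegaLoc_zc]
  simp [F.ηc_injective.eq_iff]

theorem omegaLoc_zc_not_mem (j : ZMod (Nat.card F.P)) {χ : IrrCharacter (CQ F.Q)} (h : χ ∉ F.f) :
    (omegaLoc M χ (F.zc j) : ℂ) = 0 := by
  classical
  rw [omegaLoc_zc]
  exact Finset.sum_eq_zero fun i _ => if_neg fun (e : χ = F.ηc i) => h (e ▸ F.ηc_mem i)

theorem zc_zero : F.zc 0 = blockIdem M F.f := center_ext fun χ => Subtype.ext (by
  classical
  rw [omegaLoc_blockIdem F.hM (.of_isPBlock F.block_f)]
  by_cases h : χ ∈ F.f
  · obtain ⟨i, rfl⟩ := F.exists_ηc h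
    rw [omegaLoc_zc_η, mul_zero, AddChar.map_zero_eq_one, if_pos h]
    rfl
  · rw [F.omegaLoc_zc_not_mem _ h, if_neg h]
    rfl)

theorem zc_mul (j l : ZMod (Nat.card F.P)) : F.zc j * F.zc l = F.zc (j + l) :=
  center_ext fun χ => Subtype.ext (by
    classical
    rw [map_mul, Subring.coe_mul]
    by_cases h : χ ∈ F.f
    · obtain ⟨i, rfl⟩ := F.exists_ηc h
      rw [omegaLoc_zc_η, omegaLoc_zc_η, omegaLoc_zc_η, mul_add, AddChar.map_add_eq_mul]
    · rw [F.omegaLoc_zc_not_mem j h, F.omegaLoc_zc_not_mem (j + l) h, zero_mul])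


/-- The reduced block. -/
noncomputable def fK : MonoidAlgebra (ResField M) (CQ F.Q) := eK M F.f

/-- The generator of the radical of the centre. -/
noncomputable def zeta : MonoidAlgebra (ResField M) (CQ F.Q) :=
  toK M (F.zc 1 : MonoidAlgebra (locRing M) (CQ F.Q)) - F.fK

theorem fK_idem : F.fK * F.fK = F.fK := eK_idem F.hM F.block_f

theorem toK_zc_mul (j l : ZMod (Nat.card F.P)) :
    toK M (F.zc j : MonoidAlgebra (locRing M) (CQ F.Q)) *
        toK M (F.zc l : MonoidAlgebra (locRing M) (CQ F.Q)) =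
      toK M (F.zc (j + l) : MonoidAlgebra (locRing M) (CQ F.Q)) := by
  rw [← map_mul, ← F.zc_mul]
  rfl

theorem toK_zc_zero : toK M (F.zc 0 : MonoidAlgebra (locRing M) (CQ F.Q)) = F.fK := by
  rw [F.zc_zero]; rfl

/-- The powers of the reduced central element. -/
theorem toK_zc_natCast (l : ℕ) :
    toK M (F.zc (l : ZMod (Nat.card F.P)) : MonoidAlgebra (locRing M) (CQ F.Q)) =
      toK M (F.zc 1 : MonoidAlgebra (locRing M) (CQ F.Q)) ^ l * F.fK := by
  induction l with
  | zero => rw [Nat.cast_zero, toK_zc_zero, pow_zero, one_mul]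
  | succ l ih =>
    rw [pow_succ', mul_assoc, ← ih, F.toK_zc_mul]
    rw [Nat.cast_succ, add_comm]

theorem commute_zeta (x : MonoidAlgebra (ResField M) (CQ F.Q)) : Commute F.zeta x :=
  (((mem_center_iff_isClassElt.mp (F.zc 1).2).map (res M)).commute x).sub_left (commute_eK x)

theorem zeta_fK : F.zeta * F.fK = F.zeta := by
  rw [zeta, sub_mul, fK_idem, ← toK_zc_zero, F.toK_zc_mul, add_zero]

theorem charP_alg : CharP (MonoidAlgebra (ResField M) (CQ F.Q)) p := by
  have := charP_resField F.hM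
  exact charP_of_injective_algebraMap
    (algebraMap (ResField M) (MonoidAlgebra (ResField M) (CQ F.Q))).injective p

theorem zeta_pow_card : F.zeta ^ Nat.card F.P = 0 := by
  have := F.charP_alg
  haveI : Fact p.Prime := ⟨F.prime⟩
  obtain ⟨k, hk⟩ := IsPGroup.iff_card.mp F.isPGroup
  have h0 : toK M (F.zc 1 : MonoidAlgebra (locRing M) (CQ F.Q)) ^ Nat.card F.P * F.fK = F.fK := by
    rw [← F.toK_zc_natCast, ZMod.natCast_self, toK_zc_zero]
  have hfp : F.fK ^ Nat.card F.P = F.fK :=
    (show IsIdempotentElem F.fK from F.fK_idem).pow_eq Nat.card_pos.ne'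
  have h1 : F.zeta ^ Nat.card F.P * F.fK = F.zeta ^ Nat.card F.P := by
    obtain ⟨m, hm⟩ := Nat.exists_eq_succ_of_ne_zero (Nat.card_pos (α := F.P)).ne'
    rw [hm, pow_succ, mul_assoc, F.zeta_fK]
  have hsub : ∀ m, m = p ^ k →
      (toK M (F.zc 1 : MonoidAlgebra (locRing M) (CQ F.Q)) - F.fK) ^ m =
        toK M (F.zc 1 : MonoidAlgebra (locRing M) (CQ F.Q)) ^ m - F.fK ^ m := by
    rintro m rfl
    exact sub_pow_char_pow_of_commute p k (commute_eK (f := F.f) _).symm
  rw [← h1, zeta, hsub _ hk, hfp, sub_mul, h0, fK_idem, sub_self]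

theorem zeta_pow_pred :
    F.zeta ^ (Nat.card F.P - 1) * F.fK =
      ∑ l ∈ Finset.range (Nat.card F.P),
        toK M (F.zc (l : ZMod (Nat.card F.P)) : MonoidAlgebra (locRing M) (CQ F.Q)) := by
  have := F.charP_alg
  haveI : Fact p.Prime := ⟨F.prime⟩
  obtain ⟨k, hk⟩ := IsPGroup.iff_card.mp F.isPGroup
  have := charP_resField F.hM
  let A := Algebra.adjoin (ResField M) ({toK M (F.zc 1 : MonoidAlgebra (locRing M) (CQ F.Q))} :
    Set (MonoidAlgebra (ResField M) (CQ F.Q)))
  letI : CommRing A :=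
    { (inferInstance : Ring A) with
      mul_comm := fun x y => Subtype.ext
        (Algebra.commute_of_mem_adjoin_singleton_of_commute y.2
          (Algebra.commute_of_mem_adjoin_self x.2).symm).eq }
  have : CharP A p := charP_of_injective_algebraMap (algebraMap (ResField M) A).injective p
  have h := congrArg (fun a : A => (a : MonoidAlgebra (ResField M) (CQ F.Q)) * F.fK)
    (sub_one_pow_card (a := k) F.prime
      (⟨_, Algebra.subset_adjoin (Set.mem_singleton _)⟩ : A))
  simp only [SubmonoidClass.coe_pow, AddSubgroupClass.coe_sub, OneMemClass.coe_one,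
    AddSubmonoidClass.coe_finsetSum, Finset.sum_mul, ← hk] at h
  have hcomm : Commute (toK M (F.zc 1 : MonoidAlgebra (locRing M) (CQ F.Q)) - 1) F.fK :=
    (commute_eK (f := F.f) _).symm
  have hz : F.zeta = (toK M (F.zc 1 : MonoidAlgebra (locRing M) (CQ F.Q)) - 1) * F.fK := by
    rw [sub_mul, one_mul, zeta, ← toK_zc_zero, F.toK_zc_mul, add_zero]
  rw [Finset.sum_congr rfl fun l _ => F.toK_zc_natCast l, ← h, hz, hcomm.mul_pow, mul_assoc,
    ← pow_succ, (show IsIdempotentElem F.fK from F.fK_idem).pow_succ_eq]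

/-- The coefficient at a regular element of the sum of the central elements is that of the block. -/
theorem coeff_sum_zc {g : CQ F.Q} (hg : ¬ p ∣ orderOf g) :
    (∑ l ∈ Finset.range (Nat.card F.P),
        toK M (F.zc (l : ZMod (Nat.card F.P)) : MonoidAlgebra (locRing M) (CQ F.Q))).coeff g =
      F.fK.coeff g := by
  classical
  rw [← map_sum, fK, eK, ← zc_zero, coeff_toK, coeff_toK]
  congr 1
  refine Subtype.ext (?_ : _ = _)
  rw [coeff_sum_apply, AddSubmonoidClass.coe_finsetSum]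
  simp only [← coeff_toC, toC_zc, coeff_sum_apply, MonoidAlgebra.coeff_smul, Finsupp.smul_apply,
    charIdem, coeff_gaOfFun, smul_eq_mul]
  have hcst : ∀ i, (F.ηc i : CQ F.Q → ℂ) 1 * conj ((F.ηc i : CQ F.Q → ℂ) g) =
      (F.ηc 0 : CQ F.Q → ℂ) 1 * conj ((F.ηc 0 : CQ F.Q → ℂ) g) := fun i => by
    rw [F.ηc_regular i 0 hg, F.ηc_one, F.ηc_one]
  simp only [hcst, mul_zero, AddChar.map_zero_eq_one, one_mul, Finset.sum_const, Finset.card_univ,
    ZMod.card, nsmul_eq_mul]
  rw [Finset.sum_comm, Finset.sum_congr rfl fun i _ => (Finset.sum_mul ..).symm,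
    Finset.sum_congr rfl (g := fun i : ZMod (Nat.card F.P) =>
      (if i = 0 then (Nat.card F.P : ℂ) else 0) * ((Nat.card (CQ F.Q) : ℂ)⁻¹ *
        ((F.ηc 0 : CQ F.Q → ℂ) 1 * conj ((F.ηc 0 : CQ F.Q → ℂ) g)))) fun i _ => ?_]
  · simp [ite_mul]
  congr 1
  rw [← zchar_sum]
  refine Finset.sum_nbij' (fun l => (l : ZMod (Nat.card F.P))) ZMod.val
    (fun l _ => Finset.mem_univ _) (fun x _ => Finset.mem_range.mpr (ZMod.val_lt x))
    (fun l hl => ZMod.val_cast_of_lt (Finset.mem_range.mp hl)) (fun x _ => ZMod.natCast_zmod_val x)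
    fun l _ => by rw [mul_comm]

theorem exists_regular_coeff : ∃ g : CQ F.Q, ¬ p ∣ orderOf g ∧ F.fK.coeff g ≠ 0 := by
  classical
  by_contra h
  push Not at h
  refine eK_ne_zero F.hM F.block_f (ga_ext fun g => ?_)
  by_contra hne
  have h1 : coeffRes M F.f g ≠ 0 := by
    intro h0
    refine hne ?_
    rw [eK, coeff_toK]
    simpa [coeffRes] using h0
  exact hne (h g (regular_of_coeffRes_ne_zero F.hM (.of_isPBlock F.block_f) h1))

theorem zeta_top : F.zeta ^ (Nat.card F.P - 1) * F.fK ≠ 0 := by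
  obtain ⟨g, hg, hne⟩ := F.exists_regular_coeff
  intro h
  have h1 := F.coeff_sum_zc hg
  rw [← zeta_pow_pred, h] at h1
  exact hne h1.symm

/-! ### The primitive idempotent -/

/-- A primitive idempotent of the block. -/
noncomputable def pt : MonoidAlgebra (ResField M) (CQ F.Q) := (exists_point F.hM F.block_f).choose

theorem isPt_pt : IsPt F.pt := (exists_point F.hM F.block_f).choose_spec.1

theorem pt_fK : F.pt * F.fK = F.pt := (exists_point F.hM F.block_f).choose_spec.2

theorem fK_pt : F.fK * F.pt = F.pt := (commute_eK (f := F.f) F.pt).eq.trans F.pt_fK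

theorem idemVal_pt (i : ZMod (Nat.card F.P)) : idemVal (F.ηc i) F.pt = 1 := by
  classical
  haveI : Fact p.Prime := ⟨F.prime⟩
  obtain ⟨a, ha⟩ := IsPGroup.iff_card.mp F.isPGroup
  have hrI := F.regInner_η i
  have hna : (Nat.card F.P : ℂ) = (p : ℂ) ^ a :=
    (congrArg (fun m : ℕ => (m : ℂ)) ha).trans (Nat.cast_pow p a)
  rw [hna] at hrI
  obtain ⟨g, hg, hne⟩ := F.exists_regular_coeff
  refine idemVal_point_eq_one F.hM F.block_f F.rank_f F.isPt_pt F.pt_fK (F.ηc_mem i) hrI ?_
  refine not_dvd_idemVal F.hM F.block_f F.rank_f F.isPt_pt F.pt_fK (F.ηc_mem i)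
    (c := ⟨_, F.cdeg_mem⟩) hg hne ?_
  rw [← zc_zero, ← coeff_toC, toC_zc, coeff_sum_apply]
  simp only [MonoidAlgebra.coeff_smul, Finsupp.smul_apply, charIdem, coeff_gaOfFun, smul_eq_mul,
    mul_zero, AddChar.map_zero_eq_one, one_mul, F.ηc_one, ← Char.irr_inv]
  rw [Finset.sum_congr rfl fun x _ => by rw [F.ηc_regular x i (g := g⁻¹) (by rwa [orderOf_inv])],
    Finset.sum_const, Finset.card_univ, ZMod.card, nsmul_eq_mul]
  ring

theorem zeta_top_pt : F.zeta ^ (Nat.card F.P - 1) * F.pt ≠ 0 := by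
  intro h
  refine F.zeta_top ?_
  obtain ⟨m, a, b, ha, -, hab⟩ := exists_full F.hM F.block_f F.rank_f F.isPt_pt F.pt_fK
  rw [fK, ← hab, Finset.mul_sum]
  refine Finset.sum_eq_zero fun r _ => ?_
  rw [← ha r, ← mul_assoc, ← mul_assoc, ((F.commute_zeta (a r)).pow_left _).eq,
    mul_assoc (a r), h, mul_zero, zero_mul]

/-- The corner is spanned by the powers of the generator. -/
theorem corner_zeta (w : MonoidAlgebra (ResField M) (CQ F.Q)) :
    ∃ c : ℕ → ResField M, F.pt * w * F.pt =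
      ∑ j ∈ Finset.range (Nat.card F.P), c j • (F.zeta ^ j * F.pt) := by
  classical
  obtain ⟨ih, hih, hihK, hlow, hlow'⟩ := exists_lift_below
    (congrArg Subtype.val (blockIdem_mul_self F.hM (IsBlockUnion.of_isPBlock F.block_f)))
    F.isPt_pt.idem F.fK_pt F.pt_fK
  set W := naiveLift w with hW
  have hval : ∀ i, evalGA (F.ηc i : CQ F.Q → ℂ) ih = 1 := fun i => by
    rw [idemVal_spec F.hM hih hihK (F.ηc i), F.idemVal_pt, Nat.cast_one]
  let a : ZMod (Nat.card F.P) → locRing M := fun j =>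
    ∑ x, (ih * W).coeff x * ⟨_, F.secc_mem x j⟩
  have hη : ∀ i, evalGA (F.ηc i : CQ F.Q → ℂ) (ih * W) =
      ∑ j, zchar (Nat.card F.P) (i * j) * (a j : ℂ) := fun i => by
    simp only [evalGA, F.ηc_expand, Finset.mul_sum, a, AddSubmonoidClass.coe_finsetSum,
      Subring.coe_mul]
    rw [Finset.sum_comm]
    exact Finset.sum_congr rfl fun j _ => Finset.sum_congr rfl fun x _ => by ring
  have hsum : ∀ (ψ : IrrCharacter (CQ F.Q))
      (h : ZMod (Nat.card F.P) → MonoidAlgebra (locRing M) (CQ F.Q)),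
      evalGA (ψ : CQ F.Q → ℂ) (∑ j, h j) = ∑ j, evalGA (ψ : CQ F.Q → ℂ) (h j) := fun ψ h => by
    simp only [evalGA, coeff_sum_apply, AddSubmonoidClass.coe_finsetSum, Finset.sum_mul]
    exact Finset.sum_comm
  have heq : ih * W * ih =
      (∑ j, (a j) • (F.zc j : MonoidAlgebra (locRing M) (CQ F.Q))) * ih := by
    refine ga_ext_evalGA fun ψ g => ?_
    have hsmul : ∀ (c : locRing M) (z : MonoidAlgebra (locRing M) (CQ F.Q)),
        evalGA (ψ : CQ F.Q → ℂ) (c • z) = (c : ℂ) * evalGA (ψ : CQ F.Q → ℂ) z := fun c z => by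
      simp only [evalGA, MonoidAlgebra.coeff_smul, Finsupp.smul_apply, smul_eq_mul, Subring.coe_mul,
        Finset.mul_sum, mul_assoc]
    have hcen : ∀ j, evalGA (ψ : CQ F.Q → ℂ)
        ((F.zc j : MonoidAlgebra (locRing M) (CQ F.Q)) * ih * single g 1) =
          (omegaLoc M ψ (F.zc j) : ℂ) * evalGA (ψ : CQ F.Q → ℂ) (ih * single g 1) := fun j => by
      rw [mul_assoc, evalGA_center_mul]
    simp only [Finset.sum_mul, smul_mul_assoc, hsum, hsmul, hcen]
    by_cases hψ : ψ ∈ F.f
    · obtain ⟨i, rfl⟩ := F.exists_ηc hψ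
      simp only [omegaLoc_zc_η, evalGA_rank_one _ hih (hval i), hη, Finset.sum_mul]
      exact Finset.sum_congr rfl fun j _ => by ring
    · simp only [F.omegaLoc_zc_not_mem _ hψ, zero_mul, mul_zero, Finset.sum_const_zero]
      have hcd : Commute (blockIdem M F.f : MonoidAlgebra (locRing M) (CQ F.Q))
          (ih * W * ih * single g 1) :=
        (mem_center_iff_isClassElt.mp (blockIdem M F.f).2).commute _
      have e : ih * W * ih * single g 1 =
          ih * W * ih * single g 1 * (blockIdem M F.f : MonoidAlgebra (locRing M) (CQ F.Q)) := by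
        rw [← hcd.eq]
        simp only [← mul_assoc, hlow]
      rw [e, TwoChar.evalGA_mul_blockIdem F.hM (.of_isPBlock F.block_f), if_neg hψ]
  set z := toK M (F.zc 1 : MonoidAlgebra (locRing M) (CQ F.Q)) with hz
  have hzpt : ∀ l : ℕ, z ^ l * F.pt = ∑ m ∈ Finset.range (l + 1),
      (l.choose m : ResField M) • (F.zeta ^ m * F.pt) := by
    intro l
    have h1 : z * F.pt = (F.zeta + 1) * F.pt := by
      rw [zeta, add_mul, sub_mul, one_mul, fK_pt, sub_add_cancel]
    have h2 : ∀ m, z ^ m * F.pt = (F.zeta + 1) ^ m * F.pt := by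
      intro m
      induction m with
      | zero => simp
      | succ m ih =>
        have hc : Commute ((F.zeta + 1) ^ m) z :=
          ((F.commute_zeta z).add_left (Commute.one_left z)).pow_left m
        rw [pow_succ', mul_assoc, ih, ← mul_assoc, ← hc.eq, mul_assoc, h1, ← mul_assoc, ← pow_succ]
    rw [h2, (Commute.one_right F.zeta).add_pow, Finset.sum_mul]
    refine Finset.sum_congr rfl fun m _ => ?_
    rw [one_pow, mul_one, ← Nat.cast_comm, mul_assoc, ← nsmul_eq_mul,
      ← Nat.cast_smul_eq_nsmul (ResField M)]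
  refine ⟨fun m => ∑ j, if m ≤ j.val then res M (a j) * (j.val.choose m : ResField M) else 0, ?_⟩
  have h := congrArg (toK M) heq
  rw [map_mul, map_mul, map_mul, hihK, hW, toK_naiveLift, map_sum] at h
  rw [h, Finset.sum_mul]
  have hterm : ∀ j, toK M ((a j) • (F.zc j : MonoidAlgebra (locRing M) (CQ F.Q))) * F.pt =
      ∑ m ∈ Finset.range (Nat.card F.P),
        (if m ≤ j.val then res M (a j) * (j.val.choose m : ResField M) else 0) •
          (F.zeta ^ m * F.pt) := by
    intro j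
    have h1 : toK M ((a j) • (F.zc j : MonoidAlgebra (locRing M) (CQ F.Q))) =
        res M (a j) • toK M (F.zc j : MonoidAlgebra (locRing M) (CQ F.Q)) := ga_ext fun x => by
      simp [coeff_toK]
    rw [h1, smul_mul_assoc]
    have h2 : toK M (F.zc j : MonoidAlgebra (locRing M) (CQ F.Q)) = z ^ j.val * F.fK := by
      rw [hz, ← F.toK_zc_natCast, ZMod.natCast_zmod_val]
    rw [h2, mul_assoc, fK_pt, hzpt, Finset.smul_sum]
    rw [← Finset.sum_subset (Finset.range_mono (ZMod.val_lt j : j.val + 1 ≤ Nat.card F.P))]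
    · refine Finset.sum_congr rfl fun m hm => ?_
      rw [smul_smul, if_pos (Nat.lt_succ_iff.mp (Finset.mem_range.mp hm))]
    · intro m _ hm
      rw [if_neg (fun hle => hm (Finset.mem_range.mpr (Nat.lt_succ_iff.mpr hle))), zero_smul]
  rw [Finset.sum_congr rfl fun j _ => hterm j, Finset.sum_comm]
  exact Finset.sum_congr rfl fun m _ => (Finset.sum_smul ..).symm

end Frame

end CfsgLib.Block.CyclicDefect
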