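import Cfsg.Agent.Lib.Block.CyclicDefect.Vectors
import Cfsg.Agent.Lib.Block.CyclicDefect.Inertial
import Cfsg.Agent.Lib.Block.CyclicDefect.Counting

/-!
# The characters of a block with cyclic defect group

`Frame.exists_shape`: the block has `e + m` members, `m` the number of orbits on the non-zero
labels; its regular rank is `e`; the vector of an orbit is a sign on `e` of the members plus a common
sign on the exceptional member of the orbit.
-/

open Finset MonoidAlgebra
open scoped ComplexConjugate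

set_option autoImplicit false
set_option linter.unusedSectionVars false

namespace CfsgLib.Block.CyclicDefect

open Cfsg CfsgLib.Block
open scoped Pair

universe u

variable {p : ℕ} {M : Ideal AlgInt} [M.IsMaximal] {G : Type u} [Group G] [Fintype G] [DecidableEq G]
  [Fintype (IrrCharacter G)]

namespace Frame

variable (F : Frame p M G) [Fintype (IrrCharacter (CQ F.Q))]

theorem mult_mul (χ : IrrCharacter G) (i : ZMod (Nat.card F.P)) :
    F.mult χ (F.r * i) = F.mult χ i := by
  simp only [mult, classInner]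
  congr 1
  refine Fintype.sum_equiv F.σ.toEquiv _ _ fun x => ?_
  rw [MulEquiv.toEquiv_eq_coe, MulEquiv.coe_toEquiv, F.ηc_sigma]
  congr 1
  show _ = (χ : G → ℂ) (F.t * (x : G) * F.t⁻¹)
  rw [Char.isClassFunction_irr χ]

theorem mult_pow_mul (χ : IrrCharacter G) (l : ℕ) (i : ZMod (Nat.card F.P)) :
    F.mult χ (F.r ^ l * i) = F.mult χ i := by
  induction l with
  | zero => rw [pow_zero, one_mul]
  | succ l ih => rw [pow_succ', mul_assoc, F.mult_mul, ih]

theorem wv_orbit {i : ZMod (Nat.card F.P)} (hi : i ≠ 0) :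
    ∃ o : F.Orb, ∀ χ, F.wv i χ = F.wv (F.rep o) χ := by
  obtain ⟨o, l, -, rfl⟩ := F.exists_rep hi
  exact ⟨o, fun χ => by rw [wv, wv, F.mult_pow_mul]⟩

theorem wz_eq_zero {χ : IrrCharacter G} (hχ : χ ∉ F.B) (i : ZMod (Nat.card F.P)) :
    F.wz i χ = 0 := by
  have h := F.coe_wz i χ
  rw [F.wv_eq_zero hχ] at h
  exact_mod_cast h

theorem exists_wz_ne_zero {χ : IrrCharacter G} (hχ : χ ∈ F.B) :
    ∃ o : F.Orb, F.wz (F.rep o) χ ≠ 0 := by
  obtain ⟨i, hi⟩ := F.exists_wv_ne_zero hχ
  have hi0 : i ≠ 0 := fun h => hi (by rw [h, wv, sub_self])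
  obtain ⟨o, ho⟩ := F.wv_orbit hi0
  refine ⟨o, fun h => hi ?_⟩
  rw [ho, ← coe_wz, h, Int.cast_zero]

/-- The rank is at most the number of members minus the number of orbits. -/
theorem blockRank_add_le : blockRank p F.B + Fintype.card F.Orb ≤ Nat.card F.B := by
  classical
  let I := {χ : IrrCharacter G // χ ∈ F.B}
  let L : (I → ℂ) →ₗ[ℂ] (G → ℂ) :=
    Fintype.linearCombination ℂ (fun χ : I => pRegularPart p (χ.1 : G → ℂ))
  have hrange : blockRank p F.B = Module.finrank ℂ (LinearMap.range L) := by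
    rw [blockRank, Fintype.range_linearCombination,
      show Set.range (fun χ : I => pRegularPart p (χ.1 : G → ℂ)) =
        (fun χ : IrrCharacter G => pRegularPart p (χ : G → ℂ)) '' F.B by
      rw [Set.image_eq_range]]
  let w : F.Orb → LinearMap.ker L := fun o => ⟨fun χ => F.wv (F.rep o) χ.1, by
    rw [LinearMap.mem_ker]
    funext g
    simp only [L, Fintype.linearCombination_apply, Finset.sum_apply, Pi.smul_apply, smul_eq_mul,
      Pi.zero_apply, pRegularPart, IsPRegular]
    by_cases hg : p ∣ orderOf g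
    · simp [hg]
    · simp only [hg, not_false_eq_true, if_true]
      rw [← F.sum_wv_regular (F.rep o) hg]
      refine Eq.trans (Finset.sum_subtype (p := fun χ => χ ∈ F.B) (Finset.univ.filter (· ∈ F.B))
        (fun χ => by simp) (fun χ : IrrCharacter G => F.wv (F.rep o) χ * (χ : G → ℂ) g)).symm ?_
      exact Finset.sum_subset (Finset.subset_univ _) fun χ _ hχ => by
        rw [F.wv_eq_zero (by simpa using hχ), zero_mul]⟩
  have hli : LinearIndependent ℂ w := by
    rw [Fintype.linearIndependent_iff]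
    intro c hc
    have hc' : ∀ χ : IrrCharacter G, ∑ o, c o * (F.wz (F.rep o) χ : ℂ) = 0 := by
      intro χ
      by_cases hχ : χ ∈ F.B
      · have h := congrArg (fun v : LinearMap.ker L => (v : I → ℂ) ⟨χ, hχ⟩) hc
        simp only [AddSubmonoidClass.coe_finsetSum, Submodule.coe_smul, Finset.sum_apply,
          Pi.smul_apply, smul_eq_mul, ZeroMemClass.coe_zero, Pi.zero_apply, w] at h
        simpa [coe_wz] using h
      · simp [F.wz_eq_zero hχ]
    have hrow : ∀ o', c o' + (F.e : ℂ) * ∑ o, c o = 0 := by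
      intro o'
      have h : ∑ χ : IrrCharacter G, (∑ o, c o * (F.wz (F.rep o) χ : ℂ)) * (F.wz (F.rep o') χ : ℂ) = 0 :=
        Finset.sum_eq_zero fun χ _ => by rw [hc', zero_mul]
      simp only [Finset.sum_mul] at h
      rw [Finset.sum_comm, Finset.sum_congr rfl (g := fun o => c o * ((F.e : ℂ) + if o = o' then 1 else 0))
        fun o _ => by
          rw [Finset.sum_congr rfl fun χ _ => mul_assoc _ _ _, ← Finset.mul_sum]
          congr 1
          have hg : (((∑ χ : IrrCharacter G, F.wz (F.rep o) χ * F.wz (F.rep o') χ : ℤ)) : ℂ) =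
              (((F.e : ℤ) + if o = o' then 1 else 0 : ℤ) : ℂ) := congrArg _ (F.gram o o')
          push_cast at hg
          rw [hg]] at h
      simp only [mul_add, Finset.sum_add_distrib, mul_ite, mul_one, mul_zero, Finset.sum_ite_eq',
        Finset.mem_univ, if_true, ← Finset.sum_mul] at h
      linear_combination h
    have hS : ∑ o, c o = 0 := by
      have h := Finset.sum_eq_zero (s := (Finset.univ : Finset F.Orb)) fun o _ => hrow o
      rw [Finset.sum_add_distrib, Finset.sum_const, Finset.card_univ, nsmul_eq_mul] at h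
      have h' : ((1 + Fintype.card F.Orb * F.e : ℕ) : ℂ) * ∑ o, c o = 0 := by
        push_cast
        linear_combination h
      exact (mul_eq_zero.mp h').resolve_left (Nat.cast_ne_zero.mpr (by omega))
    intro o
    have := hrow o
    rw [hS, mul_zero, add_zero] at this
    exact this
  have hker : Fintype.card F.Orb ≤ Module.finrank ℂ (LinearMap.ker L) := hli.fintype_card_le_finrank
  have hI := LinearMap.finrank_range_add_finrank_ker L
  rw [Module.finrank_fintype_fun_eq_card, ← Nat.card_eq_fintype_card] at hI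
  rw [hrange]
  change _ + _ = Nat.card F.B at hI
  omega

/-- The shape of the block. -/
structure Shape (F : Frame p M G) [Fintype (IrrCharacter (CQ F.Q))] where
  Y : F.Orb → IrrCharacter G
  δ : ℤ
  u : IrrCharacter G → ℤ
  X : Set (IrrCharacter G)
  Y_mem : ∀ o, Y o ∈ F.B
  Y_inj : Function.Injective Y
  δ_sq : δ = 1 ∨ δ = -1
  X_eq : ∀ χ, χ ∈ X ↔ χ ∈ F.B ∧ ∀ o, χ ≠ Y o
  u_X : ∀ χ ∈ X, u χ = 1 ∨ u χ = -1
  u_out : ∀ χ, χ ∉ X → u χ = 0
  wz_eq : ∀ o χ, F.wz (F.rep o) χ = u χ + δ * (if χ = Y o then 1 else 0)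
  card_X : Nat.card X = F.e
  rank : blockRank p F.B = F.e
  card_B : Nat.card F.B = F.e + Fintype.card F.Orb

theorem exists_shape : Nonempty F.Shape := by
  classical
  haveI := F.orb_nonempty
  let I := {χ : IrrCharacter G // χ ∈ F.B}
  have hrank := F.e_le_blockRank
  have hle := F.blockRank_add_le
  have hIc : Fintype.card I = Nat.card F.B := Nat.card_eq_fintype_card.symm
  have hsumI : ∀ f : IrrCharacter G → ℤ, (∀ χ, χ ∉ F.B → f χ = 0) →
      ∑ i : I, f i.1 = ∑ χ : IrrCharacter G, f χ := fun f hf => by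
    refine (Finset.sum_subtype (p := fun χ => χ ∈ F.B) (Finset.univ.filter (· ∈ F.B))
      (fun χ => by simp) f).symm.trans ?_
    exact Finset.sum_subset (Finset.subset_univ _) fun χ _ hχ => hf χ (by simpa using hχ)
  obtain ⟨Y, δ, u, hY, hδ, hu0, hu1, hv, hucard, hcard⟩ :=
    CyclicDefect.exists_shape (fun (o : F.Orb) (i : I) => F.wz (F.rep o) i.1) F.e
      (fun i => (charDegree (i.1 : G → ℂ) : ℤ))
      (fun i => by exact_mod_cast Nat.pos_of_ne_zero (charDegree_eq i.1).2)
      (fun o => by
        rw [hsumI (fun χ => F.wz (F.rep o) χ * (charDegree (χ : G → ℂ) : ℤ))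
          fun χ hχ => by rw [F.wz_eq_zero hχ, zero_mul]]
        have h := F.sum_wv_regular (F.rep o) (g := (1 : G))
          (by rw [orderOf_one]; exact F.prime.not_dvd_one)
        have h' : ((∑ χ : IrrCharacter G,
            F.wz (F.rep o) χ * (charDegree (χ : G → ℂ) : ℤ) : ℤ) : ℂ) = 0 := by
          push_cast
          rw [← h]
          exact Finset.sum_congr rfl fun χ _ => by rw [coe_wz, (charDegree_eq χ).1]
        exact_mod_cast h')
      (fun o o' => by
        rw [hsumI (fun χ => F.wz (F.rep o) χ * F.wz (F.rep o') χ)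
          fun χ hχ => by rw [F.wz_eq_zero hχ, zero_mul]]
        exact F.gram o o')
      (fun i => F.exists_wz_ne_zero i.2) (by omega)
  let X : Set (IrrCharacter G) := {χ | χ ∈ F.B ∧ ∀ o, χ ≠ (Y o).1}
  let u' : IrrCharacter G → ℤ := fun χ => if h : χ ∈ F.B then u ⟨χ, h⟩ else 0
  have hu'X : ∀ χ, χ ∉ X → u' χ = 0 := by
    intro χ hχ
    simp only [u']
    split_ifs with h
    · obtain ⟨o, ho⟩ : ∃ o, χ = (Y o).1 := by
        by_contra hno
        push Not at hno
        exact hχ ⟨h, hno⟩
      rw [show (⟨χ, h⟩ : I) = Y o from Subtype.ext ho, hu0]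
    · rfl
  refine ⟨{
    Y := fun o => (Y o).1, δ := δ, u := u', X := X,
    Y_mem := fun o => (Y o).2, Y_inj := fun a b h => hY (Subtype.ext h), δ_sq := hδ,
    X_eq := fun χ => Iff.rfl, u_X := ?_, u_out := hu'X, wz_eq := ?_, card_X := ?_, rank := ?_,
    card_B := ?_ }⟩
  · rintro χ ⟨h, hne⟩
    simp only [u', dif_pos h]
    exact hu1 ⟨χ, h⟩ fun o ho => hne o (congrArg Subtype.val ho)
  · intro o χ
    by_cases h : χ ∈ F.B
    · refine (hv o ⟨χ, h⟩).trans ?_
      simp only [u', dif_pos h]
      by_cases hc : χ = (Y o).1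
      · rw [if_pos hc, if_pos (Subtype.ext hc)]
      · rw [if_neg hc, if_neg fun e => hc (congrArg Subtype.val e)]
    · rw [F.wz_eq_zero h, hu'X χ (fun hX => h hX.1), if_neg (fun e => h (by rw [e]; exact (Y o).2))]
      ring
  · rw [← hucard, ← Fintype.card_subtype, ← Nat.card_eq_fintype_card]
    symm
    refine Nat.card_congr
      { toFun := fun i => ⟨i.1.1, i.1.2, fun o ho => i.2 ?_⟩
        invFun := fun χ => ⟨⟨χ.1, χ.2.1⟩, ?_⟩
        left_inv := ?_
        right_inv := ?_ }
    · rw [show i.1 = Y o from Subtype.ext ho, hu0]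
    · rcases hu1 ⟨χ.1, χ.2.1⟩ (fun o ho => χ.2.2 o (congrArg Subtype.val ho)) with h | h <;>
        rw [h] <;> norm_num
    · intro i; rfl
    · intro χ; rfl
  · omega
  · omega

end Frame

end CfsgLib.Block.CyclicDefect
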