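import Cfsg.Agent.Lib.Block.CyclicDefect.Main
import Cfsg.Agent.Lib.Block.RegularIndicator

/-!
# Relations and degrees in a block with cyclic defect group
-/

open Finset
open scoped ComplexConjugate

set_option autoImplicit false
set_option linter.unusedSectionVars false

namespace CfsgLib.Block.CyclicDefect

open Cfsg CfsgLib.Block

universe u

variable {p : ℕ} {G : Type u} [Group G] [Fintype G] [DecidableEq G] [Fintype (IrrCharacter G)]

/-- A local integer combination of characters which vanishes off the regular elements, divided by the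
order of a `p`-group centralising a regular element, is still integral there. -/
theorem exists_integral_of_vanish (hp : p.Prime) (a : IrrCharacter G → ℂ)
    (ha : ∀ g : G, p ∣ orderOf g → ∑ χ, a χ * (χ : G → ℂ) g = 0) {s : G} (hs : ¬ p ∣ orderOf s)
    (R : Subgroup G) (hR : IsPGroup p R) (hC : ∀ q ∈ R, Commute s q) :
    ∃ z : IrrCharacter G → ℂ, (∀ χ, IsIntegral ℤ (z χ)) ∧
      ∑ χ, a χ * (χ : G → ℂ) s = (Nat.card R : ℂ) * ∑ χ, a χ * z χ := by
  classical
  haveI : Fintype R := Fintype.ofFinite R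
  refine ⟨fun χ => (Nat.card R : ℂ)⁻¹ * ∑ q : R, (χ : G → ℂ) (s * q),
    fun χ => isIntegral_avg_coset (Char.isCharacter_irr χ) s R hC, ?_⟩
  have h1 : ∀ q : R, q ≠ 1 → p ∣ orderOf (s * (q : G)) := by
    intro q hq
    have : Fact p.Prime := ⟨hp⟩
    obtain ⟨k, hk⟩ := (IsPGroup.iff_orderOf.mp hR) q
    have hcop : (orderOf s).Coprime (orderOf (q : G)) := by
      rw [Subgroup.orderOf_coe, hk]
      exact (hp.coprime_iff_not_dvd.mpr hs).symm.pow_right k
    rw [(hC q q.2).orderOf_mul_eq_mul_orderOf_of_coprime hcop, Subgroup.orderOf_coe, hk]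
    rcases Nat.eq_zero_or_pos k with rfl | h
    · exact absurd (orderOf_eq_one_iff.mp (hk.trans (pow_zero p))) hq
    · exact dvd_mul_of_dvd_right (dvd_pow_self p h.ne') _
  have hsum : ∑ q : R, ∑ χ, a χ * (χ : G → ℂ) (s * q) = ∑ χ, a χ * (χ : G → ℂ) s := by
    rw [Finset.sum_eq_single (1 : R) (fun q _ hq => ha _ (h1 q hq))
      (fun h => absurd (Finset.mem_univ _) h)]
    simp
  rw [← hsum, Finset.sum_comm, Finset.mul_sum]
  refine Finset.sum_congr rfl fun χ _ => ?_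
  rw [← Finset.mul_sum, ← mul_left_comm, mul_inv_cancel_left₀ (Nat.cast_ne_zero.mpr Nat.card_pos.ne')]

theorem dvd_degree_of_vanish (hp : p.Prime) (a : IrrCharacter G → ℤ)
    (ha : ∀ g : G, p ∣ orderOf g → ∑ χ, (a χ : ℂ) * (χ : G → ℂ) g = 0) :
    (p : ℤ) ^ (Nat.card G).factorization p ∣ ∑ χ, a χ * (charDegree (χ : G → ℂ) : ℤ) := by
  classical
  have : Fact p.Prime := ⟨hp⟩
  let P₀ : Sylow p G := default
  obtain ⟨z, hz, he⟩ := exists_integral_of_vanish hp (fun χ => (a χ : ℂ)) ha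
    (s := (1 : G)) (by rw [orderOf_one]; exact hp.not_dvd_one) (P₀ : Subgroup G) P₀.2
    (fun q _ => Commute.one_left q)
  have hI : IsIntegral ℤ (∑ χ, (a χ : ℂ) * z χ) :=
    IsIntegral.sum _ fun χ _ => (isIntegral_algebraMap (x := a χ)).mul (hz χ)
  rw [P₀.card_eq_multiplicity, Finset.sum_congr rfl (g := fun χ =>
    (((a χ * (charDegree (χ : G → ℂ) : ℤ) : ℤ)) : ℂ)) fun χ _ => by
      rw [(charDegree_eq χ).1]; push_cast; rfl, ← Int.cast_sum, Nat.cast_pow] at he
  set d := ∑ χ, a χ * (charDegree (χ : G → ℂ) : ℤ)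
  set N := (Nat.card G).factorization p
  have hp0 : ((p : ℂ) ^ N) ≠ 0 := pow_ne_zero _ (Nat.cast_ne_zero.mpr hp.ne_zero)
  have hq : ∑ χ, (a χ : ℂ) * z χ = algebraMap ℚ ℂ ((d : ℚ) / (p : ℚ) ^ N) := by
    rw [map_div₀, map_pow, map_natCast, map_intCast, eq_div_iff hp0, he, mul_comm]
  rw [hq, isIntegral_algebraMap_iff (algebraMap ℚ ℂ).injective,
    IsIntegrallyClosed.isIntegral_iff] at hI
  obtain ⟨k, hk⟩ := hI
  rw [eq_intCast, eq_div_iff (pow_ne_zero _ (Nat.cast_ne_zero.mpr hp.ne_zero))] at hk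
  exact ⟨k, by rw [mul_comm]; exact_mod_cast hk.symm⟩

/-- Integers congruent modulo a power of `p` that bounds both exponents have the same exponent. -/
theorem val_eq_of_dvd (hp : p.Prime) {N : ℕ} {x y : ℕ} (hx : x ≠ 0) (hy : y ≠ 0)
    (hxN : x.factorization p ≤ N) (hyN : y.factorization p ≤ N) {c d : ℤ} (hc : ¬ (p : ℤ) ∣ c)
    (hd : ¬ (p : ℤ) ∣ d) (h : (p : ℤ) ^ N ∣ c * x - d * y) :
    x.factorization p = y.factorization p := by
  have hpp : Prime (p : ℤ) := Nat.prime_iff_prime_int.mp hp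
  by_contra hne
  rcases Nat.lt_or_gt_of_ne hne with hlt | hlt
  · have hy' : (p : ℤ) ^ (x.factorization p + 1) ∣ d * y := Dvd.dvd.mul_left
      (by exact_mod_cast (pow_dvd_pow p hlt).trans (Nat.ordProj_dvd y p)) _
    have h1 : (p : ℤ) ^ (x.factorization p + 1) ∣ c * x := by
      have := (pow_dvd_pow (p : ℤ) (show x.factorization p + 1 ≤ N by omega)).trans h
      simpa using dvd_add this hy'
    have h2 := hpp.pow_dvd_of_dvd_mul_left _ hc h1
    exact Nat.pow_succ_factorization_not_dvd hx hp (by exact_mod_cast h2)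
  · have hx' : (p : ℤ) ^ (y.factorization p + 1) ∣ c * x := Dvd.dvd.mul_left
      (by exact_mod_cast (pow_dvd_pow p hlt).trans (Nat.ordProj_dvd x p)) _
    have h1 : (p : ℤ) ^ (y.factorization p + 1) ∣ d * y := by
      have := (pow_dvd_pow (p : ℤ) (show y.factorization p + 1 ≤ N by omega)).trans h
      simpa using dvd_sub hx' this
    have h2 := hpp.pow_dvd_of_dvd_mul_left _ hd h1
    exact Nat.pow_succ_factorization_not_dvd hy hp (by exact_mod_cast h2)

namespace Frame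

variable {M : Ideal AlgInt} [M.IsMaximal] {F : Frame p M G} [Fintype (IrrCharacter (CQ F.Q))]
  (S : F.Shape)

theorem Shape.sum_wv_eq_zero (a : IrrCharacter G → ℂ)
    (ha : ∀ o, ∑ χ, a χ * (S.u χ : ℂ) + (S.δ : ℂ) * a (S.Y o) = 0)
    (i : ZMod (Nat.card F.P)) : ∑ χ, a χ * F.wv i χ = 0 := by
  classical
  rcases eq_or_ne i 0 with rfl | hi
  · simp [wv]
  obtain ⟨o, ho⟩ := F.wv_orbit hi
  rw [Finset.sum_congr rfl (g := fun χ => a χ * (S.u χ : ℂ) +
    (S.δ : ℂ) * if χ = S.Y o then a χ else 0) fun χ _ => by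
      rw [ho, ← F.coe_wz, S.wz_eq]
      by_cases hc : χ = S.Y o <;> simp [hc] <;> ring,
    Finset.sum_add_distrib, ← Finset.mul_sum, Finset.sum_ite_eq', if_pos (Finset.mem_univ _)]
  exact ha o

theorem Shape.u_Y (o : F.Orb) : S.u (S.Y o) = 0 :=
  S.u_out _ fun h => ((S.X_eq _).mp h).2 o rfl

theorem Shape.X_sub {χ : IrrCharacter G} (h : χ ∈ S.X) : χ ∈ F.B := ((S.X_eq χ).mp h).1

theorem Shape.δ_cast_sq : (S.δ : ℂ) * S.δ = 1 := by
  rcases S.δ_sq with h | h <;> simp [h]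

theorem Shape.u_cast_sq {χ : IrrCharacter G} (h : χ ∈ S.X) : (S.u χ : ℂ) * S.u χ = 1 := by
  rcases S.u_X χ h with h | h <;> simp [h]

theorem Shape.not_dvd_u {χ : IrrCharacter G} (h : χ ∈ S.X) : ¬ (p : ℤ) ∣ S.u χ := by
  rcases S.u_X χ h with h | h <;> simp only [h, dvd_neg] <;>
    exact fun h' => F.prime.not_dvd_one (by exact_mod_cast h')

/-- The relation on the regular elements. -/
theorem Shape.relation (o : F.Orb) {g : G} (hg : ¬ p ∣ orderOf g) :
    (S.δ : ℂ) * (S.Y o : G → ℂ) g + ∑ χ, (S.u χ : ℂ) * (χ : G → ℂ) g = 0 := by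
  classical
  refine Eq.trans ?_ (F.sum_wv_regular (F.rep o) hg)
  rw [Finset.sum_congr rfl (g := fun χ => F.wv (F.rep o) χ * (χ : G → ℂ) g) (fun χ _ => rfl)]
  simp only [← F.coe_wz, S.wz_eq]
  push_cast
  simp only [add_mul, mul_ite, mul_one, mul_zero, ite_mul, zero_mul, Finset.sum_add_distrib,
    Finset.sum_ite_eq', Finset.mem_univ, if_true]
  ring

theorem Shape.Y_regular (o o' : F.Orb) {g : G} (hg : ¬ p ∣ orderOf g) :
    (S.Y o : G → ℂ) g = (S.Y o' : G → ℂ) g := by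
  have h : (S.δ : ℂ) * (S.Y o : G → ℂ) g = S.δ * (S.Y o' : G → ℂ) g :=
    add_right_cancel ((S.relation o hg).trans (S.relation o' hg).symm)
  exact mul_left_cancel₀ (fun h0 : (S.δ : ℂ) = 0 => by simpa [h0] using S.δ_cast_sq) h

theorem Shape.congr_X {χ χ' : IrrCharacter G} (hχ : χ ∈ S.X) (hχ' : χ' ∈ S.X) :
    (p : ℤ) ^ (Nat.card G).factorization p ∣
      S.u χ * (charDegree (χ : G → ℂ) : ℤ) - S.u χ' * (charDegree (χ' : G → ℂ) : ℤ) := by
  classical
  let a : IrrCharacter G → ℤ := fun ψ =>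
    (if ψ = χ then S.u χ else 0) - (if ψ = χ' then S.u χ' else 0)
  have h := dvd_degree_of_vanish F.prime a fun g hg => by
    refine F.vanish_singular (fun ψ => (a ψ : ℂ)) (fun ψ hψ => ?_) ?_ hg
    · simp only [a]
      rw [if_neg (fun e : ψ = χ => hψ (by rw [e]; exact S.X_sub hχ)),
        if_neg (fun e : ψ = χ' => hψ (by rw [e]; exact S.X_sub hχ'))]
      simp
    · refine S.sum_wv_eq_zero _ fun o => ?_
      have h1 : S.Y o ≠ χ := fun e => ((S.X_eq χ).mp hχ).2 o e.symm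
      have h2 : S.Y o ≠ χ' := fun e => ((S.X_eq χ').mp hχ').2 o e.symm
      simp only [a, Int.cast_sub, Int.cast_ite, Int.cast_zero, sub_mul, ite_mul, zero_mul,
        Finset.sum_sub_distrib, Finset.sum_ite_eq', Finset.mem_univ, if_true, h1, h2, if_false,
        S.u_cast_sq hχ, S.u_cast_sq hχ']
      ring
  simpa only [a, sub_mul, ite_mul, zero_mul, Finset.sum_sub_distrib, Finset.sum_ite_eq',
    Finset.mem_univ, if_true] using h

theorem Shape.degree_Y (o o' : F.Orb) :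
    charDegree (S.Y o : G → ℂ) = charDegree (S.Y o' : G → ℂ) := by
  simp only [charDegree, S.Y_regular o o' (g := (1 : G))
    (by rw [orderOf_one]; exact F.prime.not_dvd_one)]

theorem Shape.congr_Y {χ : IrrCharacter G} (hχ : χ ∈ S.X) (o : F.Orb) :
    (p : ℤ) ^ (Nat.card G).factorization p ∣ (charDegree (S.Y o : G → ℂ) : ℤ) +
      (F.e : ℤ) * S.δ * S.u χ * (charDegree (χ : G → ℂ) : ℤ) := by
  classical
  have h1 : S.δ * (charDegree (S.Y o : G → ℂ) : ℤ) +
      ∑ ψ, S.u ψ * (charDegree (ψ : G → ℂ) : ℤ) = 0 := by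
    have h := S.relation o (g := (1 : G)) (by rw [orderOf_one]; exact F.prime.not_dvd_one)
    simp only [(charDegree_eq _).1] at h
    exact_mod_cast h
  have hsum : (∑ ψ, S.u ψ * (charDegree (ψ : G → ℂ) : ℤ)) =
      ∑ ψ ∈ Finset.univ.filter (· ∈ S.X), S.u ψ * (charDegree (ψ : G → ℂ) : ℤ) :=
    (Finset.sum_subset (Finset.subset_univ _) fun ψ _ hψ => by
      rw [S.u_out ψ (by simpa using hψ), zero_mul]).symm
  have hcard : (Finset.univ.filter (· ∈ S.X)).card = F.e := by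
    rw [← S.card_X, Nat.card_eq_fintype_card, Fintype.card_subtype]
  have h2 : (p : ℤ) ^ (Nat.card G).factorization p ∣
      (∑ ψ, S.u ψ * (charDegree (ψ : G → ℂ) : ℤ)) -
        (F.e : ℤ) * (S.u χ * (charDegree (χ : G → ℂ) : ℤ)) := by
    rw [hsum, show (F.e : ℤ) * (S.u χ * (charDegree (χ : G → ℂ) : ℤ)) =
      ∑ _ψ ∈ Finset.univ.filter (· ∈ S.X), S.u χ * (charDegree (χ : G → ℂ) : ℤ) by
      rw [Finset.sum_const, hcard, nsmul_eq_mul], ← Finset.sum_sub_distrib]
    exact Finset.dvd_sum fun ψ hψ => S.congr_X (by simpa using hψ) hχ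
  have h3 : S.δ * S.δ = 1 := by rcases S.δ_sq with h | h <;> simp [h]
  rw [show (charDegree (S.Y o : G → ℂ) : ℤ) +
      (F.e : ℤ) * S.δ * S.u χ * (charDegree (χ : G → ℂ) : ℤ) = -S.δ *
      ((∑ ψ, S.u ψ * (charDegree (ψ : G → ℂ) : ℤ)) -
        (F.e : ℤ) * (S.u χ * (charDegree (χ : G → ℂ) : ℤ))) by
    linear_combination (S.δ * 1) * h1 - (charDegree (S.Y o : G → ℂ) : ℤ) * h3]
  exact h2.mul_left _

include S in
/-- The degrees of the block have one exponent. -/
theorem Shape.degVal_eq {ψ χ : IrrCharacter G} (hψ : ψ ∈ F.B) (hχ : χ ∈ S.X) :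
    (charDegree (ψ : G → ℂ)).factorization p = (charDegree (χ : G → ℂ)).factorization p := by
  have hle := fun θ : IrrCharacter G => degVal_le_card (p := p) θ
  by_cases h : ∃ o, ψ = S.Y o
  · obtain ⟨o, rfl⟩ := h
    refine val_eq_of_dvd F.prime (charDegree_eq _).2 (charDegree_eq _).2 (hle _) (hle _)
      (c := 1) (d := -((F.e : ℤ) * S.δ * S.u χ))
      (fun h => F.prime.not_dvd_one (by exact_mod_cast h)) (fun h => ?_) ?_
    · have hpp : Prime (p : ℤ) := Nat.prime_iff_prime_int.mp F.prime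
      rcases hpp.dvd_mul.mp (dvd_neg.mp h) with h | h
      · rcases hpp.dvd_mul.mp h with h | h
        · exact F.not_dvd_e (by exact_mod_cast h)
        · rcases S.δ_sq with hd | hd <;> rw [hd] at h <;>
            exact F.prime.not_dvd_one (by simpa [← Int.natCast_dvd_natCast] using h)
      · exact S.not_dvd_u hχ h
    · simpa [one_mul, neg_mul, sub_neg_eq_add] using S.congr_Y hχ o
  · push Not at h
    exact val_eq_of_dvd F.prime (charDegree_eq _).2 (charDegree_eq _).2 (hle _) (hle _)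
      (S.not_dvd_u ((S.X_eq ψ).mpr ⟨hψ, h⟩)) (S.not_dvd_u hχ)
      (S.congr_X ((S.X_eq ψ).mpr ⟨hψ, h⟩) hχ)

theorem Shape.X_nonempty : S.X.Nonempty := by
  by_contra h
  have h0 := S.card_X
  rw [Set.not_nonempty_iff_eq_empty.mp h, Nat.card_eq_zero.mpr (Or.inl inferInstance)] at h0
  exact F.e_pos.ne h0

include S in
theorem Shape.height_zero {χ : IrrCharacter G} (hχ : χ ∈ F.B) :
    blockHeight p F.B (χ : G → ℂ) = 0 := by
  refine (forall_degVal_le_iff hχ).mp fun θ hθ => ?_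
  obtain ⟨χ₀, h₀⟩ := S.X_nonempty
  exact ((S.degVal_eq hχ h₀).trans (S.degVal_eq hθ h₀).symm).le

end Frame

end CfsgLib.Block.CyclicDefect
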