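import Cfsg.Agent.Lib.Block.CyclicDefect.Expansion
import Cfsg.Agent.Lib.Block.CyclicDefect.Relations

/-!
# Perfect isometries between blocks with cyclic defect groups

`Frame.isPerfectIsometry_of_wv`: a signed bijection which matches the vectors of two frames is
perfect.
-/

open Finset
open scoped ComplexConjugate

set_option autoImplicit false
set_option linter.unusedSectionVars false

namespace CfsgLib.Block.CyclicDefect

open Cfsg CfsgLib.Block

universe u v

/-- The additive character does not see an equality of moduli. -/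
theorem zchar_ringEquivCongr {n m : ℕ} [NeZero n] [NeZero m] (h : n = m) (x : ZMod n) :
    zchar m (ZMod.ringEquivCongr h x) = zchar n x := by
  subst h
  rw [ZMod.ringEquivCongr_refl_apply]

variable {p : ℕ} {M : Ideal AlgInt} [M.IsMaximal]

section

variable {G : Type u} [Group G] [Fintype G] [DecidableEq G] [Fintype (IrrCharacter G)]

/-- A combination vanishing on the singular elements, over a centralizer. -/
theorem regular_div_mem (hM : IsPModular p M) (a : IrrCharacter G → ℂ) (haL : ∀ χ, a χ ∈ locRing M)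
    (ha : ∀ g : G, p ∣ orderOf g → ∑ χ, a χ * (χ : G → ℂ) g = 0) {s : G} (hs : ¬ p ∣ orderOf s) :
    (∑ χ, a χ * (χ : G → ℂ) s) / (Nat.card (Subgroup.centralizer ({s} : Set G)) : ℂ) ∈ locRing M := by
  classical
  have : Fact p.Prime := ⟨hM.1⟩
  set C := Subgroup.centralizer ({s} : Set G) with hC
  let S : Sylow p C := default
  have hQC : ∀ q ∈ (S : Subgroup C).map C.subtype, Commute s q := by
    rintro q ⟨c, -, rfl⟩
    exact (Subgroup.mem_centralizer_singleton_iff.mp c.2).symm
  obtain ⟨z, hz, he⟩ := exists_integral_of_vanish hM.1 a ha hs _ (S.2.map C.subtype) hQC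
  rw [Subgroup.card_map_of_injective C.subtype_injective] at he
  have hcard : (Nat.card C : ℂ) = (Nat.card (S : Subgroup C) : ℂ) * ((S : Subgroup C).index : ℂ) := by
    exact_mod_cast (Subgroup.card_mul_index _).symm
  have hS : (Nat.card (S : Subgroup C) : ℂ) ≠ 0 := Nat.cast_ne_zero.mpr Nat.card_pos.ne'
  rw [he, hcard, mul_div_mul_left _ _ hS, div_eq_mul_inv]
  exact mul_mem (sum_mem fun χ _ => mul_mem (haL χ) (integral_mem M (hz χ)))
    (inv_natCast_mem hM S.not_dvd_index)

namespace Frame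

variable (F : Frame p M G) [Fintype (IrrCharacter (CQ F.Q))]

theorem conj_wv (i : ZMod (Nat.card F.P)) (χ : IrrCharacter G) : conj (F.wv i χ) = F.wv i χ := by
  rw [← coe_wz, map_intCast]

/-- The transform of the products of the vectors. -/
theorem gram_transform {j k : ZMod (Nat.card F.P)} (hj : j ≠ 0) (hk : k ≠ 0) :
    ∃ N : ℕ, ∑ i, (∑ l, (∑ χ, F.wv i χ * F.wv l χ) * zchar (Nat.card F.P) (l * k)) *
      zchar (Nat.card F.P) (i * j) = (Nat.card F.P : ℂ) * N := by
  classical
  refine ⟨((Finset.range F.e).filter fun t => k + F.r ^ t * j = 0).card, ?_⟩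
  set ζ := zchar (Nat.card F.P) with hζ
  have hg : ∀ i l, ∑ χ, F.wv i χ * F.wv l χ =
      ∑ t ∈ Finset.range F.e, ((if i = F.r ^ t * l then (1 : ℂ) else 0) - (if i = 0 then 1 else 0) -
        (if (0 : ZMod (Nat.card F.P)) = F.r ^ t * l then 1 else 0) + 1) := fun i l => by
    rw [Finset.sum_congr rfl fun t _ => (F.classInner_phi i (F.r ^ t * l)).symm, ← F.sum_wv_mul]
    exact Finset.sum_congr rfl fun χ _ => by rw [F.conj_wv]
  have hswap : ∀ i, (∑ l, (∑ χ, F.wv i χ * F.wv l χ) * ζ (l * k)) * ζ (i * j) =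
      ∑ l, ζ (l * k) * ((∑ χ, F.wv i χ * F.wv l χ) * ζ (i * j)) := fun i => by
    rw [Finset.sum_mul]; exact Finset.sum_congr rfl fun l _ => by ring
  rw [Finset.sum_congr rfl fun i _ => hswap i, Finset.sum_comm]
  have hin : ∀ l, ∑ i, ζ (l * k) * ((∑ χ, F.wv i χ * F.wv l χ) * ζ (i * j)) =
      ∑ t ∈ Finset.range F.e, (ζ (l * (k + F.r ^ t * j)) - ζ (l * k)) := fun l => by
    rw [← Finset.mul_sum]
    simp only [hg, Finset.sum_mul]
    rw [Finset.sum_comm, Finset.mul_sum]
    refine Finset.sum_congr rfl fun t _ => ?_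
    have h0 : ∑ i, ζ (i * j) = 0 := by rw [hζ, zchar_sum, if_neg hj]
    simp only [add_mul, sub_mul, ite_mul, one_mul, zero_mul, Finset.sum_add_distrib,
      Finset.sum_sub_distrib, Finset.sum_ite_eq', Finset.mem_univ, if_true, h0, add_zero]
    split_ifs with h
    · rw [h0, AddChar.map_zero_eq_one, sub_zero,
        show l * (k + F.r ^ t * j) = l * k + F.r ^ t * l * j by ring, AddChar.map_add_eq_mul]
      ring
    · rw [Finset.sum_const_zero, AddChar.map_zero_eq_one, sub_zero,
        show l * (k + F.r ^ t * j) = l * k + F.r ^ t * l * j by ring, AddChar.map_add_eq_mul]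
      ring
  rw [Finset.sum_congr rfl fun l _ => hin l, Finset.sum_comm]
  simp only [Finset.sum_sub_distrib, hζ, zchar_sum, if_neg hk, Finset.sum_const_zero, sub_zero,
    ← Finset.sum_filter, Finset.sum_const, nsmul_eq_mul]
  ring

end Frame

end

namespace Frame

variable {G : Type u} [Group G] [Fintype G] [DecidableEq G] [Fintype (IrrCharacter G)]
variable {H : Type v} [Group H] [Fintype H] [DecidableEq H] [Fintype (IrrCharacter H)]

open scoped Classical in
theorem isPerfectIsometry_of_wv (F : Frame p M G) [Fintype (IrrCharacter (CQ F.Q))]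
    (F' : Frame p M H) [Fintype (IrrCharacter (CQ F'.Q))]
    (hn : Nat.card F'.P = Nat.card F.P) (I : IrrCharacter H → IrrCharacter G)
    (ε : IrrCharacter H → ℤ) (hI : Set.BijOn I F'.B F.B) (hε : ∀ η ∈ F'.B, ε η = 1 ∨ ε η = -1)
    (hwv : ∀ η ∈ F'.B, ∀ i, (ε η : ℂ) * F.wv (ZMod.ringEquivCongr hn i) (I η) = F'.wv i η) :
    IsPerfectIsometry p M F'.B F.B I ε := by
  refine ⟨hI, hε, fun x y => ?_⟩
  set κ := ZMod.ringEquivCongr hn with hκ
  set T := Finset.univ.filter (· ∈ F'.B) with hT
  have hmem : ∀ η, η ∈ T ↔ η ∈ F'.B := fun η => by simp [T]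
  set μ := signedBijectionKernel F'.B I ε x y with hμdef
  have hμ : μ = ∑ η ∈ T, (ε η : ℂ) * (I η : G → ℂ) x * (η : H → ℂ) y := by
    rw [hμdef, signedBijectionKernel, finsum_mem_eq_toFinset_sum]
    exact Finset.sum_congr (by ext; simp [T]) fun _ _ => rfl
  let a : IrrCharacter G → ℂ := fun χ =>
    ∑ η ∈ T, if I η = χ then (ε η : ℂ) * (η : H → ℂ) y else 0
  let b : IrrCharacter H → ℂ := fun η => if η ∈ F'.B then (ε η : ℂ) * (I η : G → ℂ) x else 0
  have hpush : ∀ f : IrrCharacter G → ℂ,
      ∑ χ, a χ * f χ = ∑ η ∈ T, (ε η : ℂ) * (η : H → ℂ) y * f (I η) := fun f => by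
    simp only [a, Finset.sum_mul, ite_mul, zero_mul]
    rw [Finset.sum_comm]
    exact Finset.sum_congr rfl fun η _ => by rw [Finset.sum_ite_eq, if_pos (Finset.mem_univ _)]
  have hμa : μ = ∑ χ, a χ * (χ : G → ℂ) x := by
    rw [hpush, hμ]; exact Finset.sum_congr rfl fun η _ => by ring
  have hμb : μ = ∑ η, b η * (η : H → ℂ) y := by
    simp only [b, ite_mul, zero_mul, ← Finset.sum_filter]
    exact hμ
  have haB : ∀ χ, χ ∉ F.B → a χ = 0 := fun χ hχ => Finset.sum_eq_zero fun η hη =>
    if_neg fun e : I η = χ => hχ (by rw [← e]; exact hI.mapsTo ((hmem η).mp hη))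
  have hbB : ∀ η, η ∉ F'.B → b η = 0 := fun η hη => if_neg hη
  have hεint : ∀ η, IsIntegral ℤ (ε η : ℂ) := fun η => isIntegral_algebraMap (x := ε η)
  have haL : ∀ χ, a χ ∈ locRing M := fun χ => sum_mem fun η _ => by
    split_ifs
    · exact integral_mem M ((hεint η).mul (Char.isCharacter_isIntegral (Char.isCharacter_irr η) y))
    · exact zero_mem _
  have hbL : ∀ η, b η ∈ locRing M := fun η => by
    simp only [b]
    split_ifs
    · exact integral_mem M ((hεint η).mul (Char.isCharacter_isIntegral (Char.isCharacter_irr (I η)) x))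
    · exact zero_mem _
  have hW' : ∀ i, ∑ χ, a χ * F.wv (κ i) χ = ∑ η, F'.wv i η * (η : H → ℂ) y := fun i => by
    rw [hpush, ← Finset.sum_subset (Finset.subset_univ T) fun η _ hη => by
      rw [F'.wv_eq_zero (fun h => hη ((hmem η).mpr h)), zero_mul]]
    exact Finset.sum_congr rfl fun η hη => by rw [← hwv η ((hmem η).mp hη) i]; ring
  have hW : ∀ i, ∑ η, b η * F'.wv i η = ∑ χ, F.wv (κ i) χ * (χ : G → ℂ) x := fun i => by
    simp only [b, ite_mul, zero_mul, ← Finset.sum_filter]
    have himg : T.image I = Finset.univ.filter (· ∈ F.B) := by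
      ext χ
      simp only [Finset.mem_image, Finset.mem_filter, Finset.mem_univ, true_and, hmem]
      exact ⟨fun ⟨η, hη, e⟩ => e ▸ hI.mapsTo hη, fun h => hI.surjOn h⟩
    refine Eq.trans ?_ (Finset.sum_subset (Finset.subset_univ (T.image I)) fun χ _ hχ => ?_)
    · rw [Finset.sum_image fun η hη η' hη' e => hI.injOn ((hmem η).mp hη) ((hmem η').mp hη') e]
      refine Finset.sum_congr rfl fun η hη => ?_
      have h1 : (ε η : ℂ) * (ε η : ℂ) = 1 := by
        rcases hε η ((hmem η).mp hη) with h | h <;> simp [h]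
      rw [← hwv η ((hmem η).mp hη) i]
      linear_combination (F.wv (κ i) (I η) * (I η : G → ℂ) x) * h1
    · rw [himg, Finset.mem_filter] at hχ
      rw [F.wv_eq_zero (fun h => hχ ⟨Finset.mem_univ _, h⟩), zero_mul]
  have hvan : ¬ p ∣ orderOf y → ∀ g : G, p ∣ orderOf g → ∑ χ, a χ * (χ : G → ℂ) g = 0 := by
    intro hy g hg
    refine F.vanish_singular a haB (fun i => ?_) hg
    rw [← κ.apply_symm_apply i, hW' (κ.symm i)]
    exact F'.sum_wv_regular _ hy
  have hvan' : ¬ p ∣ orderOf x → ∀ h : H, p ∣ orderOf h → ∑ η, b η * (η : H → ℂ) h = 0 := by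
    intro hx h hh
    exact F'.vanish_singular b hbB (fun i => (hW i).trans (F.sum_wv_regular _ hx)) hh
  by_cases hx : p ∣ orderOf x <;> by_cases hy : p ∣ orderOf y
  · -- both singular
    obtain ⟨c, hc0, hcL, hcD, hc⟩ := F.singular_expand hx
    obtain ⟨d, hd0, hdL, hdD, hd⟩ := F'.singular_expand hy
    have hterm : ∀ j k, ∃ N : ℕ, c j * d k * ∑ i, (∑ l, (∑ η, F'.wv i η * F'.wv l η) *
        zchar (Nat.card F'.P) (l * k)) * zchar (Nat.card F'.P) (i * κ.symm j) =
          c j * d k * ((Nat.card F.P : ℂ) * N) := by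
      intro j k
      by_cases hj : j = 0
      · exact ⟨0, by rw [hj, hc0, zero_mul, zero_mul, zero_mul]⟩
      by_cases hk : k = 0
      · exact ⟨0, by rw [hk, hd0, mul_zero, zero_mul, zero_mul]⟩
      obtain ⟨N, hN⟩ := F'.gram_transform (j := κ.symm j) (k := k)
        (fun h => hj (by rw [← κ.apply_symm_apply j, h, map_zero])) hk
      exact ⟨N, by rw [hN, hn]⟩
    choose N hN using hterm
    have hsum : μ = ∑ j, ∑ k, c j * d k * ((Nat.card F.P : ℂ) * N j k) := by
      simp only [← hN]
      rw [hμa, hc a haB]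
      refine Finset.sum_congr rfl fun j _ => ?_
      rw [← κ.toEquiv.sum_comp]
      simp only [RingEquiv.toEquiv_eq_coe, RingEquiv.coe_toEquiv, hW']
      rw [Finset.mul_sum, Finset.sum_congr rfl (g := fun i => ∑ k, c j * d k *
        ((∑ l, (∑ η, F'.wv i η * F'.wv l η) * zchar (Nat.card F'.P) (l * k)) *
          zchar (Nat.card F'.P) (i * κ.symm j))) fun i _ => ?_, Finset.sum_comm]
      · exact Finset.sum_congr rfl fun k _ => by rw [Finset.mul_sum]
      · rw [hd (fun η => F'.wv i η) (fun η hη => F'.wv_eq_zero hη i)]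
        have hz : zchar (Nat.card F.P) (κ i * j) = zchar (Nat.card F'.P) (i * κ.symm j) := by
          rw [← zchar_ringEquivCongr hn (i * κ.symm j), ← hκ, map_mul κ, κ.apply_symm_apply]
        rw [hz, Finset.sum_mul, Finset.mul_sum]
        exact Finset.sum_congr rfl fun k _ => by ring
    refine ⟨?_, ?_, Or.inl (iff_of_false (fun h => h hx) (fun h => h hy))⟩
    · rw [← mem_locRing_iff, hsum, Finset.sum_div]
      refine sum_mem fun j _ => ?_
      rw [Finset.sum_div]
      refine sum_mem fun k _ => ?_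
      convert mul_mem (mul_mem (hcD j) (hdL k)) (natCast_mem (locRing M) (N j k)) using 1
      ring
    · rw [← mem_locRing_iff, hsum, Finset.sum_div]
      refine sum_mem fun j _ => ?_
      rw [Finset.sum_div]
      refine sum_mem fun k _ => ?_
      convert mul_mem (mul_mem (hcL j) (hdD k)) (natCast_mem (locRing M) (N j k)) using 1
      rw [hn]
      ring
  · have h0 : μ = 0 := hμa.trans (hvan hy x hx)
    rw [h0, zero_div, zero_div]
    exact ⟨(zero_mem (locRing M) : _), (zero_mem (locRing M) : _), Or.inr rfl⟩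
  · have h0 : μ = 0 := hμb.trans (hvan' hx y hy)
    rw [h0, zero_div, zero_div]
    exact ⟨(zero_mem (locRing M) : _), (zero_mem (locRing M) : _), Or.inr rfl⟩
  · refine ⟨?_, ?_, Or.inl (iff_of_true hx hy)⟩
    · rw [← mem_locRing_iff, hμa]
      exact regular_div_mem F.hM a haL (hvan hy) hx
    · rw [← mem_locRing_iff, hμb]
      exact regular_div_mem F.hM b hbL (hvan' hx) hy

end Frame

end CfsgLib.Block.CyclicDefect
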