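import Cfsg.Agent.Lib.Block.CyclicDefect.Isometry
import Cfsg.Agent.Lib.Block.CyclicDefect.Bridge
import Cfsg.Agent.Lib.Block.CentralQuot
import Cfsg.Agent.Lib.Block.NormalSupport
import Cfsg.Agent.Lib.Block.NilpotentBijection
import Cfsg.Agent.Lib.Char.Degree

/-!
# The model: a cyclic normal Sylow subgroup which is its own centralizer

`exists_model_frame`: such a group has one block, with a frame whose inertial index is the index;
`Frame.model_sign`: characters non-trivial on the subgroup all lie among the exceptional ones, or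
there is only one.
-/

open Finset
open scoped ComplexConjugate

set_option autoImplicit false
set_option linter.unusedSectionVars false

namespace CfsgLib.Block.CyclicDefect

open Cfsg CfsgLib.Block
open scoped Pair

universe u

variable {p : ℕ} {M : Ideal AlgInt} [M.IsMaximal] {A : Type u} [Group A] [Fintype A] [DecidableEq A]
  [Fintype (IrrCharacter A)]

/-- One block over a normal `p`-subgroup containing its centralizer. -/
theorem blockOf_eq_univ (hM : IsPModular p M) (Q : Subgroup A) [Q.Normal] (hQ : IsPGroup p Q)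
    (hQC : Subgroup.centralizer (Q : Set A) ≤ Q) (χ : IrrCharacter A) :
    blockOf M (χ : A → ℂ) = Set.univ := by
  classical
  haveI : Fact p.Prime := ⟨hM.1⟩
  refine Set.eq_univ_of_forall fun ψ => ?_
  show SameBlock M (χ : A → ℂ) (ψ : A → ℂ)
  refine sameBlock_of_support hM fun g hg => ?_
  have hB := isPBlock_blockOf (M := M) χ
  have hreg := regular_of_coeffRes_ne_zero hM (IsBlockUnion.of_isPBlock hB) hg
  have hgC : g ∈ Subgroup.centralizer (Q : Set A) := by
    by_contra hn
    apply hg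
    rw [coeffRes_eq_zero_iff hM (IsBlockUnion.of_isPBlock hB),
      blockCoeff_eq_zero_of_notMem_centralizer hM hQ hB hn]
    exact ⟨0, 1, M.zero_mem, Ideal.IsPrime.one_notMem inferInstance, by simp⟩
  obtain ⟨j, hj⟩ := IsPGroup.iff_orderOf.mp hQ ⟨g, hQC hgC⟩
  rw [Subgroup.orderOf_mk] at hj
  obtain rfl : g = 1 := by
    rcases Nat.eq_zero_or_pos j with rfl | hpos
    · exact orderOf_eq_one_iff.mp (by rw [hj, pow_zero])
    · exact absurd (hj ▸ dvd_pow_self p hpos.ne') hreg
  refine congrArg (res M) (Subtype.ext ?_)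
  simp only [centralChar]
  field_simp [Char.irr_one_ne_zero χ, Char.irr_one_ne_zero ψ]

theorem isPBlock_eq_univ (hM : IsPModular p M) (Q : Subgroup A) [Q.Normal] (hQ : IsPGroup p Q)
    (hQC : Subgroup.centralizer (Q : Set A) ≤ Q) {b : Set (IrrCharacter A)} (hb : IsPBlock M b) :
    b = Set.univ := by
  obtain ⟨χ, rfl⟩ := hb
  exact blockOf_eq_univ hM Q hQ hQC χ

/-- A `p`-subgroup of index less than `p` is a normal Sylow subgroup. -/
theorem normal_of_index_lt (hp : p.Prime) {Q : Subgroup A} (hQ : IsPGroup p Q)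
    (hlt : Q.index < p) : Q.Normal ∧ ∃ S : Sylow p A, (S : Subgroup A) = Q := by
  haveI : Fact p.Prime := ⟨hp⟩
  have hnd : ¬ p ∣ Q.index := fun h =>
    absurd (Nat.le_of_dvd (Nat.pos_of_ne_zero Subgroup.index_ne_zero_of_finite) h) (by omega)
  let S : Sylow p A := hQ.toSylow hnd
  have hS : (S : Subgroup A) = Q := rfl
  have h1 := card_sylow_modEq_one p A
  have h2 : Nat.card (Sylow p A) ∣ Q.index := Sylow.card_dvd_index S
  have h3 : Nat.card (Sylow p A) = 1 := by
    have hle := Nat.le_of_dvd (Nat.pos_of_ne_zero Subgroup.index_ne_zero_of_finite) h2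
    have h4 : Nat.card (Sylow p A) % p = 1 % p := h1
    rwa [Nat.mod_eq_of_lt (show Nat.card (Sylow p A) < p by omega), Nat.one_mod_eq_one.mpr
      hp.ne_one] at h4
  have : Subsingleton (Sylow p A) := (Nat.card_eq_one_iff_unique.mp h3).1
  exact ⟨hS ▸ Sylow.normal_of_subsingleton S, S, hS⟩

/-- The frame of the model. -/
theorem exists_model_frame (hM : IsPModular p M) {Q : Subgroup A} (hQ : IsPGroup p Q)
    (hQ1 : Q ≠ ⊥) (hcyc : IsCyclic Q) (hQC : Subgroup.centralizer (Q : Set A) = Q)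
    (hlt : Q.index < p) :
    ∃ F : Frame p M A, F.B = Set.univ ∧ F.P = Q ∧ F.e = Q.index ∧ F.T = ⊤ := by
  classical
  haveI : Fact p.Prime := ⟨hM.1⟩
  obtain ⟨hnorm, S, hS⟩ := normal_of_index_lt hM.1 hQ hlt
  have hB : principalBlock M A = Set.univ :=
    isPBlock_eq_univ hM Q hQ hQC.le isPBlock_principalBlock
  have hBu : IsPBlock M (Set.univ : Set (IrrCharacter A)) := hB ▸ isPBlock_principalBlock
  have hD : IsDefectGroup p M (Set.univ : Set (IrrCharacter A)) Q :=
    hB ▸ (isDefectGroup_principal_iff hM Q).mpr ⟨S, hS⟩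
  obtain ⟨c, hc⟩ := exists_maximalPair_at hM hBu hD
  have hQle : Q ≤ CQ Q := hQC.ge
  have hind := (isBrauerPairOf_iff_induced hM hBu hQ hQle).mp hc.1
  have hcu : c = Set.univ := by
    haveI : Fintype (CQ Q) := Fintype.ofFinite _
    haveI : Fintype (IrrCharacter (CQ Q)) := Fintype.ofFinite _
    refine isPBlock_eq_univ hM (Q.subgroupOf (CQ Q)) ?_ ?_ hc.1.1.2
    · exact hQ.of_equiv (Subgroup.subgroupOfEquivOfLe hQle).symm
    · intro x _
      exact (SetLike.ext_iff.mp hQC (x : A)).mp x.2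
  obtain ⟨F, hFB, hFP, hFT, hFe⟩ := exists_frame hM hBu hD hQ1 hcyc hind (T := ⊤) fun g => by
    have hgN : g ∈ Subgroup.normalizer (Q : Set A) := by
      rw [Subgroup.normalizer_eq_top]; trivial
    exact iff_of_true trivial ⟨hgN, (stabilizesBlock_of_forall_iff hgN).mp
      fun θ _ θ' _ => hcu ▸ Set.mem_univ θ'⟩
  refine ⟨F, hFB, hFP, ?_, hFT⟩
  rw [hFe, Subgroup.relIndex_top_right]
  exact congrArg Subgroup.index hQC

/-- A character non-trivial on a normal subgroup sums to zero over it. -/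
theorem sum_eq_zero_of_nontrivial (Q : Subgroup A) [Q.Normal] [Fintype Q] (η : IrrCharacter A)
    (h : ∃ x ∈ Q, (η : A → ℂ) x ≠ (η : A → ℂ) 1) : ∑ q : Q, (η : A → ℂ) q = 0 := by
  classical
  obtain ⟨m, ρ, hρ, hη⟩ := η.2
  set P : Module.End ℂ (Fin m → ℂ) := ∑ q : Q, ρ q with hP
  have hcomm : ∀ g : A, P * ρ g = ρ g * P := fun g => by
    rw [hP, Finset.sum_mul, Finset.mul_sum]
    refine Fintype.sum_equiv (MulAut.conjNormal g⁻¹ : MulAut Q).toEquiv _ _ fun q => ?_
    rw [← map_mul, ← map_mul]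
    congr 1
    show _ = g * ((MulAut.conjNormal g⁻¹ q : Q) : A)
    rw [MulAut.conjNormal_apply]
    group
  obtain ⟨c, hc⟩ := Char.schur_scalar ρ P hcomm
  have hfix : ∀ q : Q, ρ q * P = P := fun q => by
    rw [hP, Finset.mul_sum]
    exact Fintype.sum_equiv (Equiv.mulLeft q) _ _ fun x => by rw [← map_mul]; rfl
  have hc0 : c = 0 := by
    by_contra hne
    obtain ⟨x, hx, hxne⟩ := h
    apply hxne
    have h1 := hfix ⟨x, hx⟩
    rw [hc, mul_smul_comm] at h1
    have h2 : ρ x * LinearMap.id = LinearMap.id := smul_right_injective _ hne h1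
    have h3 : ρ x = ρ 1 := by
      rw [map_one]
      exact h2
    rw [← hη, Representation.character, Representation.character, h3]
  calc ∑ q : Q, (η : A → ℂ) q = LinearMap.trace ℂ _ P := by
        rw [hP, map_sum, ← hη]; rfl
    _ = 0 := by rw [hc, hc0, zero_smul, map_zero]

namespace Frame

variable (F : Frame p M A) [Fintype (IrrCharacter (CQ F.Q))]

theorem cq_Q_eq {Q : Subgroup A} (hFP : F.P = Q) (hFT : F.T = ⊤)
    (hQC : Subgroup.centralizer (Q : Set A) = Q) : CQ F.Q = Q := by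
  have h := F.inf_cq F.Q_le F.Q_ne
  rw [hFT, top_inf_eq] at h
  rw [h, hFP]
  exact hQC

/-- The trivial character is the centre. -/
theorem ηc_zero_eq_one (he : 1 < F.e) (hf : ∀ θ : IrrCharacter (CQ F.Q), θ ∈ F.f) (x : CQ F.Q) :
    (F.ηc 0 : CQ F.Q → ℂ) x = 1 := by
  obtain ⟨i, hi⟩ := F.exists_ηc (hf (oneChar (CQ F.Q)))
  have h1 : ∀ y, (F.ηc i : CQ F.Q → ℂ) y = 1 := fun y => by rw [hi]; rfl
  have hri : F.r * i = i := F.ηc_injective (Subtype.ext (funext fun y => by
    rw [← F.ηc_sigma, h1, h1]))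
  have h0 : (F.r ^ 1 - 1) * i = 0 := by rw [pow_one, sub_mul, one_mul, hri, sub_self]
  rw [← (F.isUnit_r_pow_sub_one Nat.one_pos he).mul_right_eq_zero.mp h0, h1]

/-- The facts on a character non-trivial on the subgroup. -/
theorem model_facts (S : F.Shape) {Q : Subgroup A} [Q.Normal] (hFB : F.B = Set.univ)
    (hQ : CQ F.Q = Q) (hf : ∀ θ : IrrCharacter (CQ F.Q), θ ∈ F.f) (he : 1 < F.e)
    {η : IrrCharacter A} (hη : ∃ x ∈ Q, (η : A → ℂ) x ≠ (η : A → ℂ) 1) :
    (η ∈ S.X ∨ Fintype.card F.Orb = 1) → (charDegree (η : A → ℂ) + 1 = Nat.card F.P) := by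
  classical
  subst hQ
  intro hcase
  have hone := F.ηc_zero_eq_one he hf
  have h0 : F.mult η 0 = 0 := by
    simp only [mult, classInner, hone, map_one, mul_one]
    rw [sum_eq_zero_of_nontrivial (CQ F.Q) η hη, mul_zero]
  have hnat : ∀ i, ∃ n : ℕ, F.mult η i = n := fun i =>
    Char.classInner_isCharacter (Char.isCharacter_comp (Char.isCharacter_irr η) (CQ F.Q).subtype)
      (Char.isCharacter_irr (F.ηc i))
  have hwm : ∀ i, F.wv i η = F.mult η i := fun i => by rw [wv, h0, sub_zero]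
  have hconst : ∀ o o', F.wv (F.rep o) η = F.wv (F.rep o') η := by
    rcases hcase with h | h
    · intro o o'
      rw [S.wv_eq, S.wv_eq, if_neg (((S.X_eq η).mp h).2 o), if_neg (((S.X_eq η).mp h).2 o')]
    · intro o o'
      rw [(Fintype.card_le_one_iff.mp h.le) o o']
  obtain ⟨o₀⟩ := F.orb_nonempty
  have hval : F.wv (F.rep o₀) η = 1 := by
    have hpm : F.wv (F.rep o₀) η = 1 ∨ F.wv (F.rep o₀) η = -1 := by
      rw [S.wv_eq]
      by_cases hY : η = S.Y o₀
      · rw [if_pos hY, mul_one, hY, S.u_Y]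
        rcases S.δ_sq with h | h <;> simp [h]
      · have hX : η ∈ S.X := by
          rcases hcase with h | h
          · exact h
          · refine (S.X_eq η).mpr ⟨hFB ▸ Set.mem_univ η, fun o => ?_⟩
            rwa [(Fintype.card_le_one_iff.mp h.le) o o₀]
        rw [if_neg hY, mul_zero, add_zero]
        rcases S.u_X η hX with h | h <;> simp [h]
    refine hpm.resolve_right fun h => ?_
    obtain ⟨n, hn⟩ := hnat (F.rep o₀)
    rw [hwm, hn] at h
    have h2 : ((n : ℤ) + 1 : ℤ) = 0 := by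
      have : (((n : ℤ) + 1 : ℤ) : ℂ) = 0 := by push_cast; rw [h]; ring
      exact_mod_cast this
    omega
  have hmult : ∀ i, i ≠ 0 → F.mult η i = 1 := fun i hi => by
    obtain ⟨o, ho⟩ := F.wv_orbit hi
    rw [← hwm, ho, hconst o o₀, hval]
  have hres : IsClassFunction (CQ F.Q) (fun x : CQ F.Q => (η : A → ℂ) x) := fun a b => by
    simp only [Subgroup.coe_mul, InvMemClass.coe_inv]
    exact Char.isClassFunction_irr η _ _
  have h := congrFun (Char.classFun_expand hres) 1
  simp only [Finset.sum_apply, Pi.smul_apply, smul_eq_mul, OneMemClass.coe_one] at h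
  have himg : (Finset.univ : Finset (IrrCharacter (CQ F.Q))) = Finset.univ.image F.ηc :=
    Finset.ext fun θ => by
      simp only [Finset.mem_univ, Finset.mem_image, true_and, true_iff]
      exact F.exists_ηc (hf θ)
  rw [himg, Finset.sum_image fun _ _ _ _ h => F.ηc_injective h] at h
  have hone' : ∀ i, (F.ηc i : CQ F.Q → ℂ) 1 = 1 := fun i => by
    rw [F.ηc_one, ← F.ηc_one 0, hone]
  rw [Finset.sum_congr rfl (g := fun i => if i = 0 then (0 : ℂ) else 1) fun i _ => by
    change F.mult η i * _ = _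
    rw [hone', mul_one]
    split_ifs with hi
    · rw [hi, h0]
    · exact hmult i hi,
    Finset.sum_ite, Finset.sum_const_zero, zero_add, Finset.sum_const, nsmul_eq_mul, mul_one,
    Finset.filter_ne', Finset.card_erase_of_mem (Finset.mem_univ _), Finset.card_univ, ZMod.card,
    (charDegree_eq η).1, Nat.cast_inj] at h
  have : 0 < Nat.card F.P := Nat.card_pos
  omega

/-- The signs agree on the characters non-trivial on the subgroup. -/
theorem model_sign (S : F.Shape) {Q : Subgroup A} [Q.Normal] (hFB : F.B = Set.univ)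
    (hQ : CQ F.Q = Q) (hf : ∀ θ : IrrCharacter (CQ F.Q), θ ∈ F.f) (he : 1 < F.e)
    (hidx : Q.index = F.e) (hcard : Nat.card Q = Nat.card F.P)
    (hab : ∀ a ∈ Q, ∀ b ∈ Q, a * b = b * a)
    {η η' : IrrCharacter A} (hη : ∃ x ∈ Q, (η : A → ℂ) x ≠ (η : A → ℂ) 1)
    (hη' : ∃ x ∈ Q, (η' : A → ℂ) x ≠ (η' : A → ℂ) 1) :
    η = η' ∨ (η ∉ S.X ∧ η' ∉ S.X) := by
  classical
  have hm := F.card_orb_mul
  by_cases h1 : Fintype.card F.Orb = 1
  · left
    by_contra hne
    have d1 := F.model_facts S hFB hQ hf he hη (Or.inr h1)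
    have d2 := F.model_facts S hFB hQ hf he hη' (Or.inr h1)
    rw [h1, one_mul] at hm
    have hsum := Char.sum_degree_sq (G := A)
    have hA : Nat.card A = Nat.card F.P * F.e := by rw [← hcard, ← hidx, Subgroup.card_mul_index]
    have hnat : ∑ χ : IrrCharacter A, charDegree (χ : A → ℂ) ^ 2 = Nat.card A := by
      simp only [(charDegree_eq _).1] at hsum
      exact_mod_cast hsum
    have hone : ∀ θ : IrrCharacter A, (∃ x ∈ Q, (θ : A → ℂ) x ≠ (θ : A → ℂ) 1) → oneChar A ≠ θ :=
      fun θ ⟨x, _, hx⟩ e => hx (by rw [← e]; rfl)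
    have hsub : ∑ χ ∈ ({oneChar A, η, η'} : Finset (IrrCharacter A)), charDegree (χ : A → ℂ) ^ 2 ≤
        Nat.card A := hnat ▸ Finset.sum_le_sum_of_subset (Finset.subset_univ _)
    rw [Finset.sum_insert (by simp [hone η hη, hone η' hη']), Finset.sum_pair hne,
      show charDegree (oneChar A : A → ℂ) = 1 by simp [oneChar, charDegree], hA] at hsub
    have e1 : charDegree (η : A → ℂ) = F.e := by omega
    have e2 : charDegree (η' : A → ℂ) = F.e := by omega
    rw [e1, e2, ← hm] at hsub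
    nlinarith
  · right
    have hX : ∀ θ : IrrCharacter A, (∃ x ∈ Q, (θ : A → ℂ) x ≠ (θ : A → ℂ) 1) → θ ∉ S.X := by
      intro θ hθ hmem
      have hd := F.model_facts S hFB hQ hf he hθ (Or.inl hmem)
      have hle := Char.degree_le_index θ.2 Q hab (charDegree_eq θ).1
      have hpos : 0 < Fintype.card F.Orb := Fintype.card_pos_iff.mpr F.orb_nonempty
      have h2 : 2 * F.e ≤ Fintype.card F.Orb * F.e := Nat.mul_le_mul_right _ (by omega)
      omega
    exact ⟨hX η hη, hX η' hη'⟩

theorem model_local_univ {Q : Subgroup A} [Q.Normal] (hFP : F.P = Q) (hQ : CQ F.Q = Q) :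
    ∀ θ : IrrCharacter (CQ F.Q), θ ∈ F.f := by
  intro θ
  have hp : IsPGroup p (CQ F.Q) := by rw [hQ, ← hFP]; exact F.isPGroup
  have htop : IsPGroup p (⊤ : Subgroup (CQ F.Q)) := hp.of_equiv Subgroup.topEquiv.symm
  rw [isPBlock_eq_univ F.hM ⊤ htop le_top F.block_f]
  trivial

end Frame

end CfsgLib.Block.CyclicDefect
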