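import Cfsg.Agent.Lib.Block.CyclicDefect.Model

/-!
# The perfect isometry with the model group
-/

set_option autoImplicit false
set_option linter.unusedSectionVars false

namespace CfsgLib.Block.CyclicDefect

open Cfsg CfsgLib.Block
open scoped Pair

universe u v

variable {p : ℕ} {M : Ideal AlgInt} [M.IsMaximal] {G : Type u} [Group G] [Fintype G] [DecidableEq G]
  [Fintype (IrrCharacter G)] {A : Type v} [Group A] [Fintype A] [DecidableEq A]
  [Fintype (IrrCharacter A)]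

theorem exists_isometry_model (hM : IsPModular p M) {B : Set (IrrCharacter G)} (hB : IsPBlock M B)
    {P : Subgroup G} (hPD : IsDefectGroup p M B P) (hP1 : P ≠ ⊥) (hcyc : IsCyclic P)
    {c : Set (IrrCharacter (CQ P))} (hc : IsInducedBlock M (CQ P) c B) {T : Subgroup G}
    (hT : ∀ g : G, g ∈ T ↔ g ∈ Subgroup.normalizer (P : Set G) ∧ StabilizesBlock (CQ P) c g)
    (hA : Nat.card A = Nat.card P * (CQ P).relIndex T) (Q : Subgroup A) (hQ : IsCyclic Q)
    (hQcard : Nat.card Q = Nat.card P) (hQC : Subgroup.centralizer (Q : Set A) = Q) :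
    ∃ (I : IrrCharacter A → IrrCharacter G) (ε : IrrCharacter A → ℤ),
      IsPerfectIsometry p M (Set.univ : Set (IrrCharacter A)) B I ε ∧
      ∀ η η' : IrrCharacter A, (∃ x ∈ Q, (η : A → ℂ) x ≠ (η : A → ℂ) 1) →
        (∃ x ∈ Q, (η' : A → ℂ) x ≠ (η' : A → ℂ) 1) → ε η = ε η' := by
  classical
  haveI : Fact p.Prime := ⟨hM.1⟩
  obtain ⟨F, hFB, hFP, -, hFe⟩ := exists_frame hM hB hPD hP1 hcyc hc hT
  have := Fintype.ofFinite (IrrCharacter (CQ F.Q))
  obtain ⟨S⟩ := F.exists_shape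
  obtain ⟨k, hk⟩ := IsPGroup.iff_card.mp F.isPGroup
  have hQp : IsPGroup p Q := IsPGroup.of_card (n := k) (by rw [hQcard, ← hFP, hk])
  have hidx : Q.index = F.e := by
    have h := Q.card_mul_index
    rw [hA, hQcard, ← hFe] at h
    exact Nat.eq_of_mul_eq_mul_left Nat.card_pos h
  have hlt : Q.index < p := by
    rw [hidx]
    have h2 := F.prime.two_le
    have := Nat.le_of_dvd (by omega) F.e_dvd
    omega
  have hQ1 : Q ≠ ⊥ := fun h => by
    rw [h, Subgroup.card_bot] at hQcard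
    exact hP1 (P.eq_bot_of_card_eq hQcard.symm)
  obtain ⟨F', hF'B, hF'P, hF'e, hF'T⟩ := exists_model_frame hM hQp hQ1 hQ hQC hlt
  have := Fintype.ofFinite (IrrCharacter (CQ F'.Q))
  obtain ⟨S'⟩ := F'.exists_shape
  obtain ⟨I, ε, hI, hY, h1⟩ := Frame.exists_isometry S S'
    (show Nat.card F'.P = Nat.card F.P by rw [hF'P, hFP, hQcard]) (hF'e.trans hidx)
  rw [hF'B, hFB] at hI
  refine ⟨I, ε, hI, fun η η' hη hη' => ?_⟩
  rcases (Nat.one_le_iff_ne_zero.mpr F.e_pos.ne').eq_or_lt with he | he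
  · rw [h1 he.symm η (hF'B ▸ Set.mem_univ η), h1 he.symm η' (hF'B ▸ Set.mem_univ η')]
  · obtain ⟨hnorm, -⟩ := normal_of_index_lt hM.1 hQp hlt
    have hCQ : CQ F'.Q = Q := F'.cq_Q_eq hF'P hF'T hQC
    have hf := F'.model_local_univ hF'P hCQ
    have hab : ∀ a ∈ Q, ∀ b ∈ Q, a * b = b * a := fun a ha b hb =>
      congrArg Subtype.val ((hQ.commGroup (α := Q)).mul_comm ⟨a, ha⟩ ⟨b, hb⟩)
    rcases F'.model_sign S' hF'B hCQ hf (by rw [hF'e, hidx]; exact he) hF'e.symm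
      (by rw [hF'P]) hab hη hη' with h | ⟨h, h'⟩
    · rw [h]
    · have key : ∀ θ, θ ∉ S'.X → ε θ = S'.δ * S.δ := fun θ hθ => by
        by_cases hex : ∃ o, θ = S'.Y o
        · obtain ⟨o, rfl⟩ := hex
          exact hY o
        · exact absurd ((S'.X_eq θ).mpr ⟨hF'B ▸ Set.mem_univ θ, fun o ho => hex ⟨o, ho⟩⟩) hθ
      rw [key η h, key η' h']

end CfsgLib.Block.CyclicDefect
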