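import Cfsg.Agent.Lib.Block.CyclicDefect.Setup

/-!
# The orbits of the stabilizer on the non-zero labels

The exponent acts freely on the non-zero residues; the orbits are the exceptional indices.
-/

open Finset

set_option autoImplicit false
set_option linter.unusedSectionVars false

namespace CfsgLib.Block.CyclicDefect

open Cfsg CfsgLib.Block
open scoped Pair

universe u

variable {p : ℕ} {M : Ideal AlgInt} [M.IsMaximal] {G : Type u} [Group G] [Fintype G] [DecidableEq G]
  [Fintype (IrrCharacter G)]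

namespace Frame

variable (F : Frame p M G)

theorem r_pow_mod (a : ℕ) : F.r ^ a = F.r ^ (a % F.e) := by
  conv_lhs => rw [← Nat.mod_add_div a F.e, pow_add, pow_mul, F.r_pow_e, one_pow, mul_one]

/-- Labels in one orbit. -/
def labelSetoid : Setoid {i : ZMod (Nat.card F.P) // i ≠ 0} where
  r i j := ∃ l : ℕ, (j : ZMod (Nat.card F.P)) = F.r ^ l * i
  iseqv :=
    { refl := fun i => ⟨0, by rw [pow_zero, one_mul]⟩
      symm := by
        rintro i j ⟨l, hl⟩
        refine ⟨l * (F.e - 1), ?_⟩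
        rw [hl, ← mul_assoc, ← pow_add, show l * (F.e - 1) + l = F.e * l by
          have := F.e_pos
          rw [← Nat.mul_succ, Nat.succ_eq_add_one, Nat.sub_add_cancel this, mul_comm], pow_mul,
          F.r_pow_e, one_pow, one_mul]
      trans := by
        rintro i j k ⟨l, hl⟩ ⟨l', hl'⟩
        exact ⟨l' + l, by rw [hl', hl, pow_add, mul_assoc]⟩ }

/-- The orbits of the non-zero labels. -/
def Orb : Type := Quotient F.labelSetoid

noncomputable instance : Fintype F.Orb :=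
  haveI : NeZero (Nat.card F.P) := ⟨Nat.card_pos.ne'⟩
  haveI : Finite F.Orb := Finite.of_surjective _ (Quotient.mk_surjective (s := F.labelSetoid))
  Fintype.ofFinite _

noncomputable instance : DecidableEq F.Orb := Classical.decEq _

/-- The representative of an orbit. -/
noncomputable def rep (o : F.Orb) : ZMod (Nat.card F.P) :=
  ((Quotient.out (s := F.labelSetoid) o : {i : ZMod (Nat.card F.P) // i ≠ 0}) :
    ZMod (Nat.card F.P))

theorem rep_ne (o : F.Orb) : F.rep o ≠ 0 :=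
  (Quotient.out (s := F.labelSetoid) o).2

theorem exists_rep {i : ZMod (Nat.card F.P)} (hi : i ≠ 0) :
    ∃ o : F.Orb, ∃ l < F.e, i = F.r ^ l * F.rep o := by
  obtain ⟨l, hl⟩ := Quotient.exact (s := F.labelSetoid)
    (Quotient.out_eq (s := F.labelSetoid) (Quotient.mk F.labelSetoid ⟨i, hi⟩))
  exact ⟨Quotient.mk F.labelSetoid ⟨i, hi⟩, l % F.e, Nat.mod_lt _ F.e_pos,
    hl.trans (by rw [F.r_pow_mod l]; rfl)⟩

theorem r_pow_ne {l : ℕ} (hl0 : 0 < l) (hl : l < F.e) {i : ZMod (Nat.card F.P)} (hi : i ≠ 0) :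
    F.r ^ l * i ≠ i := fun h =>
  hi ((F.isUnit_r_pow_sub_one hl0 hl).mul_right_eq_zero.mp (by rw [sub_mul, one_mul, h, sub_self]))

theorem rep_unique {o o' : F.Orb} {l l' : ℕ} (hl : l < F.e) (hl' : l' < F.e)
    (h : F.r ^ l * F.rep o = F.r ^ l' * F.rep o') : o = o' ∧ l = l' := by
  have h2 : F.rep o' = F.r ^ ((F.e - l') + l) * F.rep o := by
    rw [pow_add, mul_assoc, h, ← mul_assoc, ← pow_add, Nat.sub_add_cancel hl'.le, F.r_pow_e, one_mul]
  have ho : o = o' := by
    rw [← Quotient.out_eq (s := F.labelSetoid) o, ← Quotient.out_eq (s := F.labelSetoid) o']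
    exact Quotient.sound (s := F.labelSetoid) ⟨_, h2⟩
  subst ho
  refine ⟨rfl, ?_⟩
  by_contra hne
  rw [F.r_pow_mod] at h2
  refine F.r_pow_ne (Nat.pos_of_ne_zero fun h0 => hne ?_) (Nat.mod_lt _ F.e_pos) (F.rep_ne o) h2.symm
  obtain ⟨q, hq⟩ := Nat.dvd_of_mod_eq_zero h0
  rcases Nat.lt_or_ge q 2 with hq2 | hq2
  · interval_cases q <;> omega
  · have : F.e * 2 ≤ F.e * q := Nat.mul_le_mul_left _ hq2
    omega

/-- The number of orbits times the inertial index. -/
theorem card_orb_mul : Fintype.card F.Orb * F.e + 1 = Nat.card F.P := by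
  classical
  haveI : NeZero (Nat.card F.P) := ⟨Nat.card_pos.ne'⟩
  have h : Fintype.card (F.Orb × Fin F.e) = Fintype.card {i : ZMod (Nat.card F.P) // i ≠ 0} := by
    refine Fintype.card_of_bijective
      (f := fun x : F.Orb × Fin F.e => (⟨F.r ^ (x.2 : ℕ) * F.rep x.1, fun h => F.rep_ne x.1
        ((IsUnit.of_pow_eq_one F.r_pow_e F.e_pos.ne').pow _ |>.mul_right_eq_zero.mp h)⟩ :
          {i : ZMod (Nat.card F.P) // i ≠ 0})) ⟨?_, ?_⟩
    · rintro ⟨o, l⟩ ⟨o', l'⟩ hxy
      obtain ⟨rfl, hll⟩ := F.rep_unique l.2 l'.2 (congrArg Subtype.val hxy)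
      exact Prod.ext rfl (Fin.ext hll)
    · rintro ⟨i, hi⟩
      obtain ⟨o, l, hl, rfl⟩ := F.exists_rep hi
      exact ⟨(o, ⟨l, hl⟩), rfl⟩
  rw [Fintype.card_prod, Fintype.card_fin] at h
  rw [h, Fintype.card_subtype_compl, Fintype.card_subtype_eq, ZMod.card]
  have : 0 < Nat.card F.P := Nat.card_pos
  omega

theorem one_lt_card : 1 < Nat.card F.P :=
  lt_of_lt_of_le F.prime.one_lt (Nat.le_of_dvd Nat.card_pos F.p_dvd_card)

theorem orb_nonempty : Nonempty F.Orb := by
  haveI : NeZero (Nat.card F.P) := ⟨Nat.card_pos.ne'⟩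
  haveI : Fact (1 < Nat.card F.P) := ⟨F.one_lt_card⟩
  exact ⟨Quotient.mk F.labelSetoid ⟨1, one_ne_zero⟩⟩

end Frame

end CfsgLib.Block.CyclicDefect
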