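import Cfsg.Agent.Lib.Block.CyclicDefect.LocalRing

/-!
# The subsections of the group and of the local block

The pair below `(P, c)` at a non-trivial element of `P` has, in `C(Q)`, the same coefficients as the
local one; so the subsections of a character of `G` at it are those of its restriction to `C(Q)`.
-/

open Finset MonoidAlgebra
open scoped ComplexConjugate

set_option autoImplicit false
set_option linter.unusedSectionVars false

namespace CfsgLib.Block.CyclicDefect

open Cfsg CfsgLib.Block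
open scoped Pair

universe u

section general

variable {p : ℕ} {M : Ideal AlgInt} [M.IsMaximal] {G : Type u} [Group G] [Fintype G] [DecidableEq G]
  [Fintype (IrrCharacter G)]

/-- The parts of a member of a block vanish at the pairs of the other blocks. -/
theorem secPart_eq_zero_of_not_pairOf (hM : IsPModular p M) {B : Set (IrrCharacter G)}
    (hB : IsPBlock M B) {χ : IrrCharacter G} (hχ : χ ∈ B) {u s : G}
    (hu : ∃ k : ℕ, orderOf u = p ^ k) {a : BrauerPairIdx G} (ha : a ∈ pairsAt M u)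
    (hs : s ∈ regC p u) (hnot : ¬ IsBrauerPairOf p M B a.1 a.2) : secPart χ u a s = 0 := by
  classical
  obtain ⟨h1, hb⟩ := mem_pairsAt.mp ha
  obtain ⟨b, rfl⟩ := exists_eq_pairMk h1
  dsimp only at hb hnot
  have := Fintype.ofFinite (IrrCharacter (CQ (Subgroup.zpowers u)))
  have hC : ∀ t : G, t ∈ CQ (Subgroup.zpowers u) ↔ Commute t u := fun t => mem_cq_zpowers_iff
  have hC' : ∀ t : CQ (Subgroup.zpowers u), Commute (t : G) u := fun t => (hC t).mp t.2
  obtain ⟨B', hB'⟩ := exists_induced_centralizer hM hu hC hb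
  obtain ⟨hs1, hs2⟩ := mem_regC.mp hs
  have hχ' : χ ∉ B' := fun h => hnot ((isBrauerPairOf_zpowers_iff hM hB hu).mpr
    (isPBlock_eq_of_mem hB'.2.1 hB h hχ ▸ hB'))
  rw [show s = ((⟨s, hs1⟩ : CQ (Subgroup.zpowers u)) : G) from rfl, secPart_eq_blockPart b hC']
  exact blockPart_secFun_eq_zero hM hu hC hB' hχ' (by rwa [← Subgroup.orderOf_coe])

/-- The parts of a character outside a block vanish at the pairs of the block. -/
theorem secPart_eq_zero_of_not_mem (hM : IsPModular p M) {B : Set (IrrCharacter G)}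
    {χ : IrrCharacter G} (hχ : χ ∉ B) {u s : G}
    (hu : ∃ k : ℕ, orderOf u = p ^ k) {a : BrauerPairIdx G} (ha : a ∈ pairsAt M u)
    (hs : s ∈ regC p u) (hof : IsBrauerPairOf p M B a.1 a.2) : secPart χ u a s = 0 := by
  classical
  obtain ⟨h1, hb⟩ := mem_pairsAt.mp ha
  obtain ⟨b, rfl⟩ := exists_eq_pairMk h1
  dsimp only at hof
  have := Fintype.ofFinite (IrrCharacter (CQ (Subgroup.zpowers u)))
  have hC : ∀ t : G, t ∈ CQ (Subgroup.zpowers u) ↔ Commute t u := fun t => mem_cq_zpowers_iff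
  have hC' : ∀ t : CQ (Subgroup.zpowers u), Commute (t : G) u := fun t => (hC t).mp t.2
  obtain ⟨hs1, hs2⟩ := mem_regC.mp hs
  rw [show s = ((⟨s, hs1⟩ : CQ (Subgroup.zpowers u)) : G) from rfl, secPart_eq_blockPart b hC']
  exact blockPart_secFun_eq_zero hM hu hC ((isBrauerPairOf_zpowers_iff hM hof.2.1 hu).mp hof) hχ
    (by rwa [← Subgroup.orderOf_coe])

/-- A character is the sum of its parts. -/
theorem apply_eq_sum_secPart (hM : IsPModular p M) (χ : IrrCharacter G) {u s : G}
    (hu : ∃ k : ℕ, orderOf u = p ^ k) (hs : s ∈ regC p u) :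
    (χ : G → ℂ) (u * s) = ∑ a ∈ pairsAt M u, secPart χ u a s := by
  have h := starFun_apply hM (fun _ _ => (1 : ℂ)) χ hu hs
  rw [starFun_one hM χ] at h
  rw [h]
  exact Finset.sum_congr rfl fun a _ => one_mul _

end general

variable {p : ℕ} {M : Ideal AlgInt} [M.IsMaximal] {G : Type u} [Group G] [Fintype G] [DecidableEq G]
  [Fintype (IrrCharacter G)]

namespace Frame

variable (F : Frame p M G) [Fintype (IrrCharacter (CQ F.Q))]

/-- The pair of `G` below `(P, c)` at an element of `D`. -/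
noncomputable def lowG (y : F.D) : BrauerPairIdx G := lowPair F.hM F.hmax.1.1 (F.toP y)

theorem Q_le_zpowers {y : F.D} (hy : y ≠ 1) : F.Q ≤ Subgroup.zpowers ((y : CQ F.Q) : G) :=
  F.Q_le_of_ne (Subgroup.zpowers_le.mpr y.2) (by
    rw [ne_eq, Subgroup.zpowers_eq_bot]
    exact fun h => hy (Subtype.ext (Subtype.ext h)))

theorem cq_zpowers_le {y : F.D} (hy : y ≠ 1) : CQ (Subgroup.zpowers ((y : CQ F.Q) : G)) ≤ CQ F.Q :=
  cq_mono (F.Q_le_zpowers hy)

theorem mem_cq_zpowers_coe {y v : CQ F.Q} :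
    v ∈ CQ (Subgroup.zpowers y) ↔ (v : G) ∈ CQ (Subgroup.zpowers (y : G)) := by
  rw [mem_cq_zpowers_iff, mem_cq_zpowers_iff]
  exact ⟨fun h => h.map (CQ F.Q).subtype, fun h => Subtype.ext h⟩

/-- The centralizer of a non-trivial element of `D`, in `C(Q)` and in `G`. -/
def cqY {y : F.D} (hy : y ≠ 1) :
    CQ (Subgroup.zpowers (y : CQ F.Q)) ≃* CQ (Subgroup.zpowers ((y : CQ F.Q) : G)) where
  toFun c := ⟨((c : CQ F.Q) : G), F.mem_cq_zpowers_coe.mp c.2⟩
  invFun c := ⟨⟨(c : G), F.cq_zpowers_le hy c.2⟩, F.mem_cq_zpowers_coe.mpr c.2⟩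
  left_inv c := Subtype.ext (Subtype.ext rfl)
  right_inv c := Subtype.ext rfl
  map_mul' a b := Subtype.ext rfl

theorem coeff_lowG {y : F.D} (hy : y ≠ 1) (v : CQ F.Q) :
    subgroupBlockCoeff (CQ (F.lowG y).1) (F.lowG y).2 (v : G) =
      subgroupBlockCoeff (CQ (lowPair F.hM F.max_d.1.1 y).1) (lowPair F.hM F.max_d.1.1 y).2 v := by
  classical
  haveI : Fact p.Prime := ⟨F.prime⟩
  obtain ⟨fy, hfy, hsub⟩ := F.lowPair_below_sub (y := y)
  set u : G := ((y : CQ F.Q) : G) with hu
  set gy : Set (IrrCharacter (CQ (Subgroup.zpowers u))) := irrEquiv (F.cqY hy) '' fy with hgy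
  have hgb : IsPBlock M gy := isPBlock_image_irrEquiv _ hsub.pairL.2
  have hcoe : ∀ x : CQ F.Q, subgroupBlockCoeff (CQ (Subgroup.zpowers u)) gy (x : G) =
      subgroupBlockCoeff (CQ (Subgroup.zpowers (y : CQ F.Q))) fy x := by
    intro x
    by_cases h : x ∈ CQ (Subgroup.zpowers (y : CQ F.Q))
    · rw [show (x : G) = ((F.cqY hy ⟨x, h⟩ : CQ (Subgroup.zpowers u)) : G) from rfl,
        subgroupBlockCoeff_coe, hgy, blockCoeff_image_irrEquiv, ← subgroupBlockCoeff_coe fy]
    · rw [subgroupBlockCoeff_of_notMem _ h,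
        subgroupBlockCoeff_of_notMem _ fun h' => h (F.mem_cq_zpowers_coe.mpr h')]
  have huP : Subgroup.zpowers u ≤ F.P := Subgroup.zpowers_le.mpr y.2
  have hPC : F.P ≤ CQ (Subgroup.zpowers u) := F.P_le_cq_self.trans (cq_mono huP)
  have hn : NSub p M (Subgroup.zpowers u) gy F.P F.c := by
    refine ⟨⟨IsPGroup.to_le F.isPGroup huP, hgb⟩, F.hmax.1.1, huP,
      hPC.trans (centralizer_le_normalizer' _), (cinv_eG gy).mono hPC, fun ξ hξ => ?_⟩
    refine (brauerOmega_sub_iff F.hM huP hgb ξ).mp ?_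
    have h := (brauerOmega_sub_iff F.hM hsub.le hsub.pairL.2 (irrEquiv F.cqD.symm ξ)).mpr
      (hsub.one _ ⟨ξ, hξ, rfl⟩)
    convert h using 2
    rw [brauerOmega, brauerOmega]
    refine finsum_eq_of_bijective F.cqD.symm F.cqD.symm.bijective fun x => ?_
    rw [← hcoe]
    simp only [irrEquiv_apply, map_one, MulEquiv.symm_symm, MulEquiv.apply_symm_apply]
    rfl
  have hlow : F.lowG y = ⟨Subgroup.zpowers u, gy⟩ :=
    below_ext F.hM F.hmax.1.1 (lowPair_below F.hM F.hmax.1.1 _) (SubpairLE.step F.hM hn) rfl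
  exact ((congrArg (fun a : BrauerPairIdx G => subgroupBlockCoeff (CQ a.1) a.2 (v : G)) hlow).trans
    (hcoe v)).trans
    (congrArg (fun a : BrauerPairIdx (CQ F.Q) => subgroupBlockCoeff (CQ a.1) a.2 v) hfy).symm

/-- The multiplicities of the members of `f` in the restriction. -/
noncomputable def mult (χ : IrrCharacter G) (i : ZMod (Nat.card F.P)) : ℂ :=
  classInner (fun x : CQ F.Q => (χ : G → ℂ) x) (F.ηc i : CQ F.Q → ℂ)

/-- The base part at an element of `D`. -/
noncomputable def basePart (y : F.D) (s : CQ F.Q) : ℂ :=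
  secPart (F.ηc 0) (y : CQ F.Q) (lowPair F.hM F.max_d.1.1 y) s

theorem lowPair_pairsAt (y : F.D) :
    lowPair F.hM F.max_d.1.1 y ∈ pairsAt M (y : CQ F.Q) :=
  mem_pairsAt.mpr ⟨lowPair_fst F.hM F.max_d.1.1 y, isPBlock_lowPair F.hM F.max_d.1.1 y⟩

theorem secPart_ηc (i : ZMod (Nat.card F.P)) (y : F.D) {s : CQ F.Q}
    (hs : s ∈ regC p (y : CQ F.Q)) :
    secPart (F.ηc i) (y : CQ F.Q) (lowPair F.hM F.max_d.1.1 y) s =
      zchar (Nat.card F.P) (i * F.idx (F.toP y)) * F.basePart y s := by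
  rw [basePart, ηc, ηc, F.secPart_η _ y hs, F.secPart_η _ y hs, zero_add, add_mul,
    AddChar.map_add_eq_mul, mul_assoc]

theorem exists_basePart_ne_zero (y : F.D) : ∃ s ∈ regC p (y : CQ F.Q), F.basePart y s ≠ 0 :=
  exists_secPart_ne_zero_of_center F.hM F.max_d (F.ηc_mem 0) (F.genD_central y)

/-- The parts of a character of `G` at a non-trivial element of `D` are those of its restriction. -/
theorem secPart_restrict {y : F.D} (hy : y ≠ 1) {s : CQ F.Q} (hs : s ∈ regC p (y : CQ F.Q))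
    (χ : IrrCharacter G) :
    secPart χ ((y : CQ F.Q) : G) (F.lowG y) (s : G) =
      (∑ i, F.mult χ i * zchar (Nat.card F.P) (i * F.idx (F.toP y))) * F.basePart y s := by
  classical
  have hres : IsClassFunction (CQ F.Q) (fun x : CQ F.Q => (χ : G → ℂ) x) := fun a b => by
    simp only [Subgroup.coe_mul, InvMemClass.coe_inv]
    exact Char.isClassFunction_irr χ _ _
  have hexp := Char.classFun_expand hres
  have h1 : secPart χ ((y : CQ F.Q) : G) (F.lowG y) (s : G) =
      ∑ ξ : IrrCharacter (CQ F.Q), classInner (fun x : CQ F.Q => (χ : G → ℂ) x) ξ *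
        secPart ξ (y : CQ F.Q) (lowPair F.hM F.max_d.1.1 y) s := by
    rw [secPart, ← Finset.sum_subset (Finset.subset_univ (Finset.univ.filter (fun t : G => t ∈ CQ F.Q)))
      fun t _ ht => by
        simp only [Finset.mem_filter, Finset.mem_univ, true_and] at ht
        rw [subgroupBlockCoeff_of_notMem (F.lowG y).2 fun h => ht (F.cq_zpowers_le hy h), zero_mul],
      Finset.sum_subtype (p := fun t => t ∈ CQ F.Q) _ (fun t => by simp)]
    simp only [secPart, Finset.mul_sum]
    rw [Finset.sum_comm]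
    refine Finset.sum_congr rfl fun t _ => ?_
    rw [F.coeff_lowG hy]
    have h := congrFun hexp ((y : CQ F.Q) * (t * s))
    simp only [Finset.sum_apply, Pi.smul_apply, smul_eq_mul, Subgroup.coe_mul] at h
    rw [h, Finset.mul_sum]
    exact Finset.sum_congr rfl fun ξ _ => by ring
  rw [h1, Finset.sum_mul, ← Finset.sum_subset (Finset.subset_univ (Finset.univ.image F.ηc))
    fun ξ _ hξ => ?_, Finset.sum_image fun _ _ _ _ h => F.ηc_injective h]
  · exact Finset.sum_congr rfl fun i _ => by rw [F.secPart_ηc i y hs, mult, mul_assoc]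
  · have hnf : ξ ∉ F.f := fun h => hξ (by
      obtain ⟨i, hi⟩ := F.exists_ηc h
      exact Finset.mem_image.mpr ⟨i, Finset.mem_univ _, hi⟩)
    rw [secPart_eq_zero_of_not_mem F.hM hnf (exists_pElement_orderOf F.max_d.1.1 y F.prime)
      (F.lowPair_pairsAt y) hs (lowPair_pairOf F.hM F.max_d y), mul_zero]

end Frame

end CfsgLib.Block.CyclicDefect
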