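import Cfsg.Agent.Lib.Block.CyclicDefect.Main
import Cfsg.Agent.Lib.Block.NilpotentChar

/-!
# A block with cyclic defect group of rank one is nilpotent
-/

set_option autoImplicit false
set_option linter.unusedSectionVars false

namespace CfsgLib.Block.CyclicDefect

open Cfsg CfsgLib.Block
open scoped Pair

universe u

variable {p : ℕ} {M : Ideal AlgInt} [M.IsMaximal] {G : Type u} [Group G] [Fintype G] [DecidableEq G]
  [Fintype (IrrCharacter G)]

/-- A frame on a given maximal pair. -/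
theorem exists_frame_of_max (hM : IsPModular p M) {B : Set (IrrCharacter G)} {P : Subgroup G}
    {c : Set (IrrCharacter (CQ P))} (hmax : IsMaximalBrauerPair p M B P c) (hcyc : IsCyclic P)
    (hP1 : P ≠ ⊥) :
    ∃ F : Frame p M G, ∃ hP : F.P = P, F.B = B ∧
      (⟨F.P, F.c⟩ : BrauerPairIdx G) = ⟨P, c⟩ := by
  classical
  haveI : Fact p.Prime := ⟨hM.1⟩
  have hPp : IsPGroup p P := hmax.1.1.1
  have hdvd : p ∣ Nat.card P := by
    obtain ⟨k, hk⟩ := IsPGroup.iff_card.mp hPp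
    rcases Nat.eq_zero_or_pos k with h0 | h0
    · exact absurd (P.eq_bot_of_card_eq (by rw [hk, h0, pow_zero])) hP1
    · exact hk ▸ dvd_pow_self p h0.ne'
  obtain ⟨x, hx⟩ := exists_prime_orderOf_dvd_card' p hdvd
  have hQP : Subgroup.zpowers (x : G) ≤ P := Subgroup.zpowers_le.mpr x.2
  have hQc : Nat.card (Subgroup.zpowers (x : G)) = p := by
    rw [Nat.card_zpowers, Subgroup.orderOf_coe, hx]
  have hPC : P ≤ CQ P := fun u hu => Subgroup.mem_centralizer_iff.mpr fun v hv =>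
    congrArg Subtype.val ((hcyc.commGroup (α := P)).mul_comm ⟨v, hv⟩ ⟨u, hu⟩)
  obtain ⟨f, hn⟩ := exists_nSub hM hQP
    ((hPC.trans (cq_mono hQP)).trans (centralizer_le_normalizer' _)) hmax.1.1
  let S : Subgroup G :=
    { carrier := {g | g ∈ Subgroup.normalizer (P : Set G) ∧ cj g (eG M c) = eG M c}
      mul_mem' := fun {a b} ha hb =>
        ⟨Subgroup.mul_mem _ ha.1 hb.1, by rw [← cj_cj, hb.2, ha.2]⟩
      one_mem' := ⟨Subgroup.one_mem _, cj_one _⟩
      inv_mem' := fun {a} ha => ⟨Subgroup.inv_mem _ ha.1, by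
        conv_lhs => rw [← ha.2, cj_cj, inv_mul_cancel, cj_one]⟩ }
  exact ⟨⟨hM, B, P, c, hmax, hcyc, hP1, _, hQP, hQc, f, hn, S, fun g =>
    and_congr_right fun hg => (stabilizesBlock_iff hM hg hmax.1.1.2).symm⟩, rfl, rfl, rfl⟩

theorem cj_eG_of_cjP_fix {x : G} {Q : Subgroup G} {f : Set (IrrCharacter (CQ Q))}
    (h : cjP x (⟨Q, f⟩ : BrauerPairIdx G) = ⟨Q, f⟩) : cj x (eG M f) = eG M f := by
  have h2 := eG_cjP_snd (M := M) x (⟨Q, f⟩ : BrauerPairIdx G)
  rw [h] at h2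
  exact h2.symm

theorem isNilpotentBlock_of_rank_one (hM : IsPModular p M) {B : Set (IrrCharacter G)}
    (hB : IsPBlock M B) {P : Subgroup G} (hPD : IsDefectGroup p M B P) (hcyc : IsCyclic P)
    (hr : blockRank p B = 1) : IsNilpotentBlock p M B := by
  classical
  refine ⟨hB, fun R g hRg x hxN hxS hxr => ?_⟩
  obtain ⟨D, d, hd, hle⟩ := exists_maximal_above hM R g hRg
  obtain ⟨y, hy⟩ := defectGroup_conj hM hB (isDefectGroup_of_maximal hM hd) hPD
  have hDcyc : IsCyclic D := by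
    haveI := hcyc
    have e := D.equivMapOfInjective (MulAut.conj y).toMonoidHom (MulAut.conj y).injective
    rw [hy] at e
    exact isCyclic_of_surjective e.symm e.symm.surjective
  rw [Subgroup.mem_centralizer_iff]
  intro v hv
  by_cases hR : R = ⊥
  · rw [hR, Subgroup.coe_bot, Set.mem_singleton_iff] at hv
    rw [hv, one_mul, mul_one]
  have hD1 : D ≠ ⊥ := fun h => hR (le_bot_iff.mp ((SubpairLE.le hle).trans h.le))
  obtain ⟨F, hFP, hFB, hpair⟩ := exists_frame_of_max hM hd hDcyc hD1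
  let inst : Fintype (IrrCharacter (CQ F.Q)) := Fintype.ofFinite _
  obtain ⟨S⟩ := F.exists_shape
  have he : F.e = 1 := by rw [← S.rank, hFB, hr]
  have hbel : Below p M F.P F.c (⟨R, g⟩ : BrauerPairIdx G) := by
    show Relation.ReflTransGen _ _ (⟨F.P, F.c⟩ : BrauerPairIdx G)
    rw [hpair]
    exact hle
  have hRP : R ≤ F.P := SubpairLE.le hbel
  have hQR : F.Q ≤ R := F.Q_le_of_ne hRP hR
  obtain ⟨f', -, hf'⟩ := exists_subpairLE hM hRg.1 F.Q hQR
  have hfix : cjP x (⟨R, g⟩ : BrauerPairIdx G) = ⟨R, g⟩ :=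
    cjP_eq_of_stabilizes hM hxN hRg.1.2 hxS
  have hxQ : x ∈ Subgroup.normalizer (F.Q : Set G) := by
    refine mem_normalizer_of_cjS_eq (Subgroup.eq_of_le_of_card_ge ?_ (by rw [card_cjS]))
    have hle' : cjS x F.Q ≤ F.P :=
      ((cjS_mono hQR).trans (cjS_eq_of_mem_normalizer hxN).le).trans hRP
    exact le_of_card_dvd_of_cyclic F.cyc hle' F.Q_le (by rw [card_cjS])
  have hfQ : (⟨F.Q, f'⟩ : BrauerPairIdx G) = ⟨F.Q, F.f⟩ :=
    below_ext hM F.hmax.1.1 (Relation.ReflTransGen.trans hf' hbel) (SubpairLE.step hM F.sub) rfl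
  have hstep : cjP x (⟨F.Q, F.f⟩ : BrauerPairIdx G) = ⟨F.Q, F.f⟩ := by
    refine below_ext hM F.hmax.1.1 ?_ (SubpairLE.step hM F.sub) (cjS_eq_of_mem_normalizer hxQ)
    rw [← hfQ]
    have h := SubpairLE.conj hM x hf'
    have h' : Relation.ReflTransGen (NormalSubpairRel p M) (cjP x (⟨F.Q, f'⟩ : BrauerPairIdx G))
        (cjP x (⟨R, g⟩ : BrauerPairIdx G)) := h
    rw [hfix] at h'
    exact Relation.ReflTransGen.trans h' hbel
  have hxf : StabilizesBlock (CQ F.Q) F.f x := by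
    rw [stabilizesBlock_iff hM hxQ F.block_f]
    exact cj_eG_of_cjP_fix hstep
  have hxC : x ∈ CQ F.Q := by
    obtain ⟨l, hl, h⟩ := F.cosets' (F.mem_T'_of hxQ hxf)
    rw [he, Nat.lt_one_iff] at hl
    rwa [hl, pow_zero, inv_one, one_mul] at h
  have hRcyc : IsCyclic R := by
    haveI := F.cyc
    exact isCyclic_of_injective (Subgroup.inclusion hRP) (Subgroup.inclusion_injective hRP)
  exact (commute_of_fix_cyclic hM.1 hRg.1.1 hRcyc hQR F.Q_ne hxN hxr
    (fun w hw => (Subgroup.mem_centralizer_iff.mp hxC w hw).symm) v hv).symm.eq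

end CfsgLib.Block.CyclicDefect
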