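import Cfsg.Agent.Lib.Block.CyclicDefect.Match
import Cfsg.Agent.Lib.Block.CyclicDefect.RankOneIff
import Cfsg.Agent.Lib.Block.CentralQuot
import Cfsg.Agent.Lib.Block.CycloTrace
import Cfsg.Agent.Lib.Block.Contrib

/-!
# The form of a block whose quotient by a central `p`-subgroup has a cyclic defect group

With a shape of the quotient block, the scaled form of the block is at least the inertial index on
the vectors where it is not zero, and the inertial index bounds the regular rank.
-/

open Finset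
open scoped ComplexConjugate

set_option autoImplicit false
set_option linter.unusedSectionVars false

namespace CfsgLib.Block.CyclicDefect

open Cfsg CfsgLib.Block CfsgLib.Block.Cyclic

universe u

variable {p : ℕ} [Fact p.Prime] {M : Ideal AlgInt} [M.IsMaximal]

/-- A local number with an integral multiple by a power of `p` is an integer. -/
theorem exists_int_of_mem_locRing (hM : IsPModular p M) :
    ∀ (k : ℕ) {x : ℂ}, x ∈ locRing M → ∀ z : ℤ, (p : ℂ) ^ k * x = z → ∃ w : ℤ, x = w := by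
  intro k
  induction k with
  | zero => intro x _ z h; exact ⟨z, by rwa [pow_zero, one_mul] at h⟩
  | succ k ih =>
    intro x hx z h
    have hy : (p : ℂ) ^ k * x ∈ locRing M := mul_mem (pow_mem (natCast_mem _ p) k) hx
    have hz : ((z : ℤ) : locRing M) = (p : locRing M) * ⟨_, hy⟩ := Subtype.ext (by
      push_cast
      rw [← h, pow_succ']
      ring)
    have := charP_resField (M := M) hM
    have h0 : (z : ResField M) = 0 := by
      rw [← map_intCast (res M), hz, map_mul, map_natCast, CharP.cast_eq_zero, zero_mul]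
    obtain ⟨z', rfl⟩ := (CharP.intCast_eq_zero_iff (ResField M) p z).mp h0
    refine ih hx z' (mul_left_cancel₀ (Nat.cast_ne_zero.mpr hM.1.ne_zero : (p : ℂ) ≠ 0) ?_)
    rw [← mul_assoc, ← pow_succ', h]
    push_cast
    rfl

/-- An average of a class function is local when its values over the centralizers are. -/
theorem average_mem_locRing {G : Type u} [Group G] [Fintype G] {f : G → ℂ}
    (hf : ∀ a b : G, f (b * a * b⁻¹) = f a)
    (hv : ∀ g, f g / (Nat.card (Subgroup.centralizer ({g} : Set G)) : ℂ) ∈ locRing M) :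
    (Nat.card G : ℂ)⁻¹ * ∑ g, f g ∈ locRing M := by
  classical
  have := Fintype.ofFinite (ConjClasses G)
  rw [Finset.mul_sum, ← Finset.sum_fiberwise Finset.univ ConjClasses.mk]
  refine sum_mem fun C _ => ?_
  rw [Finset.sum_congr rfl (g := fun _ => (Nat.card G : ℂ)⁻¹ * f (rep C)) fun x hx => by
    obtain ⟨c, hc⟩ := isConj_iff.mp (ConjClasses.mk_eq_mk_iff_isConj.mp
      ((mk_rep C).trans (Finset.mem_filter.mp hx).2.symm))
    rw [← hc, hf],
    Finset.sum_const, nsmul_eq_mul]
  have hcard : (Finset.univ.filter fun x : G => ConjClasses.mk x = C).card =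
      (Subgroup.centralizer ({rep C} : Set G)).index := by
    rw [← Char.card_isConj, Nat.card_eq_fintype_card, Fintype.card_subtype]
    congr 1
    ext x
    simp only [Finset.mem_filter, Finset.mem_univ, true_and]
    rw [← ConjClasses.mk_eq_mk_iff_isConj, mk_rep]
    exact eq_comm
  convert hv (rep C) using 1
  rw [hcard, ← Subgroup.index_mul_card (Subgroup.centralizer ({rep C} : Set G)), Nat.cast_mul]
  have h1 : ((Subgroup.centralizer ({rep C} : Set G)).index : ℂ) ≠ 0 :=
    Nat.cast_ne_zero.mpr Subgroup.index_ne_zero_of_finite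
  have h2 : (Nat.card (Subgroup.centralizer ({rep C} : Set G)) : ℂ) ≠ 0 :=
    Nat.cast_ne_zero.mpr Nat.card_pos.ne'
  field_simp

variable {A : Type u} [Group A] [Fintype A] [DecidableEq A] {Z : Subgroup A} [Z.Normal]
  [Fintype (A ⧸ Z)] [DecidableEq (A ⧸ Z)]

theorem classInner_pushReg_card (hZ : IsPGroup p Z) (hZc : Z ≤ Subgroup.center A) (f : A → ℂ)
    (g : A ⧸ Z → ℂ) :
    classInner (pushReg p Z f) g = (Nat.card Z : ℂ) * classInner (regFun p f) (fun a : A => g a) := by
  classical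
  have hA : (Nat.card A : ℂ) = (Nat.card (A ⧸ Z) : ℂ) * (Nat.card Z : ℂ) := by
    rw [Subgroup.card_eq_card_quotient_mul_card_subgroup Z]; push_cast; rfl
  have h1 : ∑ a : A, regFun p f a * conj (g a) = ∑ q : A ⧸ Z, pushReg p Z f q * conj (g q) := by
    rw [← Finset.sum_subset (Finset.filter_subset (fun q : A ⧸ Z => ¬ p ∣ orderOf q) Finset.univ)
      (fun q _ hq => by
        rw [Finset.mem_filter, not_and, not_not] at hq
        rw [pushReg_singular f (hq (Finset.mem_univ _)), zero_mul]),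
      ← sum_regular_mk hZ hZc (fun q => pushReg p Z f q * conj (g q)), Finset.sum_filter]
    refine Finset.sum_congr rfl fun a _ => ?_
    by_cases ha : p ∣ orderOf a
    · simp [regFun, ha]
    · simp [regFun, ha, pushReg_mk hZ hZc f ha]
  simp only [classInner, h1, hA, mul_inv]
  have hq0 : (Nat.card Z : ℂ) ≠ 0 := Nat.cast_ne_zero.mpr Nat.card_pos.ne'
  field_simp

/-- The elementary bound on the form. -/
theorem le_form_of_ne_zero {ι : Type*} (s : Finset ι) (w : ι → ℤ) (m : ℕ) (hm : 1 ≤ m)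
    (hw : ∃ i ∈ s, w i ≠ 0) :
    (s.card : ℤ) ≤ (1 + (m : ℤ) * s.card) * ∑ i ∈ s, w i ^ 2 - (m : ℤ) * (∑ i ∈ s, w i) ^ 2 := by
  classical
  set T := s.filter fun i => w i ≠ 0 with hT
  have hsub : T ⊆ s := Finset.filter_subset _ _
  have hsq : ∑ i ∈ s, w i ^ 2 = ∑ i ∈ T, w i ^ 2 := (Finset.sum_subset hsub fun i hi hiT => by
    rw [show w i = 0 by by_contra h; exact hiT (Finset.mem_filter.mpr ⟨hi, h⟩)]; ring).symm
  have hlin : ∑ i ∈ s, w i = ∑ i ∈ T, w i := (Finset.sum_subset hsub fun i hi hiT => by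
    by_contra h; exact hiT (Finset.mem_filter.mpr ⟨hi, h⟩)).symm
  have hcs : (∑ i ∈ T, w i) ^ 2 ≤ (T.card : ℤ) * ∑ i ∈ T, w i ^ 2 := sq_sum_le_card_mul_sum_sq
  have hge : (T.card : ℤ) ≤ ∑ i ∈ T, w i ^ 2 := by
    rw [Finset.card_eq_sum_ones, Nat.cast_sum, Nat.cast_one]
    refine Finset.sum_le_sum fun i hi => ?_
    have := (Finset.mem_filter.mp hi).2
    exact Int.add_one_le_iff.mpr (lt_of_le_of_ne (sq_nonneg _) (Ne.symm (pow_ne_zero _ this)))
  have ht : (T.card : ℤ) ≤ s.card := by exact_mod_cast Finset.card_le_card hsub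
  have hT1 : (1 : ℤ) ≤ T.card := by
    obtain ⟨i, hi, hne⟩ := hw
    exact_mod_cast Finset.card_pos.mpr ⟨i, Finset.mem_filter.mpr ⟨hi, hne⟩⟩
  rw [hsq, hlin]
  have hm' : (1 : ℤ) ≤ m := by exact_mod_cast hm
  have hcoef : (0 : ℤ) ≤ 1 + (m : ℤ) * ((s.card : ℤ) - T.card) :=
    add_nonneg zero_le_one (mul_nonneg (by omega) (by omega))
  nlinarith [mul_le_mul_of_nonneg_left hcs (by omega : (0 : ℤ) ≤ m),
    mul_le_mul_of_nonneg_left hge hcoef,
    mul_nonneg (mul_nonneg (by omega : (0 : ℤ) ≤ T.card) (by omega : (0 : ℤ) ≤ (m : ℤ) - 1))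
      (by omega : (0 : ℤ) ≤ (s.card : ℤ) - T.card),
    mul_nonneg (by omega : (0 : ℤ) ≤ (T.card : ℤ) - 1) (by omega : (0 : ℤ) ≤ (s.card : ℤ) - T.card)]

namespace Frame

variable {F : Frame p M (A ⧸ Z)} [Fintype (IrrCharacter (A ⧸ Z))] [Fintype (IrrCharacter (CQ F.Q))]
  [Fintype (IrrCharacter A)] (S : F.Shape)

/-- The projective combination dual to a member of `X`. -/
noncomputable def Shape.dual (χ : IrrCharacter (A ⧸ Z)) (θ : IrrCharacter (A ⧸ Z)) : ℤ := by
  classical
  exact (if θ = χ then 1 else 0) + (if ∃ o, θ = S.Y o then -(S.δ * S.u χ) else 0)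

theorem Shape.dual_zero {χ : IrrCharacter (A ⧸ Z)} (hχ : χ ∈ S.X) {θ : IrrCharacter (A ⧸ Z)}
    (hθ : θ ∉ F.B) : S.dual χ θ = 0 := by
  classical
  rw [Shape.dual, if_neg (fun e : θ = χ => hθ (e ▸ S.X_sub hχ)),
    if_neg (fun ⟨o, e⟩ => hθ (e ▸ S.Y_mem o)), add_zero]

theorem Shape.sum_dual {χ : IrrCharacter (A ⧸ Z)} (hχ : χ ∈ S.X) (g : IrrCharacter (A ⧸ Z) → ℂ) :
    ∑ θ, (S.dual χ θ : ℂ) * g θ = g χ - (S.δ : ℂ) * S.u χ * ∑ o, g (S.Y o) := by
  classical
  simp only [Shape.dual]
  push_cast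
  simp only [add_mul, ite_mul, one_mul, zero_mul, Finset.sum_add_distrib, Finset.sum_ite_eq',
    Finset.mem_univ, if_true]
  rw [← Finset.sum_filter, show (Finset.univ.filter fun θ => ∃ o, θ = S.Y o) = Finset.univ.image S.Y by
    ext θ; simp [eq_comm], Finset.sum_image fun _ _ _ _ h => S.Y_inj h, ← Finset.mul_sum]
  ring

theorem Shape.dual_vanish {χ : IrrCharacter (A ⧸ Z)} (hχ : χ ∈ S.X) {g : A ⧸ Z}
    (hg : p ∣ orderOf g) : ∑ θ, (S.dual χ θ : ℂ) * (θ : A ⧸ Z → ℂ) g = 0 := by
  classical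
  refine F.vanish_singular _ (fun θ hθ => by rw [S.dual_zero hχ hθ, Int.cast_zero])
    (fun i => S.sum_wv_eq_zero _ (fun o => ?_) i) hg
  rw [S.sum_dual hχ (fun θ => (S.u θ : ℂ))]
  simp only [S.u_Y, Int.cast_zero, Finset.sum_const_zero, mul_zero, sub_zero, Shape.dual,
    if_neg (fun e : S.Y o = χ => ((S.X_eq χ).mp hχ).2 o e.symm), zero_add,
    if_pos (⟨o, rfl⟩ : ∃ o', S.Y o = S.Y o')]
  push_cast
  linear_combination (-(S.u χ : ℂ)) * S.δ_cast_sq

variable (p Z) in
/-- The image in the quotient of a combination on the regular elements. -/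
noncomputable def qPush (v : IrrCharacter A → ℂ) : A ⧸ Z → ℂ :=
  pushReg p Z (fun a => ∑ η, v η * (η : A → ℂ) a)

variable (p Z) in
/-- Its coefficients. -/
noncomputable def qCoef (v : IrrCharacter A → ℂ) (θ : IrrCharacter (A ⧸ Z)) : ℂ :=
  classInner (qPush p Z v) (θ : A ⧸ Z → ℂ)

theorem coef_eq (hZ : IsPGroup p Z) (hZc : Z ≤ Subgroup.center A) (v : IrrCharacter A → ℂ)
    (θ : IrrCharacter (A ⧸ Z)) :
    qCoef p Z v θ = (Nat.card Z : ℂ) * ∑ η, v η * regInner p η (inflQ θ) := by
  rw [qCoef, qPush, classInner_pushReg_card hZ hZc]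
  congr 1
  simp only [regInner, classInner, Finset.mul_sum]
  rw [Finset.sum_comm]
  refine Finset.sum_congr rfl fun a _ => ?_
  simp only [regFun, inflQ_apply]
  split_ifs with h
  · simp
  · rw [Finset.sum_mul, Finset.mul_sum]
    exact Finset.sum_congr rfl fun η _ => by ring

theorem isClassFunction_qPush (hZ : IsPGroup p Z) (hZc : Z ≤ Subgroup.center A)
    (v : IrrCharacter A → ℂ) : IsClassFunction (A ⧸ Z) (qPush p Z v) :=
  isClassFunction_pushReg hZ hZc fun a b => Finset.sum_congr rfl fun η _ => by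
    rw [Char.isClassFunction_irr η]

theorem coef_eq_zero (hM : IsPModular p M) (hZ : IsPGroup p Z) (hZc : Z ≤ Subgroup.center A)
    {b : Set (IrrCharacter A)} (hb : IsPBlock M b) (hq : ∀ θ, inflQ θ ∈ b → θ ∈ F.B)
    {v : IrrCharacter A → ℂ} (hv : ∀ η, η ∉ b → v η = 0) {θ : IrrCharacter (A ⧸ Z)}
    (hθ : θ ∉ F.B) : qCoef p Z v θ = 0 := by
  classical
  rw [coef_eq hZ hZc, Finset.sum_eq_zero fun η _ => ?_, mul_zero]
  by_cases hη : η ∈ b
  · rw [regInner_eq_zero_of_not_mem hM (IsBlockUnion.of_isPBlock hb) hη (fun h => hθ (hq θ h)),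
      mul_zero]
  · rw [hv η hη, zero_mul]

include S in
theorem Shape.relation_push (hZ : IsPGroup p Z) (hZc : Z ≤ Subgroup.center A)
    (v : IrrCharacter A → ℂ) (o : F.Orb) :
    (S.δ : ℂ) * qCoef p Z v (S.Y o) + ∑ θ, (S.u θ : ℂ) * qCoef p Z v θ = 0 := by
  classical
  simp only [qCoef, classInner, Finset.mul_sum]
  rw [Finset.sum_comm, ← Finset.sum_add_distrib]
  refine Finset.sum_eq_zero fun g _ => ?_
  by_cases hg : p ∣ orderOf g
  · simp [qPush, pushReg_singular _ hg]
  · have h := congrArg (starRingEnd ℂ) (S.relation o hg)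
    simp only [map_add, map_mul, map_sum, map_intCast, map_zero] at h
    calc _ = (Nat.card (A ⧸ Z) : ℂ)⁻¹ * qPush p Z v g *
          ((S.δ : ℂ) * conj ((S.Y o : A ⧸ Z → ℂ) g) +
            ∑ θ, (S.u θ : ℂ) * conj ((θ : A ⧸ Z → ℂ) g)) := by
          rw [mul_add, Finset.mul_sum]
          congr 1
          · ring
          · exact Finset.sum_congr rfl fun θ _ => by ring
      _ = 0 := by rw [h, mul_zero]

/-- The coordinate at a member of `X`. -/
noncomputable def Shape.coord (v : IrrCharacter A → ℂ) (χ : IrrCharacter (A ⧸ Z)) : ℂ :=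
  ∑ θ, (S.dual χ θ : ℂ) * qCoef p Z v θ

/-- The sum of the coordinates with their signs. -/
noncomputable def Shape.coordSum (v : IrrCharacter A → ℂ) : ℂ :=
  ∑ χ ∈ (Set.toFinite S.X).toFinset, (S.u χ : ℂ) * S.coord v χ

theorem Shape.coef_X (hZ : IsPGroup p Z) (hZc : Z ≤ Subgroup.center A)
    (v : IrrCharacter A → ℂ) {χ : IrrCharacter (A ⧸ Z)} (hχ : χ ∈ S.X) :
    (Nat.card F.P : ℂ) * qCoef p Z v χ = (Nat.card F.P : ℂ) * S.coord v χ -
      (Fintype.card F.Orb : ℂ) * S.u χ * S.coordSum v ∧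
    ∀ o, (Nat.card F.P : ℂ) * qCoef p Z v (S.Y o) = -(S.δ : ℂ) * S.coordSum v := by
  classical
  set β := ∑ θ, (S.u θ : ℂ) * qCoef p Z v θ with hβ
  have hY : ∀ o, qCoef p Z v (S.Y o) = -(S.δ : ℂ) * β := fun o => by
    have h := S.relation_push hZ hZc v o
    linear_combination (S.δ : ℂ) * h - qCoef p Z v (S.Y o) * S.δ_cast_sq
  have hco : ∀ ψ ∈ S.X, S.coord v ψ = qCoef p Z v ψ + (Fintype.card F.Orb : ℂ) * S.u ψ * β := by
    intro ψ hψ
    rw [Shape.coord, S.sum_dual hψ, Finset.sum_congr rfl fun o _ => hY o, Finset.sum_const,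
      Finset.card_univ, nsmul_eq_mul]
    linear_combination ((Fintype.card F.Orb : ℂ) * S.u ψ * β) * S.δ_cast_sq
  have hXc : (Set.toFinite S.X).toFinset.card = F.e := by
    rw [← S.card_X, Nat.card_coe_set_eq, Set.ncard_eq_toFinset_card _ (Set.toFinite S.X)]
  have hn : (Nat.card F.P : ℂ) = (Fintype.card F.Orb : ℂ) * F.e + 1 := by
    exact_mod_cast F.card_orb_mul.symm
  have hS : S.coordSum v = (Nat.card F.P : ℂ) * β := by
    rw [Shape.coordSum, Finset.sum_congr rfl (g := fun ψ => (S.u ψ : ℂ) * qCoef p Z v ψ +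
      (Fintype.card F.Orb : ℂ) * β) fun ψ hψ => by
        have hψ' : ψ ∈ S.X := by simpa using hψ
        rw [hco ψ hψ']
        linear_combination ((Fintype.card F.Orb : ℂ) * β) * S.u_cast_sq hψ',
      Finset.sum_add_distrib, Finset.sum_const, hXc, nsmul_eq_mul,
      Finset.sum_subset (Finset.subset_univ _) fun ψ _ hψ => by
        rw [S.u_out ψ (by simpa using hψ), Int.cast_zero, zero_mul], ← hβ, hn]
    ring
  refine ⟨?_, fun o => ?_⟩
  · rw [hco χ hχ, hS]; ring
  · rw [hY o, hS]; ring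

theorem Shape.coef_eq_zero_of_coord (hM : IsPModular p M) (hZ : IsPGroup p Z)
    (hZc : Z ≤ Subgroup.center A) {b : Set (IrrCharacter A)} (hb : IsPBlock M b)
    (hq : ∀ θ, inflQ θ ∈ b → θ ∈ F.B) {v : IrrCharacter A → ℂ} (hv : ∀ η, η ∉ b → v η = 0)
    (h0 : ∀ χ ∈ S.X, S.coord v χ = 0) (θ : IrrCharacter (A ⧸ Z)) : qCoef p Z v θ = 0 := by
  classical
  have hS : S.coordSum v = 0 := Finset.sum_eq_zero fun χ hχ => by
    rw [h0 χ (by simpa using hχ), mul_zero]
  obtain ⟨χ₀, hχ₀⟩ := S.X_nonempty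
  have hn : (Nat.card F.P : ℂ) ≠ 0 := Nat.cast_ne_zero.mpr Nat.card_pos.ne'
  by_cases hθ : θ ∈ F.B
  · by_cases hY : ∃ o, θ = S.Y o
    · obtain ⟨o, rfl⟩ := hY
      have h := (S.coef_X hZ hZc v hχ₀).2 o
      rw [hS, mul_zero] at h
      exact (mul_eq_zero.mp h).resolve_left hn
    · push Not at hY
      have hX : θ ∈ S.X := (S.X_eq θ).mpr ⟨hθ, hY⟩
      have h := (S.coef_X hZ hZc v hX).1
      rw [h0 θ hX, hS, mul_zero, mul_zero, sub_zero] at h
      exact (mul_eq_zero.mp h).resolve_left hn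
  · exact coef_eq_zero hM hZ hZc hb hq hv hθ

include S in
/-- The regular rank is at most the inertial index of the quotient block. -/
theorem Shape.blockRank_le_e (hM : IsPModular p M) (hZ : IsPGroup p Z)
    (hZc : Z ≤ Subgroup.center A) {b : Set (IrrCharacter A)} (hb : IsPBlock M b)
    (hq : ∀ θ, inflQ θ ∈ b → θ ∈ F.B) : blockRank p b ≤ F.e := by
  classical
  let I := {η : IrrCharacter A // η ∈ b}
  let L : (I → ℂ) →ₗ[ℂ] (A → ℂ) :=
    Fintype.linearCombination ℂ (fun η : I => pRegularPart p (η.1 : A → ℂ))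
  let ext : (I → ℂ) → IrrCharacter A → ℂ := fun c η => if h : η ∈ b then c ⟨η, h⟩ else 0
  have hext0 : ∀ c η, η ∉ b → ext c η = 0 := fun c η hη => dif_neg hη
  have hextsum : ∀ (c : I → ℂ) (g : IrrCharacter A → ℂ), ∑ η, ext c η * g η = ∑ i : I, c i * g i.1 := by
    intro c g
    rw [← Finset.sum_subset (Finset.subset_univ (Finset.univ.filter (· ∈ b))) fun η _ hη => by
      rw [hext0 c η (by simpa using hη), zero_mul],
      Finset.sum_subtype (p := fun η => η ∈ b) _ (fun η => by simp)]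
    exact Finset.sum_congr rfl fun i _ => by simp only [ext, dif_pos i.2]
  let K : (I → ℂ) →ₗ[ℂ] (S.X → ℂ) :=
    { toFun := fun c χ => S.coord (ext c) χ.1
      map_add' := fun c c' => funext fun χ => by
        simp only [Shape.coord, coef_eq hZ hZc, hextsum, Pi.add_apply, add_mul, mul_add,
          Finset.sum_add_distrib]
      map_smul' := fun r c => funext fun χ => by
        simp only [Shape.coord, coef_eq hZ hZc, hextsum, Pi.smul_apply, smul_eq_mul, RingHom.id_apply,
          Finset.mul_sum]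
        exact Finset.sum_congr rfl fun θ _ => Finset.sum_congr rfl fun i _ => by ring }
  have hker : LinearMap.ker K ≤ LinearMap.ker L := by
    intro c hc
    rw [LinearMap.mem_ker] at hc ⊢
    have h0 := S.coef_eq_zero_of_coord hM hZ hZc hb hq (hext0 c)
      (fun χ hχ => congrFun hc ⟨χ, hχ⟩)
    have hpush : qPush p Z (ext c) = 0 := by
      rw [Char.classFun_expand (isClassFunction_qPush hZ hZc (ext c))]
      refine Finset.sum_eq_zero fun θ _ => ?_
      rw [show classInner (qPush p Z (ext c)) (θ : A ⧸ Z → ℂ) = qCoef p Z (ext c) θ from rfl, h0, zero_smul]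
    funext a
    simp only [L, Fintype.linearCombination_apply, Finset.sum_apply, Pi.smul_apply, smul_eq_mul,
      Pi.zero_apply, pRegularPart, IsPRegular]
    by_cases ha : p ∣ orderOf a
    · simp [ha]
    · simp only [ha, not_false_eq_true, if_true]
      have h := congrFun hpush (a : A ⧸ Z)
      simp only [qPush, pushReg_mk hZ hZc _ ha, Pi.zero_apply, hextsum] at h
      exact h
  have hrange : blockRank p b = Module.finrank ℂ (LinearMap.range L) := by
    rw [blockRank, Fintype.range_linearCombination,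
      show Set.range (fun η : I => pRegularPart p (η.1 : A → ℂ)) =
        (fun η : IrrCharacter A => pRegularPart p (η : A → ℂ)) '' b by
      rw [Set.image_eq_range]]
  have h1 := LinearMap.finrank_range_add_finrank_ker L
  have h2 := LinearMap.finrank_range_add_finrank_ker K
  have h3 := Submodule.finrank_mono hker
  have h4 : Module.finrank ℂ (LinearMap.range K) ≤ F.e := by
    refine (Submodule.finrank_le _).trans ?_
    rw [Module.finrank_fintype_fun_eq_card, ← Nat.card_eq_fintype_card, S.card_X]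
  omega

/-- The coordinates of an integral combination are integers. -/
theorem Shape.exists_int_coord (hM : IsPModular p M) (hZ : IsPGroup p Z)
    (hZc : Z ≤ Subgroup.center A) {b : Set (IrrCharacter A)}
    {v : IrrCharacter A → ℤ} (hv : ∀ η, η ∉ b → v η = 0) {χ : IrrCharacter (A ⧸ Z)} (hχ : χ ∈ S.X) :
    ∃ w : ℤ, S.coord (fun η => (v η : ℂ)) χ = w := by
  classical
  have hint : ∀ θ, ∃ z : ℤ,
      (p : ℂ) ^ blockDefect p b * qCoef p Z (fun η => (v η : ℂ)) θ = z := by
    intro θ
    have := Fintype.ofFinite (ConjClasses A)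
    have hz : ∀ η, ∃ z : ℤ, (v η : ℂ) * ((p : ℂ) ^ blockDefect p b * regInner p η (inflQ θ)) = z := by
      intro η
      by_cases hη : η ∈ b
      · obtain ⟨z, hz, -⟩ := exists_scaled_regInner hM (le_degVal_add_blockDefect (p := p) hη) (inflQ θ)
        exact ⟨v η * z, by rw [hz]; push_cast; rfl⟩
      · exact ⟨0, by rw [hv η hη]; simp⟩
    choose z hz using hz
    refine ⟨(Nat.card Z : ℤ) * ∑ η, z η, ?_⟩
    push_cast
    simp only [coef_eq hZ hZc, ← hz, Finset.mul_sum]
    exact Finset.sum_congr rfl fun η _ => by ring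
  choose z hz using hint
  refine exists_int_of_mem_locRing hM (blockDefect p b) ?_ (∑ θ, S.dual χ θ * z θ) ?_
  · -- local: the dual vanishes on the singular elements
    set Φ : A ⧸ Z → ℂ := fun g => ∑ θ, (S.dual χ θ : ℂ) * (θ : A ⧸ Z → ℂ) g with hΦ
    have hco : S.coord (fun η => (v η : ℂ)) χ = (Nat.card (A ⧸ Z) : ℂ)⁻¹ *
        ∑ g, qPush p Z (fun η => (v η : ℂ)) g * conj (Φ g) := by
      simp only [Shape.coord, qCoef, classInner, hΦ, map_sum, map_mul, map_intCast, Finset.mul_sum]
      rw [Finset.sum_comm]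
      exact Finset.sum_congr rfl fun g _ => Finset.sum_congr rfl fun θ _ => by ring
    rw [hco]
    refine average_mem_locRing (fun a c => ?_) fun g => ?_
    · rw [isClassFunction_qPush hZ hZc _ a c]
      congr 2
      exact Finset.sum_congr rfl fun θ _ => by rw [Char.isClassFunction_irr θ]
    by_cases hg : p ∣ orderOf g
    · rw [qPush, pushReg_singular _ hg, zero_mul, zero_div]
      exact zero_mem _
    rw [mul_div_assoc]
    refine mul_mem ?_ ?_
    · obtain ⟨a, ha, rfl⟩ := exists_regular_lift hZ hg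
      rw [qPush, pushReg_mk hZ hZc _ ha]
      exact sum_mem fun η _ => mul_mem (intCast_mem _ _)
        (integral_mem M (Char.isCharacter_isIntegral (Char.isCharacter_irr η) _))
    · have h := regular_div_mem hM (fun θ => (S.dual χ θ : ℂ)) (fun θ => intCast_mem _ _)
        (fun g' hg' => S.dual_vanish hχ hg') (s := g⁻¹) (by rwa [orderOf_inv])
      rw [show conj (Φ g) = ∑ θ, (S.dual χ θ : ℂ) * (θ : A ⧸ Z → ℂ) g⁻¹ by
        simp only [hΦ, map_sum, map_mul, map_intCast, ← Char.irr_inv]]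
      rwa [show Subgroup.centralizer ({g⁻¹} : Set (A ⧸ Z)) = Subgroup.centralizer ({g} : Set (A ⧸ Z)) by
        ext x
        rw [Subgroup.mem_centralizer_singleton_iff, Subgroup.mem_centralizer_singleton_iff]
        exact Commute.inv_right_iff] at h
  · rw [Shape.coord, Finset.mul_sum]
    push_cast
    exact Finset.sum_congr rfl fun θ _ => by rw [← hz θ]; ring

open scoped Classical in
include S in
/-- The scaled form is at least the inertial index. -/
theorem Shape.e_le_form (hM : IsPModular p M) (hZ : IsPGroup p Z) (hZc : Z ≤ Subgroup.center A)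
    {b : Set (IrrCharacter A)} (hb : IsPBlock M b) (hq : ∀ θ, inflQ θ ∈ b → θ ∈ F.B)
    (hd : p ^ blockDefect p b = Nat.card Z * Nat.card F.P)
    (Zm : {η // η ∈ b} → {η // η ∈ b} → ℤ)
    (hZm : ∀ η ζ, (Zm η ζ : ℂ) = (p : ℂ) ^ blockDefect p b * regInner p η.1 ζ.1)
    (v : {η // η ∈ b} → ℤ) (hne : hform Zm v ≠ 0) : (F.e : ℤ) ≤ hform Zm v := by
  classical
  let w : IrrCharacter A → ℤ := fun η => if h : η ∈ b then v ⟨η, h⟩ else 0
  have hw0 : ∀ η, η ∉ b → w η = 0 := fun η hη => dif_neg hη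
  set vc : IrrCharacter A → ℂ := fun η => (w η : ℂ) with hvc
  have hvc0 : ∀ η, η ∉ b → vc η = 0 := fun η hη => by simp [vc, hw0 η hη]
  choose! c hc using fun χ (hχ : χ ∈ S.X) => S.exists_int_coord hM hZ hZc hw0 hχ
  set T := (Set.toFinite S.X).toFinset with hT
  have hTX : ∀ χ, χ ∈ T ↔ χ ∈ S.X := fun χ => by simp [T]
  have hTc : T.card = F.e := by
    rw [hT, ← S.card_X, Nat.card_coe_set_eq, Set.ncard_eq_toFinset_card _ (Set.toFinite S.X)]
  -- the form as a norm
  have hconj : ∀ θ, conj (qCoef p Z vc θ) = qCoef p Z vc θ := fun θ => by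
    simp only [coef_eq hZ hZc, vc, map_mul, map_natCast, map_sum, map_intCast, conj_regInner]
    exact congrArg _ (Finset.sum_congr rfl fun η _ => by rw [regInner_comm hM])
  have hnorm : (Nat.card F.P : ℂ) * ∑ θ, qCoef p Z vc θ * qCoef p Z vc θ = ((hform Zm v : ℤ) : ℂ) := by
    have h1 : ∑ θ, qCoef p Z vc θ * qCoef p Z vc θ =
        classInner (qPush p Z vc) (qPush p Z vc) := by
      conv_rhs => arg 2; rw [Char.classFun_expand (isClassFunction_qPush hZ hZc vc)]
      rw [Char.classInner_sum_right]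
      exact Finset.sum_congr rfl fun θ _ => by
        rw [Char.classInner_smul_right, show classInner (qPush p Z vc) (θ : A ⧸ Z → ℂ) = qCoef p Z vc θ from rfl,
          hconj]
    have h2 : classInner (qPush p Z vc) (qPush p Z vc) = (Nat.card Z : ℂ) *
        ∑ η, ∑ ζ, vc η * vc ζ * regInner p η ζ := by
      rw [qPush, classInner_pushReg_card hZ hZc]
      congr 1
      simp only [regInner, classInner, Finset.mul_sum]
      rw [Finset.sum_congr rfl fun η _ => Finset.sum_comm, Finset.sum_comm]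
      refine Finset.sum_congr rfl fun a _ => ?_
      simp only [regFun]
      split_ifs with ha
      · simp
      · rw [pushReg_mk hZ hZc _ ha, map_sum, Finset.sum_mul_sum, Finset.mul_sum]
        refine Finset.sum_congr rfl fun η _ => ?_
        rw [Finset.mul_sum]
        refine Finset.sum_congr rfl fun ζ _ => ?_
        simp only [vc, map_mul, map_intCast]
        ring
    have hsub : ∀ g : IrrCharacter A → ℂ, ∑ η, vc η * g η = ∑ i : {η // η ∈ b}, (v i : ℂ) * g i.1 := by
      intro g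
      rw [← Finset.sum_subset (Finset.subset_univ (Finset.univ.filter (· ∈ b))) fun η _ hη => by
        rw [hvc0 η (by simpa using hη), zero_mul],
        Finset.sum_subtype (p := fun η => η ∈ b) _ (fun η => by simp)]
      exact Finset.sum_congr rfl fun i _ => by simp only [vc, w, dif_pos i.2]
    rw [h1, h2, ← mul_assoc, ← Nat.cast_mul, mul_comm (Nat.card F.P), ← hd]
    simp only [hform, Int.cast_sum, Int.cast_mul, hZm, Finset.mul_sum]
    push_cast
    rw [Finset.sum_congr rfl (g := fun η => vc η * ∑ ζ, vc ζ * ((p : ℂ) ^ blockDefect p b * regInner p η ζ))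
      fun η _ => by rw [Finset.mul_sum]; exact Finset.sum_congr rfl fun ζ _ => by ring, hsub]
    refine Finset.sum_congr rfl fun i _ => ?_
    rw [hsub, Finset.mul_sum]
    exact Finset.sum_congr rfl fun j _ => by ring
  set Sz : ℤ := ∑ χ ∈ T, S.u χ * c χ with hSz
  have hSum : S.coordSum vc = (Sz : ℂ) := by
    rw [Shape.coordSum, hSz]
    push_cast
    exact Finset.sum_congr rfl fun χ hχ => by rw [hc χ ((hTX χ).mp hχ)]
  obtain ⟨χ₀, hχ₀⟩ := S.X_nonempty
  set n : ℂ := (Nat.card F.P : ℂ) with hn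
  have hn1 : n = (Fintype.card F.Orb : ℂ) * F.e + 1 := by
    rw [hn]; exact_mod_cast F.card_orb_mul.symm
  have hn0 : n ≠ 0 := Nat.cast_ne_zero.mpr Nat.card_pos.ne'
  have hsplit : ∑ θ, qCoef p Z vc θ * qCoef p Z vc θ =
      ∑ χ ∈ T, qCoef p Z vc χ * qCoef p Z vc χ + ∑ o, qCoef p Z vc (S.Y o) * qCoef p Z vc (S.Y o) := by
    rw [← Finset.sum_image (s := (Finset.univ : Finset F.Orb)) (g := S.Y)
      (f := fun θ => qCoef p Z vc θ * qCoef p Z vc θ) fun _ _ _ _ h => S.Y_inj h, ← Finset.sum_union]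
    · refine (Finset.sum_subset (Finset.subset_univ _) fun θ _ hθ => ?_).symm
      simp only [Finset.mem_union, hTX, Finset.mem_image, Finset.mem_univ, true_and, not_or,
        not_exists] at hθ
      rw [coef_eq_zero hM hZ hZc hb hq hvc0 (fun h => hθ.1 ((S.X_eq θ).mpr ⟨h,
        fun o ho => hθ.2 o ho.symm⟩)), mul_zero]
    · refine Finset.disjoint_left.mpr fun θ hθ hY => ?_
      obtain ⟨o, -, rfl⟩ := Finset.mem_image.mp hY
      exact ((S.X_eq _).mp ((hTX _).mp hθ)).2 o rfl
  have hmain : ((hform Zm v : ℤ) : ℂ) = n * ((∑ χ ∈ T, (S.u χ * c χ) ^ 2 : ℤ) : ℂ) -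
      (Fintype.card F.Orb : ℂ) * (Sz : ℂ) ^ 2 := by
    apply mul_left_cancel₀ hn0
    have hX : ∀ χ ∈ T, n * qCoef p Z vc χ * (n * qCoef p Z vc χ) = n ^ 2 * ((S.u χ * c χ : ℤ) : ℂ) ^ 2 -
        2 * n * (Fintype.card F.Orb : ℂ) * Sz * ((S.u χ * c χ : ℤ) : ℂ) +
          (Fintype.card F.Orb : ℂ) ^ 2 * (Sz : ℂ) ^ 2 := fun χ hχ => by
      have hχ' := (hTX χ).mp hχ
      rw [(S.coef_X hZ hZc vc hχ').1, hSum, hc χ hχ']
      push_cast
      linear_combination ((Fintype.card F.Orb : ℂ) ^ 2 * (Sz : ℂ) ^ 2 - n ^ 2 * (c χ : ℂ) ^ 2) *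
        S.u_cast_sq hχ'
    have hY : ∀ o, n * qCoef p Z vc (S.Y o) * (n * qCoef p Z vc (S.Y o)) = (Sz : ℂ) ^ 2 := fun o => by
      rw [(S.coef_X hZ hZc vc hχ₀).2 o, hSum]
      linear_combination (Sz : ℂ) ^ 2 * S.δ_cast_sq
    have he : n * ((hform Zm v : ℤ) : ℂ) = ∑ χ ∈ T, n * qCoef p Z vc χ * (n * qCoef p Z vc χ) +
        ∑ o, n * qCoef p Z vc (S.Y o) * (n * qCoef p Z vc (S.Y o)) := by
      rw [← hnorm, hsplit, mul_add, mul_add, Finset.mul_sum, Finset.mul_sum, Finset.mul_sum,
        Finset.mul_sum]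
      congr 1 <;> exact Finset.sum_congr rfl fun _ _ => by ring
    rw [he, Finset.sum_congr rfl hX, Finset.sum_congr rfl fun o _ => hY o, Finset.sum_add_distrib,
      Finset.sum_sub_distrib, ← Finset.mul_sum, ← Finset.mul_sum, Finset.sum_const, Finset.sum_const,
      Finset.card_univ, hTc, nsmul_eq_mul, nsmul_eq_mul, hSz, hn1]
    push_cast
    ring
  have hint : hform Zm v = (1 + (Fintype.card F.Orb : ℤ) * T.card) * (∑ χ ∈ T, (S.u χ * c χ) ^ 2) -
      (Fintype.card F.Orb : ℤ) * Sz ^ 2 := by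
    apply Int.cast_injective (α := ℂ)
    rw [hmain, hn1, hTc]
    push_cast
    ring
  have hsome : ∃ χ ∈ T, S.u χ * c χ ≠ 0 := by
    by_contra hall
    push Not at hall
    refine hne ?_
    rw [hint, Finset.sum_eq_zero fun χ hχ => by rw [hall χ hχ]; ring,
      show Sz = 0 from Finset.sum_eq_zero hall]
    ring
  rw [hint, ← hTc]
  exact le_form_of_ne_zero T (fun χ => S.u χ * c χ) _ (Fintype.card_pos_iff.mpr F.orb_nonempty) hsome

end Frame

open scoped Classical in
/-- The regular rank is at most the number of members of the quotient block. -/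
theorem blockRank_le_card_quot [Fintype (IrrCharacter A)] [Fintype (IrrCharacter (A ⧸ Z))]
    (hM : IsPModular p M) (hZ : IsPGroup p Z) (hZc : Z ≤ Subgroup.center A)
    {b : Set (IrrCharacter A)} (hb : IsPBlock M b) : blockRank p b ≤ Nat.card (quotSet Z b) := by
  let I := {η : IrrCharacter A // η ∈ b}
  let L : (I → ℂ) →ₗ[ℂ] (A → ℂ) :=
    Fintype.linearCombination ℂ (fun η : I => pRegularPart p (η.1 : A → ℂ))
  let K : (I → ℂ) →ₗ[ℂ] (quotSet Z b → ℂ) :=
    Fintype.linearCombination ℂ (fun (η : I) (θ : quotSet Z b) =>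
      (Nat.card Z : ℂ) * regInner p η.1 (inflQ θ.1))
  have hker : LinearMap.ker K ≤ LinearMap.ker L := by
    intro c hc
    rw [LinearMap.mem_ker] at hc ⊢
    let vc : IrrCharacter A → ℂ := fun η => if h : η ∈ b then c ⟨η, h⟩ else 0
    have hsum : ∀ g : IrrCharacter A → ℂ, ∑ η, vc η * g η = ∑ i : I, c i * g i.1 := by
      intro g
      rw [← Finset.sum_subset (Finset.subset_univ (Finset.univ.filter (· ∈ b))) fun η _ hη => by
        simp only [vc, dif_neg (show η ∉ b by simpa using hη), zero_mul],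
        Finset.sum_subtype (p := fun η => η ∈ b) _ (fun η => by simp)]
      exact Finset.sum_congr rfl fun i _ => by simp only [vc, dif_pos i.2]
    have h0 : ∀ θ, Frame.qCoef p Z vc θ = 0 := by
      intro θ
      rw [Frame.coef_eq hZ hZc]
      by_cases hθ : θ ∈ quotSet Z b
      · have h := congrFun hc ⟨θ, hθ⟩
        simp only [K, Fintype.linearCombination_apply, Finset.sum_apply, Pi.smul_apply, smul_eq_mul,
          Pi.zero_apply] at h
        rw [hsum, Finset.mul_sum, ← h]
        exact Finset.sum_congr rfl fun i _ => by ring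
      · rw [Finset.sum_eq_zero fun η _ => ?_, mul_zero]
        by_cases hη : η ∈ b
        · rw [regInner_eq_zero_of_not_mem hM (IsBlockUnion.of_isPBlock hb) hη
            (fun h => hθ h), mul_zero]
        · simp [vc, hη]
    have hpush : Frame.qPush p Z vc = 0 := by
      rw [Char.classFun_expand (Frame.isClassFunction_qPush hZ hZc vc)]
      refine Finset.sum_eq_zero fun θ _ => ?_
      rw [show classInner (Frame.qPush p Z vc) (θ : A ⧸ Z → ℂ) = Frame.qCoef p Z vc θ from rfl, h0,
        zero_smul]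
    funext a
    simp only [L, Fintype.linearCombination_apply, Finset.sum_apply, Pi.smul_apply, smul_eq_mul,
      Pi.zero_apply, pRegularPart, IsPRegular]
    by_cases ha : p ∣ orderOf a
    · simp [ha]
    · simp only [ha, not_false_eq_true, if_true]
      have h := congrFun hpush (a : A ⧸ Z)
      simp only [Frame.qPush, pushReg_mk hZ hZc _ ha, Pi.zero_apply, hsum] at h
      exact h
  have hrange : blockRank p b = Module.finrank ℂ (LinearMap.range L) := by
    rw [blockRank, Fintype.range_linearCombination,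
      show Set.range (fun η : I => pRegularPart p (η.1 : A → ℂ)) =
        (fun η : IrrCharacter A => pRegularPart p (η : A → ℂ)) '' b by
      rw [Set.image_eq_range]]
  have h1 := LinearMap.finrank_range_add_finrank_ker L
  have h2 := LinearMap.finrank_range_add_finrank_ker K
  have h3 := Submodule.finrank_mono hker
  have h4 : Module.finrank ℂ (LinearMap.range K) ≤ Nat.card (quotSet Z b) := by
    refine (Submodule.finrank_le _).trans ?_
    rw [Module.finrank_fintype_fun_eq_card, Nat.card_eq_fintype_card]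
  omega

end CfsgLib.Block.CyclicDefect
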