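import Cfsg.Agent.Lib.Block.CyclicPairs
import Mathlib.RingTheory.RootsOfUnity.Basic
import Mathlib.GroupTheory.SpecificGroups.Cyclic

/-!
# The local frame of a block with cyclic defect group

A maximal pair `(P, c)` with `P` cyclic, the pair `(Q, f)` below it on the subgroup of order `p`,
the stabilizer `T` of `(P, c)`, a generator `t` of `T` modulo `C(P)` and the exponent `r` by which it
acts on `P`.
-/

open Finset

set_option autoImplicit false
set_option linter.unusedSectionVars false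

namespace CfsgLib.Block.CyclicDefect

open Cfsg CfsgLib.Block
open scoped Pair Pointwise

universe u

variable {p : ℕ} {M : Ideal AlgInt} [M.IsMaximal] {G : Type u} [Group G] [Fintype G] [DecidableEq G]
  [Fintype (IrrCharacter G)]

variable (p M G) in
/-- The local frame of a block with cyclic defect group. -/
structure Frame where
  hM : IsPModular p M
  B : Set (IrrCharacter G)
  P : Subgroup G
  c : Set (IrrCharacter (CQ P))
  hmax : IsMaximalBrauerPair p M B P c
  cyc : IsCyclic P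
  ne : P ≠ ⊥
  Q : Subgroup G
  Q_le : Q ≤ P
  Q_card : Nat.card Q = p
  f : Set (IrrCharacter (CQ Q))
  sub : NSub p M Q f P c
  T : Subgroup G
  mem_T : ∀ g : G, g ∈ T ↔ g ∈ Subgroup.normalizer (P : Set G) ∧ StabilizesBlock (CQ P) c g

namespace Frame

variable (F : Frame p M G)

include F in
theorem prime : p.Prime := F.hM.1

theorem isPGroup : IsPGroup p F.P := F.hmax.1.1.1

theorem hB : IsPBlock M F.B := F.hmax.1.2.1

theorem block_f : IsPBlock M F.f := F.sub.pairL.2

theorem Q_ne : F.Q ≠ ⊥ := fun h => by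
  have := F.Q_card
  rw [h, Subgroup.card_bot] at this
  exact F.prime.ne_one this.symm

theorem P_comm {u v : G} (hu : u ∈ F.P) (hv : v ∈ F.P) : Commute u v :=
  congrArg Subtype.val ((F.cyc.commGroup (α := F.P)).mul_comm ⟨u, hu⟩ ⟨v, hv⟩)

theorem P_le_cq_self : F.P ≤ CQ F.P := fun u hu =>
  Subgroup.mem_centralizer_iff.mpr fun _ hv => (F.P_comm hv hu).eq

theorem P_le_cq : F.P ≤ CQ F.Q := F.P_le_cq_self.trans (cq_mono F.Q_le)

theorem Q_le_cq : F.Q ≤ CQ F.Q := F.Q_le.trans F.P_le_cq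

theorem pairOf_f : IsBrauerPairOf p M F.B F.Q F.f :=
  (SubpairLE.isBrauerPairOf_iff F.hM (SubpairLE.step F.hM F.sub)).mp F.hmax.1

theorem induced_f : IsInducedBlock M (CQ F.Q) F.f F.B :=
  (isBrauerPairOf_iff_induced F.hM F.hB F.sub.pairL.1 F.Q_le_cq).mp F.pairOf_f

theorem isDefectGroup_P : IsDefectGroup p M F.B F.P := isDefectGroup_of_maximal F.hM F.hmax

theorem isDefectGroup_f : IsDefectGroup p M F.f (F.P.subgroupOf (CQ F.Q)) :=
  isDefectGroup_below_abelian F.hM F.hmax F.P_le_cq F.sub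

theorem nilpotent_f : IsNilpotentBlock p M F.f :=
  isNilpotentBlock_below_cyclic F.hM F.hmax F.cyc F.Q_ne F.P_le_cq F.sub

theorem cq_P_le_T : CQ F.P ≤ F.T := fun g hg => (F.mem_T g).mpr ⟨centralizer_le_normalizer' F.P hg,
  (stabilizesBlock_iff F.hM (centralizer_le_normalizer' F.P hg) F.hmax.1.1.2).mpr
    (cinv_iff_cj.mp (cinv_eG F.c) g hg)⟩

theorem inf_cq {S : Subgroup G} (hS : S ≤ F.P) (hS1 : S ≠ ⊥) : F.T ⊓ CQ S = CQ F.P :=
  inf_centralizer_below F.hM F.hmax F.cyc hS hS1 F.mem_T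

theorem T_normalizes {S : Subgroup G} (hS : S ≤ F.P) {g : G} (hg : g ∈ F.T) :
    g ∈ Subgroup.normalizer (S : Set G) := by
  have hgP := cjS_eq_of_mem_normalizer ((F.mem_T g).mp hg).1
  exact mem_normalizer_of_cjS_eq (Subgroup.eq_of_le_of_card_ge
    (le_of_card_dvd_of_cyclic F.cyc ((cjS_mono hS).trans hgP.le) hS (by rw [card_cjS]))
    (by rw [card_cjS]))

include F in
theorem p_dvd_card : p ∣ Nat.card F.P := by
  have := Subgroup.card_dvd_of_le F.Q_le
  rwa [F.Q_card] at this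

/-- Every non-trivial subgroup of `P` contains `Q`. -/
theorem Q_le_of_ne {S : Subgroup G} (hS : S ≤ F.P) (hS1 : S ≠ ⊥) : F.Q ≤ S := by
  refine le_of_card_dvd_of_cyclic F.cyc F.Q_le hS ?_
  rw [F.Q_card]
  haveI : Fact p.Prime := ⟨F.prime⟩
  obtain ⟨k, hk⟩ := IsPGroup.iff_card.mp ((F.isPGroup).to_le hS)
  have hk0 : k ≠ 0 := fun h => hS1 (S.eq_bot_of_card_eq (by rw [hk, h, pow_zero]))
  exact hk ▸ dvd_pow_self p hk0

/-- The inertial index. -/
noncomputable def e : ℕ := (CQ F.P).relIndex F.T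

/-- `P` as residues. -/
noncomputable def idxEquiv : Multiplicative (ZMod (Nat.card F.P)) ≃* F.P := zmodCyclicMulEquiv F.cyc

/-- The residue of an element of `P`. -/
noncomputable def idx (y : F.P) : ZMod (Nat.card F.P) := Multiplicative.toAdd (F.idxEquiv.symm y)

theorem idx_injective : Function.Injective F.idx := fun y z h => by
  simpa [idx] using h

theorem idx_mul (y z : F.P) : F.idx (y * z) = F.idx y + F.idx z := by
  simp [idx]

theorem idx_one : F.idx 1 = 0 := by simp [idx]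

/-- The generator of index one. -/
noncomputable def gen : F.P := F.idxEquiv (Multiplicative.ofAdd 1)

theorem idx_gen : F.idx F.gen = 1 := by simp [idx, gen]

theorem idx_pow (y : F.P) (n : ℕ) : F.idx (y ^ n) = (n : ZMod (Nat.card F.P)) * F.idx y := by
  induction n with
  | zero => simp [F.idx_one]
  | succ n ih => rw [pow_succ, F.idx_mul, ih, Nat.cast_succ, add_one_mul]

/-- Conjugation by an element of `T` on `P`. -/
def conjP (g : G) (hg : g ∈ F.T) (y : F.P) : F.P :=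
  ⟨g * (y : G) * g⁻¹, (Subgroup.mem_normalizer_iff.mp ((F.mem_T g).mp hg).1 _).mp y.2⟩

/-- An element of `T` acts on `P` as multiplication by a residue. -/
theorem exists_exponent {g : G} (hg : g ∈ F.T) :
    ∃ r : ZMod (Nat.card F.P), ∀ y, F.idx (F.conjP g hg y) = r * F.idx y := by
  haveI : NeZero (Nat.card F.P) := ⟨Nat.card_pos.ne'⟩
  refine ⟨F.idx (F.conjP g hg F.gen), fun y => ?_⟩
  have hy : y = F.gen ^ (F.idx y).val := F.idx_injective (by
    rw [F.idx_pow, F.idx_gen, mul_one, ZMod.natCast_zmod_val])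
  have hpow : ∀ n : ℕ, F.conjP g hg (F.gen ^ n) = (F.conjP g hg F.gen) ^ n := fun n =>
    Subtype.ext (by simp [conjP, conj_pow])
  conv_lhs => rw [hy, hpow, F.idx_pow, ZMod.natCast_zmod_val, mul_comm]

/-- A generator of `T` modulo the centralizer, with its exponent. -/
theorem exists_generator : ∃ (t : G) (ht : t ∈ F.T) (r : ZMod (Nat.card F.P)),
    (∀ g ∈ F.T, ∃ l < F.e, (t ^ l)⁻¹ * g ∈ CQ F.P) ∧ (∀ l < F.e, t ^ l ∈ CQ F.P → l = 0) ∧
      (∀ y, F.idx (F.conjP t ht y) = r * F.idx y) ∧ F.e ∣ p - 1 ∧ r ^ F.e = 1 ∧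
      ∀ l, 0 < l → l < F.e → IsUnit (r ^ l - 1) := by
  classical
  haveI : Fact p.Prime := ⟨F.prime⟩
  haveI : NeZero (Nat.card F.P) := ⟨Nat.card_pos.ne'⟩
  have hTQ : ∀ g ∈ F.T, g ∈ Subgroup.normalizer (F.Q : Set G) := fun g hg => F.T_normalizes F.Q_le hg
  let φ : F.T →* MulAut F.Q := (Subgroup.normalizerMonoidHom F.Q).comp (Subgroup.inclusion hTQ)
  have hker : ∀ t : F.T, t ∈ φ.ker ↔ (t : G) ∈ CQ F.P := by
    intro t
    rw [MonoidHom.mem_ker, ← F.inf_cq F.Q_le F.Q_ne, Subgroup.mem_inf,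
      MonoidHom.comp_apply, ← MonoidHom.mem_ker, Subgroup.normalizerMonoidHom_ker,
      Subgroup.mem_subgroupOf]
    exact ⟨fun h => ⟨t.2, h⟩, fun h => h.2⟩
  have he : Nat.card φ.range = F.e := by
    rw [e, ← Subgroup.index_ker, Subgroup.relIndex]
    congr 1
    ext t
    exact hker t
  have hQcyc : IsCyclic F.Q := isCyclic_of_prime_card F.Q_card
  have : IsCyclic (MulAut F.Q) := by
    have hu : IsCyclic (ZMod (Nat.card F.Q))ˣ := by rw [F.Q_card]; exact ZMod.isCyclic_units_prime F.prime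
    exact isCyclic_of_surjective (IsCyclic.mulAutMulEquiv F.Q).symm (MulEquiv.surjective _)
  have hdvd : F.e ∣ p - 1 := by
    rw [← he]
    refine (Subgroup.card_subgroup_dvd_card φ.range).trans ?_
    rw [Nat.card_congr (IsCyclic.mulAutMulEquiv F.Q).toEquiv,
      Nat.card_eq_fintype_card (α := (ZMod (Nat.card F.Q))ˣ), ZMod.card_units_eq_totient, F.Q_card,
      Nat.totient_prime F.prime]
  obtain ⟨⟨_, t, rfl⟩, hgen⟩ := IsCyclic.exists_generator (α := φ.range)
  have hord : orderOf (φ t) = F.e := by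
    rw [← he, ← orderOf_eq_card_of_forall_mem_zpowers hgen]
    exact orderOf_injective φ.range.subtype φ.range.subtype_injective ⟨φ t, t, rfl⟩
  have hpowker : ∀ l : ℕ, (t : G) ^ l ∈ CQ F.P ↔ F.e ∣ l := fun l => by
    rw [← hord, orderOf_dvd_iff_pow_eq_one, ← map_pow, ← MonoidHom.mem_ker, hker]
    simp
  obtain ⟨r, hr⟩ := F.exists_exponent t.2
  have hr_pow : ∀ (l : ℕ) (hl : (t : G) ^ l ∈ F.T) (y : F.P),
      F.idx (F.conjP ((t : G) ^ l) hl y) = r ^ l * F.idx y := by
    intro l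
    induction l with
    | zero =>
      intro hl y
      rw [show F.conjP ((t : G) ^ 0) hl y = y from Subtype.ext (by simp [conjP]), pow_zero, one_mul]
    | succ l ih =>
      intro hl y
      rw [show F.conjP ((t : G) ^ (l + 1)) hl y =
          F.conjP (t : G) t.2 (F.conjP ((t : G) ^ l) (F.T.pow_mem t.2 l) y) from
        Subtype.ext (by simp [conjP, pow_succ', mul_assoc]), hr, ih, ← mul_assoc, ← pow_succ']
  have hre : r ^ F.e = 1 := by
    have h := hr_pow F.e (F.T.pow_mem t.2 _) F.gen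
    rw [show F.conjP ((t : G) ^ F.e) (F.T.pow_mem t.2 _) F.gen = F.gen from Subtype.ext (by
      have := Subgroup.mem_centralizer_iff.mp ((hpowker F.e).mpr dvd_rfl) _ F.gen.2
      simp only [conjP]
      rw [← this, mul_inv_cancel_right]), F.idx_gen, mul_one] at h
    exact h.symm
  refine ⟨t, t.2, r, fun g hg => ?_, fun l hl h => ?_, hr, hdvd, hre, fun l hl0 hle => ?_⟩
  · obtain ⟨l, hl⟩ := (mem_powers_iff_mem_zpowers.mpr (hgen ⟨φ ⟨g, hg⟩, ⟨g, hg⟩, rfl⟩))
    have hl' : φ t ^ l = φ ⟨g, hg⟩ := congrArg Subtype.val hl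
    have hepos : 0 < F.e := hord ▸ orderOf_pos (φ t)
    refine ⟨l % F.e, Nat.mod_lt _ hepos, ?_⟩
    have : φ ((t ^ (l % F.e))⁻¹ * ⟨g, hg⟩) = 1 := by
      rw [map_mul, map_inv, map_pow, ← hl']
      conv_lhs => arg 1; rw [← hord, pow_mod_orderOf]
      exact inv_mul_cancel _
    rw [← MonoidHom.mem_ker, hker] at this
    simpa using this
  · exact Nat.eq_zero_of_dvd_of_lt ((hpowker l).mp h) hl
  · by_contra hu
    -- then `t ^ l` fixes the subgroup of order `p`
    have hp' : p ∣ (r ^ l - 1).val := by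
      obtain ⟨k, hk⟩ := IsPGroup.iff_card.mp F.isPGroup
      have hnc : ¬ (r ^ l - 1).val.Coprime (Nat.card F.P) := fun h => hu (by
        have := (ZMod.isUnit_iff_coprime _ (Nat.card F.P)).mpr h
        rwa [ZMod.natCast_zmod_val] at this)
      by_contra hnd
      refine hnc ?_
      suffices h : (r ^ l - 1).val.Coprime (p ^ k) by simpa only [← hk] using h
      exact (F.prime.coprime_iff_not_dvd.mpr hnd).symm.pow_right k
    have hfix : (t : G) ^ l ∈ CQ F.Q := by
      rw [Subgroup.mem_centralizer_iff]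
      intro q hq
      let y : F.P := ⟨q, F.Q_le hq⟩
      have hord' : y ^ p = 1 := Subtype.ext (by
        show q ^ p = 1
        rw [← F.Q_card]
        exact congrArg Subtype.val (pow_card_eq_one' (x := (⟨q, hq⟩ : F.Q))))
      have hz : (r ^ l - 1) * F.idx y = 0 := by
        obtain ⟨k, hk⟩ := hp'
        rw [← ZMod.natCast_zmod_val (r ^ l - 1), hk, Nat.cast_mul, mul_comm (p : ZMod (Nat.card F.P)),
          mul_assoc, ← F.idx_pow, hord', F.idx_one, mul_zero]
      rw [sub_mul, one_mul, sub_eq_zero, ← hr_pow l (F.T.pow_mem t.2 l)] at hz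
      have h2 := congrArg Subtype.val (F.idx_injective hz)
      exact (mul_inv_eq_iff_eq_mul.mp h2).symm
    have : (t : G) ^ l ∈ CQ F.P := by
      rw [← F.inf_cq F.Q_le F.Q_ne]; exact ⟨F.T.pow_mem t.2 l, hfix⟩
    exact hl0.ne' (Nat.eq_zero_of_dvd_of_lt ((hpowker l).mp this) hle)

/-- The generator. -/
noncomputable def t : G := F.exists_generator.choose

theorem t_mem : F.t ∈ F.T := F.exists_generator.choose_spec.choose

/-- Its exponent. -/
noncomputable def r : ZMod (Nat.card F.P) := F.exists_generator.choose_spec.choose_spec.choose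

theorem cosets {g : G} (hg : g ∈ F.T) : ∃ l < F.e, (F.t ^ l)⁻¹ * g ∈ CQ F.P :=
  F.exists_generator.choose_spec.choose_spec.choose_spec.1 g hg

theorem cosets_inj {l : ℕ} (hl : l < F.e) (h : F.t ^ l ∈ CQ F.P) : l = 0 :=
  F.exists_generator.choose_spec.choose_spec.choose_spec.2.1 l hl h

theorem idx_conjP (y : F.P) : F.idx (F.conjP F.t F.t_mem y) = F.r * F.idx y :=
  F.exists_generator.choose_spec.choose_spec.choose_spec.2.2.1 y

theorem e_dvd : F.e ∣ p - 1 := F.exists_generator.choose_spec.choose_spec.choose_spec.2.2.2.1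

theorem r_pow_e : F.r ^ F.e = 1 := F.exists_generator.choose_spec.choose_spec.choose_spec.2.2.2.2.1

theorem isUnit_r_pow_sub_one {l : ℕ} (h0 : 0 < l) (hl : l < F.e) : IsUnit (F.r ^ l - 1) :=
  F.exists_generator.choose_spec.choose_spec.choose_spec.2.2.2.2.2 l h0 hl

theorem e_pos : 0 < F.e := Nat.pos_of_ne_zero Subgroup.index_ne_zero_of_finite

theorem not_dvd_e : ¬ p ∣ F.e := fun h => by
  have h2 := F.prime.two_le
  have h1 := Nat.le_of_dvd (by omega) (h.trans F.e_dvd)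
  omega

/-- The stabilizer of `(Q, f)`. -/
def T' : Subgroup G := F.T ⊔ CQ F.Q

theorem mem_T'_of {g : G} (hN : g ∈ Subgroup.normalizer (F.Q : Set G))
    (hf : StabilizesBlock (CQ F.Q) F.f g) : g ∈ F.T' :=
  stabilizer_below_le F.hM F.hmax F.P_le_cq F.sub F.mem_T hN hf

theorem T'_stab {g : G} (hg : g ∈ F.T') :
    g ∈ Subgroup.normalizer (F.Q : Set G) ∧ cj g (eG M F.f) = eG M F.f := by
  have hle : F.T' ≤ Subgroup.normalizer (F.Q : Set G) :=
    sup_le (fun g hg => F.T_normalizes F.Q_le hg) (centralizer_le_normalizer' F.Q)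
  refine ⟨hle hg, ?_⟩
  have : F.T' ≤ (⟨⟨⟨{g | cj g (eG M F.f) = eG M F.f}, fun {a b} ha hb => by
      simp only [Set.mem_setOf_eq] at ha hb ⊢; rw [← cj_cj, hb, ha]⟩, cj_one _⟩, fun {a} ha => by
      simp only [Set.mem_setOf_eq] at ha ⊢
      conv_lhs => rw [← ha, cj_cj, inv_mul_cancel, cj_one]⟩ : Subgroup G) := by
    refine sup_le (fun g hg => ?_) fun g hg => cinv_iff_cj.mp (cinv_eG F.f) g hg
    obtain ⟨h1, h2⟩ := le_stabilizer_below F.hM F.hmax F.cyc F.sub ((F.mem_T g).mp hg).1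
      ((F.mem_T g).mp hg).2
    exact (stabilizesBlock_iff F.hM h1 F.block_f).mp h2
  exact this hg

theorem T_normalizes_cq {g : G} (hg : g ∈ F.T) {S : Subgroup G} (hS : S ≤ F.P) (x : G) :
    x ∈ CQ S ↔ g * x * g⁻¹ ∈ CQ S := cq_conj_iff (F.T_normalizes hS hg) x

theorem cosets' {g : G} (hg : g ∈ F.T') : ∃ l < F.e, (F.t ^ l)⁻¹ * g ∈ CQ F.Q := by
  have hT : F.T ≤ Subgroup.normalizer (CQ F.Q : Set G) := fun g hg =>
    Subgroup.mem_normalizer_iff.mpr fun x => F.T_normalizes_cq hg F.Q_le x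
  have hg' : g ∈ ((F.T : Set G) * (CQ F.Q : Set G)) := by
    rw [← Subgroup.coe_mul_of_left_le_normalizer_right _ _ hT]; exact hg
  obtain ⟨a, ha, b, hb, rfl⟩ := hg'
  obtain ⟨l, hl, h⟩ := F.cosets ha
  exact ⟨l, hl, by rw [← mul_assoc]; exact (CQ F.Q).mul_mem (cq_mono F.Q_le h) hb⟩

theorem cosets_inj' {l : ℕ} (hl : l < F.e) (h : F.t ^ l ∈ CQ F.Q) : l = 0 :=
  F.cosets_inj hl (by rw [← F.inf_cq F.Q_le F.Q_ne]; exact ⟨F.T.pow_mem F.t_mem l, h⟩)

theorem relIndex_T' : (CQ F.Q).relIndex F.T' = F.e := by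
  rw [T', relIndex_sup_of_le_normalizer fun g hg =>
    Subgroup.mem_normalizer_iff.mpr fun x => F.T_normalizes_cq hg F.Q_le x, F.inf_cq F.Q_le F.Q_ne, e]

end Frame

/-- A frame exists for every block with non-trivial cyclic defect group. -/
theorem exists_frame (hM : IsPModular p M) {B : Set (IrrCharacter G)} (hB : IsPBlock M B)
    {P : Subgroup G} (hPD : IsDefectGroup p M B P) (hP1 : P ≠ ⊥) (hcyc : IsCyclic P)
    {c : Set (IrrCharacter (CQ P))} (hc : IsInducedBlock M (CQ P) c B) {T : Subgroup G}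
    (hT : ∀ g : G, g ∈ T ↔ g ∈ Subgroup.normalizer (P : Set G) ∧ StabilizesBlock (CQ P) c g) :
    ∃ F : Frame p M G, F.B = B ∧ F.P = P ∧ F.T = T ∧ F.e = (CQ P).relIndex T := by
  classical
  haveI : Fact p.Prime := ⟨hM.1⟩
  have hPp : IsPGroup p P := isPGroup_defectGroup hM hB hPD
  have hPC : P ≤ CQ P := fun u hu => Subgroup.mem_centralizer_iff.mpr fun v hv =>
    congrArg Subtype.val ((hcyc.commGroup (α := P)).mul_comm ⟨v, hv⟩ ⟨u, hu⟩)
  have hmax := isMaximal_of_defect hM hPD ((isBrauerPairOf_iff_induced hM hB hPp hPC).mpr hc)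
  have hdvd : p ∣ Nat.card P := by
    obtain ⟨k, hk⟩ := IsPGroup.iff_card.mp hPp
    rcases Nat.eq_zero_or_pos k with h0 | h0
    · exact absurd (P.eq_bot_of_card_eq (by rw [hk, h0, pow_zero])) hP1
    · exact hk ▸ dvd_pow_self p h0.ne'
  obtain ⟨x, hx⟩ := exists_prime_orderOf_dvd_card' p hdvd
  set Q := Subgroup.zpowers (x : G) with hQ
  have hQc : Nat.card Q = p := by rw [hQ, Nat.card_zpowers, Subgroup.orderOf_coe, hx]
  have hQP : Q ≤ P := Subgroup.zpowers_le.mpr x.2
  obtain ⟨f, hn⟩ := exists_nSub hM hQP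
    ((hPC.trans (cq_mono hQP)).trans (centralizer_le_normalizer' Q)) hmax.1.1
  exact ⟨⟨hM, B, P, c, hmax, hcyc, hP1, Q, hQP, hQc, f, hn, T, hT⟩, rfl, rfl, rfl, rfl⟩

end CfsgLib.Block.CyclicDefect
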