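import Cfsg.Agent.Lib.Block.CyclicDefect.RankOne
import Cfsg.Agent.Lib.Block.Defect
import Mathlib.GroupTheory.Coset.Card

/-!
# A block idempotent as a relative trace from a defect group

`exists_trace`: the reduced idempotent of a block is the sum of the conjugates, over the cosets of a
defect group, of an element of the block commuting with the defect group.
-/

open Finset MonoidAlgebra

set_option autoImplicit false
set_option linter.unusedSectionVars false

namespace CfsgLib.Block.CyclicDefect

open Cfsg CfsgLib.Block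

universe u

variable {p : ℕ} {M : Ideal AlgInt} [M.IsMaximal] {H : Type u} [Group H] [Fintype H] [DecidableEq H]
  [Fintype (IrrCharacter H)] {f : Set (IrrCharacter H)} {D : Subgroup H}

/-- A weight on the support of the block with sums one over the cosets of the defect group. -/
theorem exists_weight (hM : IsPModular p M) (hf : IsPBlock M f) (hD : IsDefectGroup p M f D)
    [Fintype (H ⧸ D)] :
    ∃ w : H → ResField M, (∀ d ∈ D, ∀ x, w (d * x * d⁻¹) = w x) ∧
      ∀ x, coeffRes M f x ≠ 0 → ∑ q : H ⧸ D, w (q.out⁻¹ * x * q.out) = 1 := by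
  classical
  haveI : Fact p.Prime := ⟨hM.1⟩
  have := charP_resField hM
  have hrep : ∀ C : ConjClasses H, coeffRes M f (rep C) ≠ 0 →
      ∃ x₀ : H, IsConj (rep C) x₀ ∧
        ¬ p ∣ (D ⊓ Subgroup.centralizer ({x₀} : Set H)).relIndex
          (Subgroup.centralizer ({x₀} : Set H)) := by
    intro C hC
    set x := rep C with hx
    obtain ⟨E⟩ : Nonempty (Sylow p (Subgroup.centralizer ({x} : Set H))) := inferInstance
    set E' : Subgroup H := (E : Subgroup (Subgroup.centralizer ({x} : Set H))).map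
      (Subgroup.centralizer ({x} : Set H)).subtype with hE'
    have hE'C : E' ≤ Subgroup.centralizer ({x} : Set H) := Subgroup.map_subtype_le _
    obtain ⟨c, hc⟩ := conjLE_iff.mp (coeff_ne_zero_le_defect hM hf hD (E.isPGroup'.map _) hC
      fun u hu => Subgroup.mem_centralizer_singleton_iff.mp (hE'C hu))
    refine ⟨c * x * c⁻¹, isConj_iff.mpr ⟨c, rfl⟩, fun hdvd => ?_⟩
    set Cx := Subgroup.centralizer ({c * x * c⁻¹} : Set H) with hCx
    have hmap : (Subgroup.centralizer ({x} : Set H)).map (MulAut.conj c).toMonoidHom = Cx :=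
      centralizer_map_singleton (MulAut.conj c) x
    have hle : E'.map (MulAut.conj c).toMonoidHom ≤ D ⊓ Cx := by
      rintro _ ⟨u, hu, rfl⟩
      exact ⟨hc u hu, hmap ▸ ⟨u, hE'C hu, rfl⟩⟩
    have h1 : (D ⊓ Cx).relIndex Cx ∣ (E'.map (MulAut.conj c).toMonoidHom).relIndex Cx :=
      Subgroup.relIndex_dvd_of_le_left Cx hle
    refine E.not_dvd_index (hdvd.trans (h1.trans (dvd_of_eq ?_)))
    rw [← hmap, Subgroup.relIndex_map_map_of_injective _ _ (MulEquiv.injective (MulAut.conj c)),
      Subgroup.relIndex, hE', Subgroup.subgroupOf,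
      Subgroup.comap_map_eq_self_of_injective (Subgroup.subtype_injective _)]
  choose x₀ hconj hidx using hrep
  let m : ∀ C : ConjClasses H, coeffRes M f (rep C) ≠ 0 → ℕ := fun C h =>
    (D ⊓ Subgroup.centralizer ({x₀ C h} : Set H)).relIndex (Subgroup.centralizer ({x₀ C h} : Set H))
  let w : H → ResField M := fun y =>
    if h : coeffRes M f (rep (ConjClasses.mk y)) ≠ 0 then
      if ∃ d ∈ D, d * x₀ _ h * d⁻¹ = y then ((m _ h : ℕ) : ResField M)⁻¹ else 0
    else 0
  have hw0 : ∀ (C : ConjClasses H) (h : coeffRes M f (rep C) ≠ 0) (y : H), ConjClasses.mk y = C →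
      w y = if ∃ d ∈ D, d * x₀ C h * d⁻¹ = y then ((m C h : ℕ) : ResField M)⁻¹ else 0 := by
    intro C h y hy
    subst hy
    exact dif_pos h
  refine ⟨w, fun d hd x => ?_, fun x hx => ?_⟩
  · have hcl : ConjClasses.mk (d * x * d⁻¹) = ConjClasses.mk x :=
      ConjClasses.mk_eq_mk_iff_isConj.mpr (isConj_iff.mpr ⟨d⁻¹, by group⟩)
    by_cases h : coeffRes M f (rep (ConjClasses.mk x)) ≠ 0
    · rw [hw0 _ h x rfl, hw0 _ h _ hcl]
      congr 1
      refine propext ⟨?_, ?_⟩
      · rintro ⟨d', hd', e⟩
        exact ⟨d⁻¹ * d', D.mul_mem (D.inv_mem hd) hd', by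
          rw [show d⁻¹ * d' * x₀ _ h * (d⁻¹ * d')⁻¹ = d⁻¹ * (d' * x₀ _ h * d'⁻¹) * d by group, e]
          group⟩
      · rintro ⟨d', hd', e⟩
        exact ⟨d * d', D.mul_mem hd hd', by
          rw [show d * d' * x₀ _ h * (d * d')⁻¹ = d * (d' * x₀ _ h * d'⁻¹) * d⁻¹ by group, e]⟩
    · simp only [w, hcl, dif_neg h]
  · obtain ⟨C, hC⟩ : ∃ C, ConjClasses.mk x = C := ⟨_, rfl⟩
    have h : coeffRes M f (rep C) ≠ 0 := by
      obtain ⟨c, hc⟩ := isConj_iff.mp (hC ▸ isConj_rep x : IsConj (rep C) x)
      rwa [← coeffRes_conj f (rep C) c, hc]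
    obtain ⟨c, hc⟩ := isConj_iff.mp ((hC ▸ isConj_rep x : IsConj (rep C) x).symm.trans (hconj C h))
    set y₀ := x₀ C h with hy₀
    set Cy := Subgroup.centralizer ({y₀} : Set H) with hCy
    -- the cosets carrying the class of `y₀` into its orbit
    let ι : Cy ⧸ (D ⊓ Cy).subgroupOf Cy → H ⧸ D :=
      Quotient.map' (fun z : Cy => c⁻¹ * (z : H)) fun a b hab => by
        rw [QuotientGroup.leftRel_apply] at hab ⊢
        have := (Subgroup.mem_subgroupOf.mp hab).1
        push_cast at this
        simpa [mul_assoc] using this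
    have hι : Function.Injective ι := by
      intro a b
      induction a using QuotientGroup.induction_on with
      | _ a =>
        induction b using QuotientGroup.induction_on with
        | _ b =>
          intro hab
          have h1 : ((c⁻¹ * (a : H) : H) : H ⧸ D) = ((c⁻¹ * (b : H) : H) : H ⧸ D) := hab
          rw [QuotientGroup.eq] at h1 ⊢
          refine Subgroup.mem_subgroupOf.mpr ⟨?_, (a⁻¹ * b).2⟩
          push_cast
          simpa [mul_assoc] using h1
    have hset : (Finset.univ.filter fun q : H ⧸ D => ∃ d ∈ D, d * y₀ * d⁻¹ = q.out⁻¹ * x * q.out) =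
        Finset.univ.image ι := by
      ext q
      simp only [Finset.mem_filter, Finset.mem_univ, true_and, Finset.mem_image]
      constructor
      · rintro ⟨d, hd, e⟩
        refine ⟨QuotientGroup.mk ⟨c * q.out * d, Subgroup.mem_centralizer_singleton_iff.mpr ?_⟩, ?_⟩
        · have e' : y₀ = d⁻¹ * (q.out⁻¹ * x * q.out) * d := by rw [← e]; group
          calc c * q.out * d * y₀ = c * x * q.out * d := by rw [e']; group
            _ = c * x * c⁻¹ * (c * q.out * d) := by group
            _ = y₀ * (c * q.out * d) := by rw [hc]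
        · show ((c⁻¹ * (c * q.out * d) : H) : H ⧸ D) = q
          rw [show c⁻¹ * (c * q.out * d) = q.out * d by group]
          conv_rhs => rw [← QuotientGroup.out_eq' q]
          rw [QuotientGroup.eq]
          simpa [mul_assoc] using D.inv_mem hd
      · rintro ⟨a, rfl⟩
        induction a using QuotientGroup.induction_on with
        | _ a =>
          obtain ⟨d, hd⟩ := QuotientGroup.mk_out_eq_mul D (c⁻¹ * (a : H))
          show ∃ d' ∈ D, d' * y₀ * d'⁻¹ = (((c⁻¹ * (a : H) : H) : H ⧸ D).out)⁻¹ * x *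
            (((c⁻¹ * (a : H) : H) : H ⧸ D).out)
          refine ⟨(d : H)⁻¹, D.inv_mem d.2, ?_⟩
          rw [hd]
          have ha : (a : H) * y₀ = y₀ * a := Subgroup.mem_centralizer_singleton_iff.mp a.2
          calc (d : H)⁻¹ * y₀ * (d : H)⁻¹⁻¹ = (d : H)⁻¹ * ((a : H)⁻¹ * y₀ * a) * d := by
                rw [mul_assoc _ y₀ (a : H), ← ha, inv_mul_cancel_left, inv_inv]
            _ = (c⁻¹ * (a : H) * d)⁻¹ * x * (c⁻¹ * (a : H) * d) := by rw [← hc]; group
    have hcls : ∀ q : H ⧸ D, ConjClasses.mk (q.out⁻¹ * x * q.out) = C := fun q => by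
      rw [← hC]
      exact ConjClasses.mk_eq_mk_iff_isConj.mpr (isConj_iff.mpr ⟨q.out, by group⟩)
    rw [Finset.sum_congr rfl fun q _ => hw0 C h _ (hcls q), ← Finset.sum_filter,
      Finset.sum_congr hset fun _ _ => rfl, Finset.sum_const,
      Finset.card_image_of_injective _ hι, Finset.card_univ, ← Nat.card_eq_fintype_card, nsmul_eq_mul]
    exact mul_inv_cancel₀ fun h0 => hidx C h ((CharP.cast_eq_zero_iff (ResField M) p _).mp h0)

/-- The block idempotent is a relative trace from the defect group. -/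
theorem exists_trace (hM : IsPModular p M) (hf : IsPBlock M f) (hD : IsDefectGroup p M f D)
    [Fintype (H ⧸ D)] :
    ∃ u : MonoidAlgebra (ResField M) H, (∀ d ∈ D, Commute (single d 1) u) ∧ eK M f * u = u ∧
      ∑ q : H ⧸ D, single q.out 1 * u * single q.out⁻¹ 1 = eK M f := by
  classical
  obtain ⟨w, hwD, hw1⟩ := exists_weight hM hf hD
  set u₀ : MonoidAlgebra (ResField M) H := gaOfFun fun x => coeffRes M f x * w x with hu₀
  have hcoeff : ∀ x, (eK M f).coeff x = coeffRes M f x := fun x => by
    rw [eK, coeff_toK]; rfl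
  have hu₀D : ∀ d ∈ D, Commute (single d 1) u₀ := fun d hd => (commute_single_iff u₀ d).mpr fun g => by
    simp only [hu₀, coeff_gaOfFun, coeffRes_conj, hwD d hd]
  have hsum : ∑ q : H ⧸ D, single q.out 1 * u₀ * single q.out⁻¹ 1 = eK M f := by
    refine ga_ext fun x => ?_
    rw [coeff_sum_apply, hcoeff, Finset.sum_congr rfl (g := fun q : H ⧸ D =>
      coeffRes M f x * w (q.out⁻¹ * x * q.out)) fun q _ => by
      rw [coeff_mul_single', coeff_single_mul', one_mul, mul_one, inv_inv]
      simp only [hu₀, coeff_gaOfFun]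
      rw [show q.out⁻¹ * (x * q.out) = q.out⁻¹ * x * q.out⁻¹⁻¹ by group, coeffRes_conj, inv_inv],
      ← Finset.mul_sum]
    by_cases hx : coeffRes M f x = 0
    · rw [hx, zero_mul]
    · rw [hw1 x hx, mul_one]
  refine ⟨eK M f * u₀, fun d hd => (commute_eK _).symm.mul_right (hu₀D d hd), ?_, ?_⟩
  · rw [← mul_assoc, eK_idem hM hf]
  · calc ∑ q : H ⧸ D, single q.out (1 : ResField M) * (eK M f * u₀) * single q.out⁻¹ 1
        = eK M f * ∑ q : H ⧸ D, single q.out 1 * u₀ * single q.out⁻¹ 1 := by
          rw [Finset.mul_sum]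
          refine Finset.sum_congr rfl fun q _ => ?_
          rw [← mul_assoc (single q.out 1), ← (commute_eK (f := f) (single q.out (1 : ResField M))).eq]
          simp only [mul_assoc]
      _ = eK M f := by rw [hsum, eK_idem hM hf]

end CfsgLib.Block.CyclicDefect
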