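import Cfsg.Agent.Lib.Block.CyclicDefect.LocalRing
import Cfsg.Agent.Lib.Block.CyclicDefect.Trace
import Cfsg.Agent.Lib.Block.CyclicDefect.Covering

/-!
# The twisted local model of a frame

The generator of the stabilizer acts on the corner of the local block with the exponent as
eigenvalue; a power of it inside the corner has scalar `e`-th power.
-/

open Finset MonoidAlgebra
open scoped ComplexConjugate

set_option autoImplicit false
set_option linter.unusedSectionVars false

namespace CfsgLib.Block.CyclicDefect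

open Cfsg CfsgLib.Block CfsgLib.Block.Points
open scoped Pair

universe u

section incl

variable {k : Type*} [Field k] {G : Type u} [Group G] [Fintype G] [DecidableEq G] (H : Subgroup G)

/-- The inclusion of the group algebra of a subgroup. -/
noncomputable def incl : MonoidAlgebra k H →ₐ[k] MonoidAlgebra k G :=
  MonoidAlgebra.mapDomainAlgHom k k H.subtype

theorem incl_single (x : H) (c : k) : incl H (single x c) = single (x : G) c := by
  simp [incl]

theorem incl_eq_emb [Fintype H] (a : MonoidAlgebra k H) : incl H a = emb a := by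
  classical
  refine ga_ext fun g => ?_
  by_cases hg : g ∈ H
  · rw [show g = ((⟨g, hg⟩ : H) : G) from rfl, coeff_emb_coe]
    simp [incl, MonoidAlgebra.coeff_mapDomain]
    exact Finsupp.mapDomain_apply Subtype.val_injective a.coeff ⟨g, hg⟩
  · rw [suppIn_emb _ g hg]
    simp only [incl]
    refine Finsupp.mapDomain_notin_range _ _ ?_
    rintro ⟨x, hx⟩
    exact hg (hx ▸ x.2)

theorem suppIn_incl [Fintype H] (a : MonoidAlgebra k H) : SuppIn H (incl H a) := by
  rw [incl_eq_emb]; exact suppIn_emb a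

theorem incl_injective [Fintype H] : Function.Injective (incl (k := k) H) := fun a b h =>
  ga_ext fun x => by
    have := congrArg (fun z : MonoidAlgebra k G => z.coeff (x : G)) h
    simpa [incl_eq_emb, coeff_emb_coe] using this

theorem exists_incl_eq [Fintype H] {a : MonoidAlgebra k G} (ha : SuppIn H a) :
    ∃ b : MonoidAlgebra k H, incl H b = a := by
  classical
  refine ⟨gaOfFun fun x => a.coeff (x : G), ga_ext fun g => ?_⟩
  rw [incl_eq_emb]
  by_cases hg : g ∈ H
  · rw [show g = ((⟨g, hg⟩ : H) : G) from rfl, coeff_emb_coe]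
    simp
  · rw [suppIn_emb _ g hg, ha g hg]

/-- Conjugation by a normalizing element. -/
theorem single_mul_incl [Fintype H] {g : G} (hg : g ∈ Subgroup.normalizer (H : Set G))
    (a : MonoidAlgebra k H) :
    single g (1 : k) * incl H a =
      incl H (MonoidAlgebra.domCongr k k (conjAut hg) a) * single g 1 := by
  classical
  refine ga_ext fun x => ?_
  rw [coeff_single_mul', coeff_mul_single', one_mul, mul_one, incl_eq_emb, incl_eq_emb]
  by_cases hx : x * g⁻¹ ∈ H
  · obtain ⟨y, hy⟩ : ∃ y : H, (y : G) = x * g⁻¹ := ⟨⟨_, hx⟩, rfl⟩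
    rw [← hy, coeff_emb_coe, MonoidAlgebra.coeff_domCongr,
      show g⁻¹ * x = (((conjAut hg).symm y : H) : G) from by
        show _ = g⁻¹ * (y : G) * g⁻¹⁻¹
        rw [hy]; group, coeff_emb_coe]
  · rw [suppIn_emb _ _ hx, suppIn_emb]
    intro h
    apply hx
    have := (Subgroup.mem_normalizer_iff.mp hg _).mp h
    simpa [← mul_assoc] using this

theorem incl_conj [Fintype H] {g : G} (hg : g ∈ Subgroup.normalizer (H : Set G))
    (a : MonoidAlgebra k H) :
    single g (1 : k) * incl H a * single g⁻¹ 1 =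
      incl H (MonoidAlgebra.domCongr k k (conjAut hg) a) := by
  rw [single_mul_incl H hg, mul_assoc, MonoidAlgebra.single_mul_single, mul_inv_cancel, one_mul,
    ← MonoidAlgebra.one_def, mul_one]

end incl

variable {p : ℕ} {M : Ideal AlgInt} [M.IsMaximal] {G : Type u} [Group G] [Fintype G] [DecidableEq G]
  [Fintype (IrrCharacter G)]

namespace Frame

variable (F : Frame p M G) [Fintype (IrrCharacter (CQ F.Q))]

theorem secc_sigma (x : CQ F.Q) (j : ZMod (Nat.card F.P)) :
    F.secc (F.σ x) (F.r * j) = F.secc x j := by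
  refine mul_left_cancel₀ (Nat.cast_ne_zero.mpr Nat.card_pos.ne' : (Nat.card F.P : ℂ) ≠ 0) ?_
  rw [← F.sum_zchar_ηc, ← F.sum_zchar_ηc]
  refine Fintype.sum_equiv (Units.mulLeft F.r_unit.unit) _ _ fun i => ?_
  rw [F.ηc_sigma, Units.mulLeft_apply, IsUnit.unit_spec]
  congr 2
  ring

/-- The twist of the group algebra of the centralizer. -/
noncomputable def Φ :
    MonoidAlgebra (ResField M) (CQ F.Q) ≃ₐ[ResField M] MonoidAlgebra (ResField M) (CQ F.Q) :=
  MonoidAlgebra.domCongr (ResField M) (ResField M) F.σ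

theorem Φ_zc (j : ZMod (Nat.card F.P)) :
    F.Φ (toK M (F.zc j : MonoidAlgebra (locRing M) (CQ F.Q))) =
      toK M (F.zc (F.r * j) : MonoidAlgebra (locRing M) (CQ F.Q)) := by
  refine ga_ext fun y => ?_
  rw [Φ, MonoidAlgebra.coeff_domCongr, coeff_toK, coeff_toK]
  congr 1
  refine Subtype.ext ?_
  simp only [zc, coeff_gaOfFun, Subring.coe_mul]
  rw [← mul_neg, ← F.secc_sigma (F.σ.symm y)⁻¹, map_inv, MulEquiv.apply_symm_apply]

theorem Φ_fK : F.Φ F.fK = F.fK := by
  rw [← toK_zc_zero, Φ_zc, mul_zero]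

/-- The eigenvalue. -/
noncomputable def al : ResField M := ((F.r.val : ℕ) : ResField M)

theorem natCast_card_eq_zero : ((Nat.card F.P : ℕ) : ResField M) = 0 := by
  have := charP_resField F.hM
  exact (CharP.cast_eq_zero_iff (ResField M) p _).mpr F.p_dvd_card

theorem natCast_val_congr {m l : ℕ}
    (h : (m : ZMod (Nat.card F.P)) = (l : ZMod (Nat.card F.P))) :
    (m : ResField M) = (l : ResField M) := by
  have := charP_resField F.hM
  exact (CharP.natCast_eq_natCast (ResField M) p).mpr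
    (((ZMod.natCast_eq_natCast_iff _ _ _).mp h).of_dvd F.p_dvd_card)

theorem al_pow_e : F.al ^ F.e = 1 := by
  rw [al, ← Nat.cast_pow, ← Nat.cast_one]
  exact F.natCast_val_congr (by push_cast; rw [ZMod.natCast_zmod_val, F.r_pow_e])

theorem al_ne_zero : F.al ≠ 0 := fun h => one_ne_zero
  (F.al_pow_e.symm.trans (by rw [h, zero_pow F.e_pos.ne']))

theorem e_ne_zero : (F.e : ResField M) ≠ 0 := by
  have := charP_resField F.hM
  exact fun h => F.not_dvd_e ((CharP.cast_eq_zero_iff (ResField M) p _).mp h)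

/-- The central elements to first order. -/
theorem exists_zc_order (v : ℕ) :
    ∃ R, toK M (F.zc (v : ZMod (Nat.card F.P)) : MonoidAlgebra (locRing M) (CQ F.Q)) - F.fK =
      (v : ResField M) • F.zeta + F.zeta ^ 2 * R := by
  induction v with
  | zero => exact ⟨0, by rw [Nat.cast_zero, toK_zc_zero]; simp⟩
  | succ v ih =>
    obtain ⟨R, hR⟩ := ih
    refine ⟨(v : ResField M) • F.fK + F.zeta * R + F.fK * R, ?_⟩
    have hz : toK M (F.zc 1 : MonoidAlgebra (locRing M) (CQ F.Q)) = F.zeta + F.fK :=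
      (sub_add_cancel _ _).symm
    rw [Nat.cast_succ, add_comm (v : ZMod (Nat.card F.P)), ← F.toK_zc_mul, hz,
      eq_add_of_sub_eq hR]
    have hfz : F.fK * F.zeta = F.zeta := (commute_eK (f := F.f) F.zeta).eq.trans F.zeta_fK
    have hfz2 : F.fK * F.zeta ^ 2 = F.zeta ^ 2 * F.fK := (commute_eK (f := F.f) _).eq
    have hz2 : F.zeta ^ 2 * F.fK = F.zeta ^ 2 := by rw [pow_two, mul_assoc, F.zeta_fK]
    simp only [add_mul, mul_add, mul_smul_comm, F.zeta_fK, F.fK_idem, hfz, ← mul_assoc, hfz2]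
    rw [← pow_two, hz2, ← pow_succ', ← pow_succ, Nat.cast_succ]
    module

/-- The eigen element of the twist. -/
noncomputable def eig : MonoidAlgebra (ResField M) (CQ F.Q) :=
  ∑ l ∈ Finset.range F.e, (F.al ^ l)⁻¹ •
    (toK M (F.zc (F.r ^ l) : MonoidAlgebra (locRing M) (CQ F.Q)) - F.fK)

theorem Φ_eig : F.Φ F.eig = F.al • F.eig := by
  set g : ℕ → MonoidAlgebra (ResField M) (CQ F.Q) := fun l => (F.al ^ l)⁻¹ •
    (toK M (F.zc (F.r ^ l) : MonoidAlgebra (locRing M) (CQ F.Q)) - F.fK) with hg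
  have h1 : ∀ l, F.Φ (g l) = F.al • g (l + 1) := fun l => by
    simp only [hg, map_smul, map_sub, Φ_zc, Φ_fK, smul_smul, pow_succ, mul_inv_rev]
    rw [← mul_assoc F.al, mul_inv_cancel₀ F.al_ne_zero, one_mul, mul_comm F.r]
  have h2 : g F.e = g 0 := by simp only [hg, F.al_pow_e, F.r_pow_e, pow_zero]
  show F.Φ (∑ l ∈ Finset.range F.e, g l) = F.al • ∑ l ∈ Finset.range F.e, g l
  rw [map_sum, Finset.sum_congr rfl fun l _ => h1 l, ← Finset.smul_sum]
  congr 1
  have h3 := Finset.sum_range_succ g F.e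
  rw [Finset.sum_range_succ' g F.e, h2] at h3
  exact add_right_cancel h3

theorem exists_eig_order : ∃ R, F.eig = (F.e : ResField M) • F.zeta + F.zeta ^ 2 * R := by
  classical
  have h : ∀ l, ∃ R, (F.al ^ l)⁻¹ •
      (toK M (F.zc (F.r ^ l) : MonoidAlgebra (locRing M) (CQ F.Q)) - F.fK) =
        F.zeta + F.zeta ^ 2 * R := by
    intro l
    obtain ⟨R, hR⟩ := F.exists_zc_order (F.r.val ^ l)
    rw [Nat.cast_pow, ZMod.natCast_zmod_val] at hR
    refine ⟨(F.al ^ l)⁻¹ • R, ?_⟩
    rw [hR, smul_add, mul_smul_comm, smul_smul, Nat.cast_pow, ← al,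
      inv_mul_cancel₀ (pow_ne_zero _ F.al_ne_zero), one_smul]
  choose R hR using h
  refine ⟨∑ l ∈ Finset.range F.e, R l, ?_⟩
  rw [eig, Finset.sum_congr rfl fun l _ => hR l, Finset.sum_add_distrib, Finset.mul_sum,
    Finset.sum_const, Finset.card_range, Nat.cast_smul_eq_nsmul]

theorem eig_pow (j : ℕ) :
    ∃ R, F.eig ^ j = (F.e : ResField M) ^ j • F.zeta ^ j + F.zeta ^ (j + 1) * R := by
  induction j with
  | zero => exact ⟨0, by simp⟩
  | succ j ih =>
    obtain ⟨R, hR⟩ := ih
    obtain ⟨R₁, hR₁⟩ := F.exists_eig_order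
    refine ⟨(F.e : ResField M) ^ j • R₁ + (F.e : ResField M) • R + F.zeta * (R * R₁), ?_⟩
    have hRz : ∀ m, R * F.zeta ^ m = F.zeta ^ m * R := fun m => ((F.commute_zeta R).pow_left m).eq.symm
    rw [pow_succ, hR, hR₁]
    simp only [mul_add, add_mul, smul_mul_assoc, mul_smul_comm, smul_add, smul_smul]
    rw [mul_assoc (F.zeta ^ (j + 1)) R F.zeta, show R * F.zeta = F.zeta * R from
      (F.commute_zeta R).eq.symm, mul_assoc (F.zeta ^ (j + 1)) R (F.zeta ^ 2 * R₁),
      ← mul_assoc R (F.zeta ^ 2), hRz 2]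
    simp only [← mul_assoc, ← pow_succ, ← pow_add]
    rw [show j + 2 = j + 1 + 1 by omega, show j + 1 + 2 = j + 1 + 1 + 1 by omega,
      mul_comm (F.e : ResField M) ((F.e : ResField M) ^ j), ← pow_succ]
    abel

theorem eig_pow_card_mul_pt : F.eig ^ Nat.card F.P * F.pt = 0 := by
  obtain ⟨R, hR⟩ := F.eig_pow (Nat.card F.P)
  rw [hR, pow_succ, F.zeta_pow_card]
  simp

theorem eig_top : F.eig ^ (Nat.card F.P - 1) * F.pt ≠ 0 := by
  obtain ⟨R, hR⟩ := F.eig_pow (Nat.card F.P - 1)
  rw [hR, Nat.sub_add_cancel Nat.card_pos, F.zeta_pow_card, zero_mul, add_zero, smul_mul_assoc]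
  exact smul_ne_zero (pow_ne_zero _ F.e_ne_zero) F.zeta_top_pt

theorem commute_eig (x : MonoidAlgebra (ResField M) (CQ F.Q)) : Commute F.eig x :=
  Commute.sum_left _ _ _ fun _ _ => Commute.smul_left
    ((((mem_center_iff_isClassElt.mp (F.zc _).2).map (res M)).commute x).sub_left (commute_eK x)) _

/-- The corner in terms of the eigen element. -/
theorem corner_eig (w : MonoidAlgebra (ResField M) (CQ F.Q)) :
    ∃ c : ℕ → ResField M, F.pt * w * F.pt =
      ∑ j ∈ Finset.range (Nat.card F.P), c j • (F.eig ^ j * F.pt) := by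
  classical
  set S := Submodule.span (ResField M)
    ((fun j => F.eig ^ j * F.pt) '' (Finset.range (Nat.card F.P) : Set ℕ)) with hS
  have key : ∀ d j, Nat.card F.P ≤ j + d → ∀ x, F.zeta ^ j * (F.pt * x * F.pt) ∈ S := by
    intro d
    induction d with
    | zero =>
      intro j hj x
      rw [show j = Nat.card F.P + (j - Nat.card F.P) by omega, pow_add, F.zeta_pow_card, zero_mul,
        zero_mul]
      exact S.zero_mem
    | succ d ih =>
      intro j hj x
      obtain ⟨c, hc⟩ := F.corner_zeta x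
      rw [hc, Finset.mul_sum]
      refine S.sum_mem fun l _ => ?_
      rw [mul_smul_comm, ← mul_assoc, ← pow_add]
      refine S.smul_mem _ ?_
      rcases Nat.eq_zero_or_pos l with rfl | hl
      swap
      · have := ih (j + l) (by omega) F.pt
        rwa [F.isPt_pt.idem, F.isPt_pt.idem] at this
      rw [add_zero]
      by_cases hjn : Nat.card F.P ≤ j
      · rw [show j = Nat.card F.P + (j - Nat.card F.P) by omega, pow_add, F.zeta_pow_card, zero_mul,
          zero_mul]
        exact S.zero_mem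
      obtain ⟨R, hR⟩ := F.eig_pow j
      have h1 : F.eig ^ j * F.pt ∈ S :=
        Submodule.subset_span ⟨j, Finset.mem_coe.mpr (Finset.mem_range.mpr (by omega)), rfl⟩
      have h2 := ih (j + 1) (by omega) R
      have h3 : F.eig ^ j * F.pt =
          (F.e : ResField M) ^ j • (F.zeta ^ j * F.pt) + F.zeta ^ (j + 1) * (F.pt * R * F.pt) := by
        have hc1 : F.pt * (F.eig ^ j * F.pt) = F.eig ^ j * F.pt := by
          rw [← mul_assoc, ← ((F.commute_eig F.pt).pow_left j).eq, mul_assoc, F.isPt_pt.idem]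
        rw [← hc1, hR, add_mul, mul_add, smul_mul_assoc, mul_smul_comm]
        congr 1
        · rw [← mul_assoc, ← ((F.commute_zeta F.pt).pow_left j).eq, mul_assoc, F.isPt_pt.idem]
        · simp only [← mul_assoc]
          rw [((F.commute_zeta F.pt).pow_left (j + 1)).eq]
      have h4 : (F.e : ResField M) ^ j • (F.zeta ^ j * F.pt) ∈ S := by
        rw [eq_sub_of_add_eq h3.symm]
        exact S.sub_mem h1 h2
      have h5 := S.smul_mem ((F.e : ResField M) ^ j)⁻¹ h4
      rwa [smul_smul, inv_mul_cancel₀ (pow_ne_zero _ F.e_ne_zero), one_smul] at h5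
  have hmem := key (Nat.card F.P) 0 (by omega) w
  rw [pow_zero, one_mul] at hmem
  obtain ⟨l, hl, heq⟩ := (Finsupp.mem_span_image_iff_linearCombination _).mp hmem
  refine ⟨fun j => l j, ?_⟩
  rw [← heq, Finsupp.linearCombination_apply, Finsupp.sum]
  refine Finset.sum_subset (fun j hj => ?_) fun j _ hj => ?_
  · exact Finset.mem_coe.mp ((Finsupp.mem_supported _ _).mp hl hj)
  · rw [Finsupp.notMem_support_iff.mp hj, zero_smul]

/-- The twisted idempotent is equivalent to the primitive one. -/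
theorem eqPt_twist : EqPt (F.Φ F.pt) F.pt := by
  refine eqPt_below F.hM F.block_f F.rank_f F.isPt_pt.map F.isPt_pt ?_ F.pt_fK
  show F.Φ F.pt * F.fK = F.Φ F.pt
  rw [← F.Φ_fK, ← map_mul, F.pt_fK]

theorem t_pow_normalizes (m : ℕ) : F.t ^ m ∈ Subgroup.normalizer (CQ F.Q : Set G) :=
  pow_mem F.t_normalizes m

/-- The twisted model of the frame. -/
theorem exists_twistData : ∃ X : TwistData (ResField M) G,
    X.C = CQ F.Q ∧ X.D = F.P ∧ X.T = F.T' ∧ X.e = F.e ∧ X.L = Nat.card F.P ∧
      X.f = eG M F.f ∧ X.i = incl (CQ F.Q) F.pt ∧ X.N = incl (CQ F.Q) (F.eig * F.pt) := by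
  classical
  haveI : Fact p.Prime := ⟨F.prime⟩
  have hchar := charP_resField F.hM
  have halg := F.charP_alg
  set C := CQ F.Q with hC
  set ι := incl (k := ResField M) C with hι
  obtain ⟨a, b, ha, hai, hib, hb, hab, hba⟩ := F.eqPt_twist
  let Tt : MonoidAlgebra (ResField M) G := single F.t 1
  let Tt' : MonoidAlgebra (ResField M) G := single F.t⁻¹ 1
  have hTT : Tt * Tt' = 1 := by
    rw [MonoidAlgebra.single_mul_single, mul_inv_cancel, one_mul, MonoidAlgebra.one_def]
  have hTT' : Tt' * Tt = 1 := by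
    rw [MonoidAlgebra.single_mul_single, inv_mul_cancel, one_mul, MonoidAlgebra.one_def]
  have hTι : ∀ x, Tt * ι x = ι (F.Φ x) * Tt := fun x => single_mul_incl C F.t_normalizes x
  have hTι' : ∀ x, Tt' * ι (F.Φ x) = ι x * Tt' := fun x => by
    calc Tt' * ι (F.Φ x) = Tt' * (ι (F.Φ x) * Tt) * Tt' := by
          rw [mul_assoc, mul_assoc (ι (F.Φ x)), hTT, mul_one]
      _ = ι x * Tt' := by rw [← hTι, ← mul_assoc, hTT', one_mul]
  set i₀ := ι F.pt with hi₀
  set s₀ := ι b * Tt with hs₀
  set s₀' := Tt' * ι a with hs₀'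
  have his : i₀ * s₀ = s₀ := by rw [hi₀, hs₀, ← mul_assoc, ← map_mul, hib]
  have hsi : s₀ * i₀ = s₀ := by rw [hi₀, hs₀, mul_assoc, hTι, ← mul_assoc, ← map_mul, hb]
  have his' : i₀ * s₀' = s₀' := by
    rw [hi₀, hs₀', ← mul_assoc, ← hTι', mul_assoc, ← map_mul, ha]
  have hsi' : s₀' * i₀ = s₀' := by rw [hi₀, hs₀', mul_assoc, ← map_mul, hai]
  have hss : s₀ * s₀' = i₀ := by
    rw [hs₀, hs₀', show ι b * Tt * (Tt' * ι a) = ι b * (Tt * Tt') * ι a by simp only [mul_assoc],
      hTT, mul_one, ← map_mul, hba]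
  have hss' : s₀' * s₀ = i₀ := by
    rw [hs₀, hs₀', show Tt' * ι a * (ι b * Tt) = Tt' * (ι a * ι b) * Tt by simp only [mul_assoc],
      ← map_mul, hab, hTι', mul_assoc, hTT', mul_one]
  have hii : i₀ * i₀ = i₀ := by rw [hi₀, ← map_mul, F.isPt_pt.idem]
  -- powers
  have hpowi : ∀ m, 0 < m →
      i₀ * s₀ ^ m = s₀ ^ m ∧ s₀ ^ m * i₀ = s₀ ^ m ∧ i₀ * s₀' ^ m = s₀' ^ m ∧ s₀' ^ m * i₀ = s₀' ^ m := by
    intro m hm
    obtain ⟨m, rfl⟩ := Nat.exists_eq_succ_of_ne_zero hm.ne'
    refine ⟨?_, ?_, ?_, ?_⟩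
    · rw [pow_succ', ← mul_assoc, his]
    · rw [pow_succ, mul_assoc, hsi]
    · rw [pow_succ', ← mul_assoc, his']
    · rw [pow_succ, mul_assoc, hsi']
  have hpows : ∀ m, 0 < m → s₀ ^ m * s₀' ^ m = i₀ ∧ s₀' ^ m * s₀ ^ m = i₀ := by
    intro m hm
    induction m, hm using Nat.le_induction with
    | base => simp [hss, hss']
    | succ m hm ih =>
      refine ⟨?_, ?_⟩
      · rw [pow_succ s₀, pow_succ' s₀', show s₀ ^ m * s₀ * (s₀' * s₀' ^ m) =
          s₀ ^ m * (s₀ * s₀') * s₀' ^ m by simp only [mul_assoc], hss, (hpowi m hm).2.1, ih.1]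
      · rw [pow_succ s₀', pow_succ' s₀, show s₀' ^ m * s₀' * (s₀ * s₀ ^ m) =
          s₀' ^ m * (s₀' * s₀) * s₀ ^ m by simp only [mul_assoc], hss', (hpowi m hm).2.2.2, ih.2]
  have hform : ∀ m, ∃ bm, s₀ ^ m = ι bm * single (F.t ^ m) 1 := by
    intro m
    induction m with
    | zero => exact ⟨1, by rw [pow_zero, pow_zero, map_one, one_mul, ← MonoidAlgebra.one_def]⟩
    | succ m ih =>
      obtain ⟨bm, hbm⟩ := ih
      refine ⟨bm * MonoidAlgebra.domCongr (ResField M) (ResField M) (conjAut (F.t_pow_normalizes m)) b, ?_⟩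
      rw [pow_succ, hbm, hs₀, mul_assoc (ι bm), ← mul_assoc (single _ _) (ι b),
        hι, single_mul_incl C (F.t_pow_normalizes m), mul_assoc _ (single _ _) Tt,
        MonoidAlgebra.single_mul_single, one_mul, ← pow_succ, ← mul_assoc, ← map_mul]
  have hform' : ∀ m, ∃ am, s₀' ^ m = single (F.t ^ m)⁻¹ 1 * ι am := by
    intro m
    induction m with
    | zero => exact ⟨1, by rw [pow_zero, pow_zero, map_one, inv_one, mul_one, ← MonoidAlgebra.one_def]⟩
    | succ m ih =>
      obtain ⟨am, ham⟩ := ih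
      refine ⟨MonoidAlgebra.domCongr (ResField M) (ResField M) (conjAut (F.t_pow_normalizes m)) a * am, ?_⟩
      have h := single_mul_incl (k := ResField M) C (F.t_pow_normalizes m) a
      rw [pow_succ', ham, hs₀', map_mul, ← mul_assoc, ← mul_assoc]
      congr 1
      calc Tt' * ι a * single (F.t ^ m)⁻¹ 1
          = Tt' * (single (F.t ^ m)⁻¹ 1 * single (F.t ^ m) 1 * ι a) * single (F.t ^ m)⁻¹ 1 := by
            rw [MonoidAlgebra.single_mul_single, inv_mul_cancel, one_mul, ← MonoidAlgebra.one_def,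
              one_mul]
        _ = single (F.t ^ (m + 1))⁻¹ 1 *
              ι (MonoidAlgebra.domCongr (ResField M) (ResField M) (conjAut (F.t_pow_normalizes m)) a) := by
            rw [mul_assoc (single (F.t ^ m)⁻¹ _), h, hι]
            simp only [Tt', mul_assoc, MonoidAlgebra.single_mul_single, one_mul, mul_inv_cancel,
              ← MonoidAlgebra.one_def, mul_one]
            rw [← mul_assoc, MonoidAlgebra.single_mul_single, one_mul, pow_succ, mul_inv_rev]
  -- the power lying in the corner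
  have hepos := F.e_pos
  have hte : F.t ^ F.e ∈ C := by
    obtain ⟨l, hl, hlC⟩ := F.cosets' (pow_mem (show F.t ∈ F.T' from
      Subgroup.mem_sup_left F.t_mem) F.e)
    have hleq : l = 0 := by
      by_contra hl0
      have h1 : F.t ^ (F.e - l) ∈ C := by
        have : (F.t ^ l)⁻¹ * F.t ^ F.e = F.t ^ (F.e - l) := by
          rw [inv_mul_eq_iff_eq_mul, ← pow_add, Nat.add_sub_cancel' hl.le]
        rwa [this] at hlC
      have := F.cosets_inj' (by omega) h1
      omega
    subst hleq
    simpa using hlC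
  obtain ⟨be, hbe⟩ := hform F.e
  set W := be * single (⟨F.t ^ F.e, hte⟩ : C) 1 with hW
  have hwW : s₀ ^ F.e = ι W := by rw [hbe, hW, map_mul, hι, incl_single]
  have hWpt : F.pt * W * F.pt = W := incl_injective C (by
    show ι _ = ι _
    rw [map_mul, map_mul, ← hwW, ← hi₀, (hpowi _ hepos).1, (hpowi _ hepos).2.1])
  obtain ⟨c, hc⟩ := F.corner_zeta W
  rw [hWpt] at hc
  obtain ⟨n, hn⟩ := Nat.exists_eq_succ_of_ne_zero (Nat.card_pos (α := F.P)).ne'
  set R := ∑ j ∈ Finset.range n, c (j + 1) • (F.zeta ^ j * F.pt) with hR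
  have hW0 : W = c 0 • F.pt + F.zeta * R := by
    rw [hc, hn, Finset.sum_range_succ', pow_zero, one_mul, add_comm, hR, Finset.mul_sum]
    congr 1
    refine Finset.sum_congr rfl fun j _ => ?_
    rw [mul_smul_comm, ← mul_assoc, ← pow_succ']
  have hRpt : Commute F.pt R := by
    refine Commute.sum_right _ _ _ fun j _ => (Commute.mul_right ?_ (Commute.refl _)).smul_right _
    exact ((F.commute_zeta F.pt).pow_left j).symm
  obtain ⟨K, hK⟩ := IsPGroup.iff_card.mp F.isPGroup
  have hWn : W ^ Nat.card F.P = c 0 ^ Nat.card F.P • F.pt := by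
    have h1 : Commute (c 0 • F.pt) (F.zeta * R) :=
      (Commute.mul_right (F.commute_zeta F.pt).symm hRpt).smul_left _
    rw [hW0, hK, add_pow_char_pow_of_commute p K h1, ← hK, (F.commute_zeta R).mul_pow,
      F.zeta_pow_card, zero_mul, add_zero, smul_pow,
      (show IsIdempotentElem F.pt from F.isPt_pt.idem).pow_eq Nat.card_pos.ne']
  have hc0 : c 0 ≠ 0 := by
    intro h0
    rw [h0, zero_pow Nat.card_pos.ne', zero_smul] at hWn
    have h := (hpows (F.e * Nat.card F.P) (Nat.mul_pos hepos Nat.card_pos)).1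
    rw [pow_mul s₀, hwW, ← map_pow, hWn, map_zero, zero_mul, hi₀] at h
    exact F.isPt_pt.ne (incl_injective C (h.symm.trans (map_zero ι).symm))
  obtain ⟨m, hm⟩ : ∃ m, Nat.card F.P ∣ 1 + F.e * m := by
    have hu : IsUnit (F.e : ZMod (Nat.card F.P)) := by
      rw [ZMod.isUnit_iff_coprime, hK]
      exact (F.prime.coprime_iff_not_dvd.mpr F.not_dvd_e).symm.pow_right K
    obtain ⟨v, hv⟩ := hu
    refine ⟨(-(↑v⁻¹ : ZMod (Nat.card F.P))).val, ?_⟩
    rw [← ZMod.natCast_eq_zero_iff]
    push_cast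
    rw [ZMod.natCast_zmod_val, ← hv, mul_neg, Units.mul_inv, add_neg_cancel]
  set q := 1 + F.e * m with hq
  have hq0 : 0 < q := by omega
  obtain ⟨l, hl⟩ := hm
  set N := ι (F.eig * F.pt) with hN
  have hNi : N * i₀ = N := by rw [hN, hi₀, ← map_mul, mul_assoc, F.isPt_pt.idem]
  have hiN : i₀ * N = N := by
    rw [hN, hi₀, ← map_mul, ← mul_assoc, ← (F.commute_eig F.pt).eq, mul_assoc, F.isPt_pt.idem]
  have hNpow : ∀ j, N ^ j * i₀ = ι (F.eig ^ j * F.pt) := by
    intro j
    induction j with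
    | zero => rw [pow_zero, pow_zero, one_mul, one_mul]
    | succ j ih =>
      rw [pow_succ, mul_assoc, hNi]
      conv_lhs => arg 2; rw [← hiN]
      rw [← mul_assoc, ih, hN, ← map_mul, mul_assoc _ F.pt,
        ← mul_assoc F.pt, ← (F.commute_eig F.pt).eq, mul_assoc F.eig, F.isPt_pt.idem, ← mul_assoc,
        ← pow_succ]
  have hs0N : s₀ * N = F.al • (N * s₀) := by
    rw [hs₀, hN, mul_assoc, hTι, map_mul F.Φ, F.Φ_eig, ← mul_assoc, ← map_mul, smul_mul_assoc,
      mul_smul_comm, map_smul, smul_mul_assoc, ← mul_assoc (ι (F.eig * F.pt)), ← map_mul]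
    congr 3
    rw [mul_assoc F.eig F.pt b, hib, ← mul_assoc, ← (F.commute_eig b).eq, mul_assoc, hb]
  have hsmN : ∀ j, s₀ ^ j * N = F.al ^ j • (N * s₀ ^ j) := by
    intro j
    induction j with
    | zero => simp
    | succ j ih =>
      rw [pow_succ' s₀, mul_assoc, ih, mul_smul_comm, ← mul_assoc, hs0N, smul_mul_assoc, smul_smul,
        mul_assoc, pow_succ]
  have hNorm : ∀ g ∈ Subgroup.normalizer (F.Q : Set G), g ∈ Subgroup.normalizer (C : Set G) :=
    fun g hg => Subgroup.mem_normalizer_iff.mpr fun x => cq_conj_iff hg x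
  letI : Fintype (G ⧸ F.P) := Fintype.ofFinite _
  obtain ⟨u, huD, hfu, husum⟩ := exists_trace F.hM F.block_f F.isDefectGroup_f
  have heG : eG M F.f = ι F.fK := by rw [hι, incl_eq_emb]; rfl
  have hfid : ι F.fK * ι F.fK = ι F.fK := by rw [← map_mul, F.fK_idem]
  have hfull := exists_full F.hM F.block_f F.rank_f F.isPt_pt F.pt_fK
  refine ⟨{
    C := C, D := F.P, T := F.T', NQ := Subgroup.normalizer (F.Q : Set G), f := eG M F.f, i := i₀,
    N := N, s := s₀ ^ q, s' := s₀' ^ q, tr := ι u, t := F.t, e := F.e, L := Nat.card F.P,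
    α := F.al, ξ := (c 0 ^ Nat.card F.P) ^ l,
    he := F.e_ne_zero, hξ := pow_ne_zero _ (pow_ne_zero _ hc0), L_pos := Nat.card_pos,
    D_le := F.P_le_cq, C_le := le_sup_right, T_le := fun g hg => (F.T'_stab hg).1,
    normC := fun g hg x hx => (cq_conj_iff hg x).mp hx,
    t_mem := Subgroup.mem_sup_left F.t_mem,
    cosets := fun g hg => F.cosets' hg, cosets_inj := fun j hj h => F.cosets_inj' hj h,
    free := ?_, f_supp := suppIn_eG F.f, f_idem := eG_mul_self F.hM F.block_f,
    f_comm := fun g hg => ?_, f_orth := ?_, i_supp := suppIn_incl C _, i_idem := hii,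
    f_i := ?_, i_f := ?_, N_supp := suppIn_incl C _, i_N := hiN, N_i := hNi,
    N_pow := ?_, N_top := ?_, corner := ?_, full := ?_,
    i_s := (hpowi q hq0).1, s_i := (hpowi q hq0).2.1, i_s' := (hpowi q hq0).2.2.1,
    s'_i := (hpowi q hq0).2.2.2, s_s' := (hpows q hq0).1, s'_s := (hpows q hq0).2,
    s_supp := ?_, s'_supp := ?_, s_N := ?_, s_pow := ?_, tr_supp := suppIn_incl C _,
    tr_comm := ?_, f_tr := ?_, tr_f := ?_, tr_sum := ?_ }, rfl, rfl, rfl, rfl, rfl, rfl, rfl, rfl⟩
  · intro g hg d hd hgd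
    by_contra hd1
    apply hg
    have hQd : F.Q ≤ Subgroup.zpowers d :=
      F.Q_le_of_ne (Subgroup.zpowers_le.mpr hd) (by rwa [ne_eq, Subgroup.zpowers_eq_bot])
    have hQP : cjS g⁻¹ F.Q ≤ F.P := by
      refine (cjS_mono hQd).trans ?_
      rw [cjS_zpowers, inv_inv]
      exact Subgroup.zpowers_le.mpr hgd
    have heq : cjS g⁻¹ F.Q = F.Q := le_antisymm
      (le_of_card_dvd_of_cyclic F.cyc hQP F.Q_le (by rw [card_cjS]))
      (le_of_card_dvd_of_cyclic F.cyc F.Q_le hQP (by rw [card_cjS]))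
    simpa using inv_mem (mem_normalizer_of_cjS_eq heq)
  · rw [commute_single_iff]
    intro x
    have h := congrArg (fun z : MonoidAlgebra (ResField M) G => z.coeff (g * x * g⁻¹)) (F.T'_stab hg).2
    simp only [coeff_cj] at h
    rw [← h]
    congr 1
    group
  · intro g hg hgT
    rw [heG, hι, incl_conj C (hNorm g hg), ← map_mul]
    set f' := irrEquiv (conjAut (hNorm g hg)) '' F.f with hf'
    have hblock : IsPBlock M f' := isPBlock_image_irrEquiv _ F.block_f
    have heq : MonoidAlgebra.domCongr (ResField M) (ResField M) (conjAut (hNorm g hg)) F.fK =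
        eK M f' := ga_ext fun x => by
      rw [MonoidAlgebra.coeff_domCongr, hf', fK, eK, eK, coeff_toK, coeff_toK]
      have h := coeffRes_image_irrEquiv (M := M) (conjAut (hNorm g hg)) F.f
        ((conjAut (hNorm g hg)).symm x)
      rw [MulEquiv.apply_symm_apply] at h
      exact h.symm
    rw [heq, incl_eq_emb, emb_mul]
    refine eG_mul_eq_zero F.hM F.block_f hblock fun hff => hgT (F.mem_T'_of hg ?_)
    refine (stabilizesBlock_iff F.hM hg F.block_f).mpr ?_
    refine ga_ext fun x => ?_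
    have h := congrArg (fun z : MonoidAlgebra (ResField M) G => z.coeff x)
      (incl_conj C (hNorm g hg) F.fK)
    rw [heq, ← hff, coeff_mul_single', coeff_single_mul', one_mul, mul_one, inv_inv] at h
    rw [coeff_cj, heG, hι, mul_assoc]
    exact h
  · rw [heG, hi₀, ← map_mul, F.fK_pt]
  · rw [heG, hi₀, ← map_mul, F.pt_fK]
  · rw [hNpow, F.eig_pow_card_mul_pt, map_zero]
  · rw [hNpow]
    exact fun h => F.eig_top (incl_injective C (h.trans (map_zero ι).symm))
  · intro x hx
    obtain ⟨x', rfl⟩ := exists_incl_eq C hx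
    obtain ⟨d, hd⟩ := F.corner_eig x'
    refine ⟨d, ?_⟩
    rw [hi₀, hι, ← map_mul, ← map_mul, hd, map_sum]
    exact Finset.sum_congr rfl fun j _ => by rw [map_smul, ← hι, ← hNpow j]
  · obtain ⟨m', a', b', ha', hb', hab'⟩ := hfull
    refine ⟨m', fun r => ι (a' r), fun r => ι (b' r), fun r => suppIn_incl C _, fun r => suppIn_incl C _,
      fun r => ?_, fun r => ?_, ?_⟩
    · rw [hi₀, ← map_mul, ha']
    · rw [hi₀, ← map_mul, hb']
    · simp only [← map_mul, ← map_sum]
      rw [heG, fK, ← hab']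
  · obtain ⟨bq, hbq⟩ := hform q
    have e : single F.t⁻¹ (1 : ResField M) * s₀ ^ q =
        single F.t⁻¹ 1 * ι bq * single F.t⁻¹⁻¹ 1 * single ((F.t ^ F.e) ^ m) 1 := by
      rw [hbq, mul_assoc (single F.t⁻¹ _ * ι bq), MonoidAlgebra.single_mul_single, one_mul, inv_inv,
        ← pow_mul, ← pow_succ', mul_assoc, show F.e * m + 1 = q by omega]
    rw [e]
    refine SuppIn.mul ?_ (suppIn_single (pow_mem hte m) 1)
    rw [hι, incl_conj C (inv_mem F.t_normalizes)]
    exact suppIn_incl C _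
  · obtain ⟨aq, haq⟩ := hform' q
    have e : s₀' ^ q * single F.t (1 : ResField M) =
        single ((F.t ^ F.e) ^ m)⁻¹ 1 * (single F.t⁻¹ 1 * ι aq * single F.t⁻¹⁻¹ 1) := by
      rw [haq, inv_inv, ← mul_assoc, ← mul_assoc, MonoidAlgebra.single_mul_single, one_mul,
        ← mul_inv_rev, ← pow_mul, ← pow_succ', show F.e * m + 1 = q by omega]
    rw [e]
    refine SuppIn.mul (suppIn_single (inv_mem (pow_mem hte m)) 1) ?_
    rw [hι, incl_conj C (inv_mem F.t_normalizes)]
    exact suppIn_incl C _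
  · rw [hsmN, hq, pow_add F.al, pow_one, pow_mul, F.al_pow_e, one_pow, mul_one]
  · rw [← pow_mul, mul_comm q, pow_mul, hwW, ← map_pow, show q = Nat.card F.P * l from hl,
      pow_mul, hWn, smul_pow, map_smul, smul_mul_assoc]
    congr 1
    rw [hi₀, ← map_mul]
    rcases Nat.eq_zero_or_pos l with h0 | h0
    · simp [h0]
    · rw [(show IsIdempotentElem F.pt from F.isPt_pt.idem).pow_eq h0.ne', F.isPt_pt.idem]
  · intro d hd
    have := (huD ⟨d, F.P_le_cq hd⟩ hd).map ι
    rwa [hι, incl_single] at this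
  · rw [heG, ← map_mul]; exact congrArg ι hfu
  · rw [heG, ← map_mul]; exact congrArg ι ((commute_eK (f := F.f) u).eq.symm.trans hfu)
  · rw [heG, fK, ← husum, map_sum]
    have hinv : ∀ (g : G) (d : F.P),
        single (g * d) (1 : ResField M) * ι u * single (g * (d : G))⁻¹ 1 =
          single g 1 * ι u * single g⁻¹ 1 := by
      intro g d
      have h : Commute (single (d : G) (1 : ResField M)) (ι u) := by
        have h := (huD ⟨d, F.P_le_cq d.2⟩ d.2).map ι
        rwa [hι, incl_single] at h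
      have hd : single (d : G) (1 : ResField M) * ι u * single (d : G)⁻¹ 1 = ι u := by
        rw [h.eq, mul_assoc, MonoidAlgebra.single_mul_single, mul_inv_cancel, one_mul,
          ← MonoidAlgebra.one_def, mul_one]
      conv_rhs => rw [← hd]
      simp only [← mul_assoc, MonoidAlgebra.single_mul_single, one_mul]
      simp only [mul_assoc, MonoidAlgebra.single_mul_single, one_mul, mul_inv_rev]
    let toG : C ⧸ F.D → G ⧸ F.P := Quotient.map' (fun x : C => (x : G)) fun x y hxy => by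
      rw [QuotientGroup.leftRel_apply] at hxy ⊢
      exact hxy
    have hout : ∀ x : C ⧸ F.D, ∃ d : F.P, (toG x).out = ((x.out : C) : G) * d := fun x => by
      have e : toG x = (((x.out : C) : G) : G ⧸ F.P) := by
        conv_lhs => rw [← QuotientGroup.out_eq' x]
        rfl
      rw [e]
      exact QuotientGroup.mk_out_eq_mul F.P _
    refine (Finset.sum_bij' (fun x _ => toG x)
      (fun y hy => (((⟨y.out, (Finset.mem_filter.mp hy).2⟩ : C)) : C ⧸ F.D))
      (fun x _ => ?_) (fun y hy => Finset.mem_univ _) (fun x _ => ?_) (fun y hy => ?_) fun x _ => ?_).symm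
    · obtain ⟨d, hd⟩ := hout x
      refine Finset.mem_filter.mpr ⟨Finset.mem_univ _, ?_⟩
      rw [hd]
      exact C.mul_mem (x.out).2 (F.P_le_cq d.2)
    · obtain ⟨d, hd⟩ := hout x
      conv_rhs => rw [← QuotientGroup.out_eq' x]
      rw [QuotientGroup.eq]
      refine Subgroup.mem_subgroupOf.mpr ?_
      push_cast
      rw [hd, mul_inv_rev, mul_assoc, inv_mul_cancel, mul_one]
      exact F.P.inv_mem d.2
    · exact QuotientGroup.out_eq' y
    · obtain ⟨d, hd⟩ := hout x
      rw [hd, hinv, map_mul, map_mul, hι, incl_single, incl_single]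
      rfl

end Frame

end CfsgLib.Block.CyclicDefect
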