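import Cfsg.Agent.Lib.Block.CyclicDefect.Pairs
import Cfsg.Agent.Lib.Block.CyclicDefect.Orbits
import Cfsg.Agent.Lib.Char.Induction

/-!
# The vectors of multiplicities

`wv i χ`, the difference of the multiplicities of the members with labels `i` and `0` in the
restriction of `χ` to `C(Q)`: integers, zero outside the block, with inner products `e + [same
orbit]`; they control the values of the block on the singular elements.
-/

open Finset MonoidAlgebra
open scoped ComplexConjugate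

set_option autoImplicit false
set_option linter.unusedSectionVars false

namespace CfsgLib.Block.CyclicDefect

open Cfsg CfsgLib.Block
open scoped Pair

universe u

variable {p : ℕ} {M : Ideal AlgInt} [M.IsMaximal] {G : Type u} [Group G] [Fintype G] [DecidableEq G]
  [Fintype (IrrCharacter G)]

namespace Frame

variable (F : Frame p M G) [Fintype (IrrCharacter (CQ F.Q))]

/-- The difference of two members of `f`. -/
noncomputable def phi (i : ZMod (Nat.card F.P)) : CQ F.Q → ℂ :=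
  fun x => (F.ηc i : CQ F.Q → ℂ) x - (F.ηc 0 : CQ F.Q → ℂ) x

theorem phi_regular (i : ZMod (Nat.card F.P)) {x : CQ F.Q} (hx : ¬ p ∣ orderOf x) :
    F.phi i x = 0 := by
  rw [phi, F.ηc_regular i 0 hx, sub_self]

/-- A difference lives on the sections of the non-trivial elements of `D`. -/
theorem exists_of_phi_ne_zero {i : ZMod (Nat.card F.P)} {x : CQ F.Q} (h : F.phi i x ≠ 0) :
    ∃ (y : F.D) (c : CQ F.Q), y ≠ 1 ∧ c * (y : CQ F.Q) * c⁻¹ = pPt F.hM x := by
  classical
  rw [phi, F.ηc_expand, F.ηc_expand, ← Finset.sum_sub_distrib] at h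
  obtain ⟨j, -, hj⟩ := Finset.exists_ne_zero_of_sum_ne_zero h
  refine F.exists_of_sec_ne_zero (j := j) (fun h0 => hj ?_) fun h0 => hj ?_
  · subst h0; simp
  · simp [secc, h0]

theorem mem_normalizer_of_phi {i j : ZMod (Nat.card F.P)} {x z : CQ F.Q} {g : G}
    (hi : F.phi i x ≠ 0) (hj : F.phi j z ≠ 0) (hz : (z : G) = g * (x : G) * g⁻¹) :
    g ∈ Subgroup.normalizer (F.Q : Set G) := by
  classical
  obtain ⟨y, c, hy, hc⟩ := F.exists_of_phi_ne_zero hi
  obtain ⟨y', c', hy', hc'⟩ := F.exists_of_phi_ne_zero hj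
  have hpp : g * ((pPt F.hM x : CQ F.Q) : G) * g⁻¹ = ((pPt F.hM z : CQ F.Q) : G) := by
    obtain ⟨s, hs, hxs⟩ := exists_regC F.hM x
    obtain ⟨s', hs', hzs⟩ := exists_regC F.hM z
    obtain ⟨hs1, hs2⟩ := mem_regC.mp hs
    obtain ⟨hs1', hs2'⟩ := mem_regC.mp hs'
    refine isPPart_unique F.prime (g := (z : G))
      ⟨g * (s : G) * g⁻¹, ?_, ?_, ?_, ?_⟩ ⟨(s' : G), ?_, ?_, ?_, ?_⟩
    · rw [hz]
      conv_rhs => rw [← hxs, Subgroup.coe_mul]
      group
    · exact (((mem_cq_zpowers_iff.mp hs1).symm.map (CQ F.Q).subtype).map (MulAut.conj g).toMonoidHom :)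
    · obtain ⟨k, hk⟩ := pPow_pPt F.hM x
      exact ⟨k, by rw [orderOf_conj_eq, Subgroup.orderOf_coe, hk]⟩
    · rwa [orderOf_conj_eq, Subgroup.orderOf_coe]
    · exact congrArg Subtype.val hzs
    · exact ((mem_cq_zpowers_iff.mp hs1').symm.map (CQ F.Q).subtype :)
    · obtain ⟨k, hk⟩ := pPow_pPt F.hM z
      exact ⟨k, by rw [Subgroup.orderOf_coe, hk]⟩
    · rwa [Subgroup.orderOf_coe]
  rw [← hc, ← hc'] at hpp
  push_cast at hpp
  have hyy : ((c' : G)⁻¹ * g * (c : G)) * ((y : CQ F.Q) : G) * ((c' : G)⁻¹ * g * (c : G))⁻¹ =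
      ((y' : CQ F.Q) : G) := by
    calc _ = (c' : G)⁻¹ * (g * ((c : G) * ((y : CQ F.Q) : G) * (c : G)⁻¹) * g⁻¹) * c' := by group
      _ = _ := by rw [hpp]; group
  set n := (c' : G)⁻¹ * g * (c : G) with hn
  have hle : cjS n F.Q ≤ F.P := (cjS_mono (F.Q_le_zpowers hy)).trans (by
    rw [cjS_zpowers, hyy]; exact Subgroup.zpowers_le.mpr y'.2)
  have heq : cjS n F.Q = F.Q := le_antisymm
    (le_of_card_dvd_of_cyclic F.cyc hle F.Q_le (by rw [card_cjS]))
    (le_of_card_dvd_of_cyclic F.cyc F.Q_le hle (by rw [card_cjS]))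
  have hnN := mem_normalizer_of_cjS_eq heq
  have hg : g = (c' : G) * n * (c : G)⁻¹ := by rw [hn]; group
  rw [hg]
  exact mul_mem (mul_mem (centralizer_le_normalizer' F.Q c'.2) hnN)
    (inv_mem (centralizer_le_normalizer' F.Q c.2))

/-- The vector of differences of multiplicities. -/
noncomputable def wv (i : ZMod (Nat.card F.P)) (χ : IrrCharacter G) : ℂ :=
  F.mult χ i - F.mult χ 0

theorem exists_int_wv (i : ZMod (Nat.card F.P)) (χ : IrrCharacter G) :
    ∃ m : ℤ, F.wv i χ = m := by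
  have hres := Char.isCharacter_comp (Char.isCharacter_irr χ) (CQ F.Q).subtype
  obtain ⟨a, ha⟩ := Char.classInner_isCharacter hres (Char.isCharacter_irr (F.ηc i))
  obtain ⟨b, hb⟩ := Char.classInner_isCharacter hres (Char.isCharacter_irr (F.ηc 0))
  refine ⟨(a : ℤ) - b, ?_⟩
  simp only [wv, mult]
  push_cast
  rw [← ha, ← hb]
  rfl

/-- The vectors, as integers. -/
noncomputable def wz (i : ZMod (Nat.card F.P)) (χ : IrrCharacter G) : ℤ :=
  (F.exists_int_wv i χ).choose

theorem coe_wz (i : ZMod (Nat.card F.P)) (χ : IrrCharacter G) : (F.wz i χ : ℂ) = F.wv i χ :=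
  (F.exists_int_wv i χ).choose_spec.symm

theorem wv_eq_inner (i : ZMod (Nat.card F.P)) (χ : IrrCharacter G) :
    F.wv i χ = classInner (indFun (CQ F.Q) (F.phi i)) (χ : G → ℂ) := by
  obtain ⟨m, hm⟩ := F.exists_int_wv i χ
  rw [Char.classInner_indFun _ _ _ (Char.isClassFunction_irr χ), ← Char.classInner_conj]
  have h : classInner (fun h : CQ F.Q => (χ : G → ℂ) h) (F.phi i) = F.wv i χ := by
    simp only [wv, mult, classInner, phi, map_sub, mul_sub, Finset.sum_sub_distrib]
  rw [h, hm, map_intCast]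

theorem indFun_phi_expand (i : ZMod (Nat.card F.P)) :
    indFun (CQ F.Q) (F.phi i) = ∑ χ : IrrCharacter G, F.wv i χ • (χ : G → ℂ) := by
  conv_lhs => rw [Char.classFun_expand (Char.isClassFunction_indFun (CQ F.Q) (F.phi i))]
  exact Finset.sum_congr rfl fun χ _ => by rw [wv_eq_inner]

/-- The vectors give relations on the regular elements. -/
theorem sum_wv_regular (i : ZMod (Nat.card F.P)) {g : G} (hg : ¬ p ∣ orderOf g) :
    ∑ χ : IrrCharacter G, F.wv i χ * (χ : G → ℂ) g = 0 := by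
  classical
  have h := congrFun (F.indFun_phi_expand i) g
  simp only [Finset.sum_apply, Pi.smul_apply, smul_eq_mul] at h
  rw [← h, indFun, mul_eq_zero]
  refine Or.inr (Finset.sum_eq_zero fun z _ => ?_)
  rw [Char.extendByZero_eq_ite]
  split_ifs with hz
  · refine F.phi_regular i ?_
    rw [← Subgroup.orderOf_coe]
    rwa [show ((⟨z⁻¹ * g * z, hz⟩ : CQ F.Q) : G) = z⁻¹ * g * z⁻¹⁻¹ by rw [inv_inv], orderOf_conj_eq]
  · rfl

theorem classInner_phi (i j : ZMod (Nat.card F.P)) :
    classInner (F.phi i) (F.phi j) =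
      (if i = j then (1 : ℂ) else 0) - (if i = 0 then 1 else 0) - (if (0 : ZMod (Nat.card F.P)) = j then 1 else 0) + 1 := by
  classical
  have hd : ∀ a b : ZMod (Nat.card F.P), classInner (F.ηc a : CQ F.Q → ℂ) (F.ηc b : CQ F.Q → ℂ) =
      if a = b then (1 : ℂ) else 0 := fun a b => by
    rw [Char.classInner_irr]
    simp [F.ηc_injective.eq_iff]
  have h : classInner (F.phi i) (F.phi j) =
      classInner (F.ηc i : CQ F.Q → ℂ) (F.ηc j) - classInner (F.ηc i : CQ F.Q → ℂ) (F.ηc 0) -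
        classInner (F.ηc 0 : CQ F.Q → ℂ) (F.ηc j) + classInner (F.ηc 0 : CQ F.Q → ℂ) (F.ηc 0) := by
    simp only [classInner, phi, sub_mul, mul_sub, map_sub, Finset.sum_sub_distrib]
    ring
  rw [h, hd, hd, hd, hd, if_pos rfl]

/-- Conjugates outside the stabilizer are orthogonal. -/
theorem classInner_conj_eq_zero {g : G} (hgN : g ∈ Subgroup.normalizer (F.Q : Set G))
    (hgT : g ∉ F.T') (i j : ZMod (Nat.card F.P))
    (hg : g ∈ Subgroup.normalizer (CQ F.Q : Set G)) :
    classInner (F.phi i) (fun x => F.phi j (conjAut hg x)) = 0 := by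
  classical
  set f' := irrEquiv (conjAut hg).symm '' F.f with hf'
  have hblock : IsPBlock M f' := isPBlock_image_irrEquiv _ F.block_f
  have hne : ∀ a b, F.ηc a ≠ irrEquiv (conjAut hg).symm (F.ηc b) := by
    intro a b hab
    have hff : f' = F.f := isPBlock_eq_of_mem hblock F.block_f ⟨_, F.ηc_mem b, hab.symm⟩ (F.ηc_mem a)
    have hst : StabilizesBlock (CQ F.Q) F.f g⁻¹ := by
      refine ⟨inv_mem hg, fun χ hχ => ⟨irrEquiv (conjAut hg).symm χ, hff ▸ ⟨χ, hχ, rfl⟩,
        fun k k' hk => ?_⟩⟩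
      rw [irrEquiv_apply, MulEquiv.symm_symm]
      refine congrArg (χ : CQ F.Q → ℂ) (Subtype.ext ?_)
      rw [coe_conjAut, hk]
      group
    exact hgT (by simpa using inv_mem (F.mem_T'_of (inv_mem hgN) hst))
  have h0 : ∀ a b, classInner (F.ηc a : CQ F.Q → ℂ)
      (fun x => (F.ηc b : CQ F.Q → ℂ) (conjAut hg x)) = 0 := fun a b => by
    rw [show (fun x => (F.ηc b : CQ F.Q → ℂ) (conjAut hg x)) =
      ((irrEquiv (conjAut hg).symm (F.ηc b) : IrrCharacter (CQ F.Q)) : CQ F.Q → ℂ) from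
        funext fun x => by rw [irrEquiv_apply, MulEquiv.symm_symm]]
    exact Char.classInner_irr_ne (hne a b)
  have hsplit : classInner (F.phi i) (fun x => F.phi j (conjAut hg x)) =
      classInner (F.ηc i : CQ F.Q → ℂ) (fun x => (F.ηc j : CQ F.Q → ℂ) (conjAut hg x)) -
      classInner (F.ηc i : CQ F.Q → ℂ) (fun x => (F.ηc 0 : CQ F.Q → ℂ) (conjAut hg x)) -
      classInner (F.ηc 0 : CQ F.Q → ℂ) (fun x => (F.ηc j : CQ F.Q → ℂ) (conjAut hg x)) +
      classInner (F.ηc 0 : CQ F.Q → ℂ) (fun x => (F.ηc 0 : CQ F.Q → ℂ) (conjAut hg x)) := by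
    simp only [classInner, phi, sub_mul, mul_sub, map_sub, Finset.sum_sub_distrib]
    ring
  rw [hsplit, h0, h0, h0, h0]
  ring

theorem phi_conj (l : ℕ) {g : G} (hg : (F.t ^ l)⁻¹ * g ∈ CQ F.Q) (i : ZMod (Nat.card F.P))
    (x y : CQ F.Q) (hy : (y : G) = g * (x : G) * g⁻¹) :
    F.phi i y = F.phi (F.r ^ l * i) x := by
  simp only [phi]
  rw [F.ηc_conj l hg i x y hy, F.ηc_conj l hg 0 x y hy, mul_zero]

/-- The inner products, over the stabilizer. -/
theorem sum_wv_mul (i j : ZMod (Nat.card F.P)) :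
    ∑ χ : IrrCharacter G, F.wv i χ * conj (F.wv j χ) =
      ∑ l ∈ Finset.range F.e, classInner (F.phi i) (F.phi (F.r ^ l * j)) := by
  classical
  have h1 : ∑ χ : IrrCharacter G, F.wv i χ * conj (F.wv j χ) =
      classInner (F.phi i) (fun x : (CQ F.Q) => indFun (CQ F.Q) (F.phi j) (x : G)) := by
    have hsum : classInner (indFun (CQ F.Q) (F.phi i)) (indFun (CQ F.Q) (F.phi j)) =
        ∑ χ : IrrCharacter G, F.wv i χ * conj (F.wv j χ) := by
      conv_lhs => arg 2; rw [F.indFun_phi_expand j]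
      simp only [classInner, Finset.sum_apply, Pi.smul_apply, smul_eq_mul, map_sum, map_mul,
        Finset.mul_sum]
      rw [Finset.sum_comm]
      refine Finset.sum_congr rfl fun χ _ => ?_
      rw [F.wv_eq_inner i χ, classInner, Finset.mul_sum, Finset.sum_mul]
      exact Finset.sum_congr rfl fun g _ => by ring
    rw [← hsum]
    exact Char.classInner_indFun (CQ F.Q) _ _ (Char.isClassFunction_indFun (CQ F.Q) _)
  rw [h1]
  have hind : ∀ x : (CQ F.Q), F.phi i x ≠ 0 → indFun (CQ F.Q) (F.phi j) (x : G) =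
      (Nat.card (CQ F.Q) : ℂ)⁻¹ * ∑ g ∈ Finset.univ.filter (· ∈ Subgroup.normalizer (F.Q : Set G)),
        extendByZero (CQ F.Q) (F.phi j) (g * (x : G) * g⁻¹) := by
    intro x hx
    rw [indFun]
    congr 1
    rw [Finset.sum_filter]
    refine Fintype.sum_equiv (Equiv.inv G) _ _ fun g => ?_
    simp only [Equiv.inv_apply, inv_inv]
    split_ifs with hg
    · rfl
    · rw [Char.extendByZero_eq_ite]
      split_ifs with hz
      swap
      · rfl
      by_contra hne
      exact hg (F.mem_normalizer_of_phi hx hne (g := g⁻¹) (by simp))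
  have hmem : ∀ g ∈ Subgroup.normalizer (F.Q : Set G), g ∈ Subgroup.normalizer ((CQ F.Q) : Set G) :=
    fun g hg => Subgroup.mem_normalizer_iff.mpr fun x => cq_conj_iff hg x
  have h2 : classInner (F.phi i) (fun x : (CQ F.Q) => indFun (CQ F.Q) (F.phi j) (x : G)) =
      (Nat.card (CQ F.Q) : ℂ)⁻¹ * ∑ g ∈ Finset.univ.filter (· ∈ Subgroup.normalizer (F.Q : Set G)),
        classInner (F.phi i) (fun x : (CQ F.Q) => extendByZero (CQ F.Q) (F.phi j) (g * (x : G) * g⁻¹)) := by
    simp only [classInner, Finset.mul_sum]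
    rw [Finset.sum_comm]
    refine Finset.sum_congr rfl fun x _ => ?_
    by_cases hx : F.phi i x = 0
    · simp [hx]
    rw [hind x hx, map_mul, map_inv₀, map_natCast, map_sum, Finset.mul_sum, Finset.mul_sum,
      Finset.mul_sum]
    exact Finset.sum_congr rfl fun g _ => by ring
  rw [h2]
  have hTN : ∀ g ∈ F.T', g ∈ Subgroup.normalizer (F.Q : Set G) := fun g hg => (F.T'_stab hg).1
  rw [← Finset.sum_subset (s₁ := Finset.univ.filter (· ∈ F.T'))
    (fun g hg => Finset.mem_filter.mpr ⟨Finset.mem_univ _, hTN g (Finset.mem_filter.mp hg).2⟩)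
    fun g hgN hgT => ?_]
  swap
  · simp only [Finset.mem_filter, Finset.mem_univ, true_and] at hgN hgT
    rw [← F.classInner_conj_eq_zero hgN hgT i j (hmem g hgN)]
    congr 1
    funext x
    exact Char.extendByZero_mem (CQ F.Q) _ ((cq_conj_iff hgN x).mp x.2)
  have hset : Finset.univ.filter (· ∈ F.T') =
      (Finset.range F.e ×ˢ (Finset.univ : Finset (CQ F.Q))).image (fun y => F.t ^ y.1 * (y.2 : G)) := by
    ext g
    simp only [Finset.mem_filter, Finset.mem_univ, true_and, Finset.mem_image, Finset.mem_product,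
      Finset.mem_range, and_true]
    refine ⟨fun hg => ?_, ?_⟩
    · obtain ⟨l, hl, h⟩ := F.cosets' hg
      exact ⟨(l, ⟨_, h⟩), hl, by simp⟩
    · rintro ⟨⟨l, c⟩, -, rfl⟩
      exact mul_mem (pow_mem (Subgroup.mem_sup_left F.t_mem) l) (Subgroup.mem_sup_right c.2)
  rw [hset, Finset.sum_image, Finset.sum_product]
  swap
  · rintro ⟨l, c⟩ hy ⟨l', c'⟩ hy' heq
    simp only [Finset.coe_product, Set.mem_prod, Finset.mem_coe, Finset.mem_range] at hy hy'
    dsimp only at heq
    have key : ∀ {a b : ℕ} {u v : (CQ F.Q)}, a ≤ b → b < F.e → F.t ^ a * (u : G) = F.t ^ b * (v : G) →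
        a = b := by
      intro a b u v hab hb h
      have h' : F.t ^ (b - a) = (u : G) * (v : G)⁻¹ := by
        rw [eq_mul_inv_iff_mul_eq]
        refine mul_left_cancel (a := F.t ^ a) ?_
        rw [← mul_assoc, ← pow_add, Nat.add_sub_cancel' hab, h]
      have := F.cosets_inj' (l := b - a) (by omega) (h' ▸ mul_mem u.2 (inv_mem v.2))
      omega
    have hll : l = l' := by
      rcases le_total l l' with h | h
      · exact key h hy'.1 heq
      · exact (key h hy.1 heq.symm).symm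
    subst hll
    exact Prod.ext rfl (Subtype.ext (mul_left_cancel heq))
  rw [Finset.mul_sum]
  refine Finset.sum_congr rfl fun l _ => ?_
  have hterm : ∀ c : (CQ F.Q), classInner (F.phi i)
      (fun x : (CQ F.Q) => extendByZero (CQ F.Q) (F.phi j) (F.t ^ l * (c : G) * (x : G) * (F.t ^ l * (c : G))⁻¹)) =
        classInner (F.phi i) (F.phi (F.r ^ l * j)) := by
    intro c
    congr 1
    funext x
    have hgN := hTN _ (mul_mem (pow_mem (Subgroup.mem_sup_left F.t_mem : F.t ∈ F.T') l)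
      (Subgroup.mem_sup_right c.2))
    rw [Char.extendByZero_mem (CQ F.Q) _ ((cq_conj_iff hgN x).mp x.2)]
    exact F.phi_conj l (by rw [inv_mul_cancel_left]; exact c.2) j x _ rfl
  rw [Finset.sum_congr rfl fun c _ => hterm c, Finset.sum_const, Finset.card_univ, nsmul_eq_mul,
    ← Nat.card_eq_fintype_card, ← mul_assoc,
    inv_mul_cancel₀ (Nat.cast_ne_zero.mpr Nat.card_pos.ne'), one_mul]

/-- The inner products of the vectors of the orbits. -/
theorem gram (o o' : F.Orb) :
    ∑ χ : IrrCharacter G, F.wz (F.rep o) χ * F.wz (F.rep o') χ =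
      (F.e : ℤ) + if o = o' then 1 else 0 := by
  classical
  have h := F.sum_wv_mul (F.rep o) (F.rep o')
  simp only [← coe_wz, map_intCast, classInner_phi, if_neg (F.rep_ne o)] at h
  have hne : ∀ l : ℕ, (0 : ZMod (Nat.card F.P)) ≠ F.r ^ l * F.rep o' := fun l h0 =>
    F.rep_ne o' (((F.r_unit).pow l).mul_right_eq_zero.mp h0.symm)
  have hcount : ∑ l ∈ Finset.range F.e, (if F.rep o = F.r ^ l * F.rep o' then (1 : ℂ) else 0) =
      if o = o' then 1 else 0 := by
    split_ifs with hoo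
    · subst hoo
      rw [Finset.sum_eq_single 0]
      · simp
      · intro l hl hl0
        rw [if_neg fun h => F.r_pow_ne (Nat.pos_of_ne_zero hl0) (Finset.mem_range.mp hl) (F.rep_ne o)
          h.symm]
      · exact fun h => absurd (Finset.mem_range.mpr F.e_pos) h
    · refine Finset.sum_eq_zero fun l hl => if_neg fun h => hoo ?_
      exact (F.rep_unique F.e_pos (Finset.mem_range.mp hl) (by rw [pow_zero, one_mul]; exact h)).1
  simp only [if_neg (hne _), sub_zero] at h
  rw [Finset.sum_add_distrib, hcount, Finset.sum_const, Finset.card_range, nsmul_eq_mul, mul_one] at h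
  have h' : ((∑ χ : IrrCharacter G, F.wz (F.rep o) χ * F.wz (F.rep o') χ : ℤ) : ℂ) =
      (((F.e : ℤ) + if o = o' then 1 else 0 : ℤ) : ℂ) := by
    push_cast
    rw [h]
    split_ifs <;> ring
  exact_mod_cast h'

/-- Vanishing of the non-trivial transforms makes the multiplicities constant. -/
theorem eq_of_transform (c : ZMod (Nat.card F.P) → ℂ)
    (h : ∀ j, j ≠ 0 → ∑ i, c i * zchar (Nat.card F.P) (i * j) = 0) (i k : ZMod (Nat.card F.P)) :
    c i = c k := by
  classical
  have key : ∀ i, (Nat.card F.P : ℂ) * c i = ∑ l, c l := fun i => by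
    have h1 : ∑ j, zchar (Nat.card F.P) (-(i * j)) * ∑ l, c l * zchar (Nat.card F.P) (l * j) =
        (Nat.card F.P : ℂ) * c i := by
      simp only [Finset.mul_sum]
      rw [Finset.sum_comm, Finset.sum_congr rfl (g := fun l : ZMod (Nat.card F.P) => c l *
        ∑ j, zchar (Nat.card F.P) (j * (l - i))) fun l _ => by
        rw [Finset.mul_sum]
        refine Finset.sum_congr rfl fun j _ => ?_
        rw [mul_sub, sub_eq_add_neg, AddChar.map_add_eq_mul, mul_comm j l, mul_comm j i]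
        ring]
      simp only [zchar_sum, sub_eq_zero, mul_ite, mul_zero, Finset.sum_ite_eq', Finset.mem_univ,
        if_true]
      ring
    rw [← h1, Finset.sum_eq_single 0]
    · simp
    · intro j _ hj; rw [h j hj, mul_zero]
    · simp
  exact mul_left_cancel₀ (Nat.cast_ne_zero.mpr Nat.card_pos.ne') ((key i).trans (key k).symm)

theorem exists_idx_eq (j : ZMod (Nat.card F.P)) : ∃ y : F.D, F.idx (F.toP y) = j :=
  ⟨F.genD ^ j.val, by rw [F.idx_toP_pow, F.idx_genD, mul_one, ZMod.natCast_zmod_val]⟩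

theorem regC_coe {y s : CQ F.Q} : s ∈ regC p y ↔ (s : G) ∈ regC p (y : G) := by
  rw [mem_regC, mem_regC, F.mem_cq_zpowers_coe, Subgroup.orderOf_coe]

theorem ppow_coe (y : F.D) : ∃ k : ℕ, orderOf ((y : CQ F.Q) : G) = p ^ k :=
  exists_pElement_orderOf F.hmax.1.1 (F.toP y) F.prime

theorem lowG_pairsAt (y : F.D) : F.lowG y ∈ pairsAt M ((y : CQ F.Q) : G) :=
  mem_pairsAt.mpr ⟨lowPair_fst F.hM F.hmax.1.1 _, isPBlock_lowPair F.hM F.hmax.1.1 _⟩

/-- Outside the block the vectors vanish. -/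
theorem wv_eq_zero {χ : IrrCharacter G} (hχ : χ ∉ F.B) (i : ZMod (Nat.card F.P)) : F.wv i χ = 0 := by
  classical
  refine sub_eq_zero.mpr (F.eq_of_transform (F.mult χ) (fun j hj => ?_) i 0)
  obtain ⟨y, hy⟩ := F.exists_idx_eq j
  have hy1 : y ≠ 1 := fun h => hj (by rw [← hy, h, show F.toP 1 = 1 from rfl, F.idx_one])
  obtain ⟨s, hs, hne⟩ := F.exists_basePart_ne_zero y
  have h := F.secPart_restrict hy1 hs χ
  rw [secPart_eq_zero_of_not_mem F.hM hχ (F.ppow_coe y) (F.lowG_pairsAt y) (F.regC_coe.mp hs)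
    (lowPair_pairOf F.hM F.hmax _), hy] at h
  exact (mul_eq_zero.mp h.symm).resolve_right hne

/-- In the block some vector does not vanish. -/
theorem exists_wv_ne_zero {χ : IrrCharacter G} (hχ : χ ∈ F.B) : ∃ i, F.wv i χ ≠ 0 := by
  classical
  haveI : Fact (1 < Nat.card F.P) := ⟨F.one_lt_card⟩
  by_contra hall
  push Not at hall
  have hgen : F.genD ≠ 1 := fun h => one_ne_zero (α := ZMod (Nat.card F.P)) (by
    rw [← F.idx_genD, h, show F.toP 1 = 1 from rfl, F.idx_one])
  obtain ⟨s, hs, hne⟩ := exists_secPart_ne_zero_of_center F.hM F.hmax hχ (y := F.toP F.genD)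
    (Subgroup.mem_center_iff.mpr fun v => Subtype.ext (F.P_comm v.2 (F.toP F.genD).2).eq)
  have hsC : s ∈ CQ F.Q := F.cq_zpowers_le hgen (mem_regC.mp hs).1
  refine hne ?_
  have h := F.secPart_restrict hgen (s := ⟨s, hsC⟩) (F.regC_coe.mpr hs) χ
  rw [Finset.sum_congr rfl (g := fun i => F.mult χ 0 * zchar (Nat.card F.P) (i * F.idx (F.toP F.genD)))
    fun i _ => by rw [sub_eq_zero.mp (hall i)], ← Finset.mul_sum, zchar_sum,
    if_neg (by rw [idx_genD]; exact one_ne_zero), mul_zero, zero_mul] at h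
  exact h

/-- A combination of the block with vanishing vectors vanishes on the singular elements. -/
theorem vanish_singular (a : IrrCharacter G → ℂ) (ha : ∀ χ, χ ∉ F.B → a χ = 0)
    (hw : ∀ i, ∑ χ, a χ * F.wv i χ = 0) {g : G} (hg : p ∣ orderOf g) :
    ∑ χ, a χ * (χ : G → ℂ) g = 0 := by
  classical
  obtain ⟨s, hs, hgs⟩ := exists_regC F.hM g
  set u := pPt F.hM g with hu
  have hupow := pPow_pPt F.hM g
  have hu1 : u ≠ 1 := fun h => (mem_regC.mp hs).2 (by
    rw [show s = g by rw [← hgs, h, one_mul]]; exact hg)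
  conv_lhs => rw [← hgs]
  rw [Finset.sum_congr rfl fun χ _ => by rw [apply_eq_sum_secPart F.hM χ hupow hs, Finset.mul_sum],
    Finset.sum_comm]
  refine Finset.sum_eq_zero fun b hb => ?_
  obtain ⟨h1, h2⟩ := mem_pairsAt.mp hb
  by_cases hof : IsBrauerPairOf p M F.B b.1 b.2
  swap
  · refine Finset.sum_eq_zero fun χ _ => ?_
    by_cases hχ : χ ∈ F.B
    · rw [secPart_eq_zero_of_not_pairOf F.hM F.hB hχ hupow hb hs hof, mul_zero]
    · rw [ha χ hχ, zero_mul]
  obtain ⟨x, hx⟩ := exists_conj_subpairLE F.hM F.hmax hof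
  have hxu : x * u * x⁻¹ ∈ F.P := SubpairLE.le hx (conj_mem_cjS.mpr (h1 ▸ Subgroup.mem_zpowers u))
  set y : F.D := ⟨⟨x * u * x⁻¹, F.P_le_cq hxu⟩, hxu⟩ with hy
  have hy1 : y ≠ 1 := fun h => hu1 (by
    have h' : x * u * x⁻¹ = 1 := congrArg (fun z : F.D => ((z : CQ F.Q) : G)) h
    simpa using h')
  have hlow : cjP x b = F.lowG y :=
    below_ext F.hM F.hmax.1.1 (show Below p M F.P F.c (cjP x b) from hx)
      (lowPair_below F.hM F.hmax.1.1 _)
      (show cjS x b.1 = Subgroup.zpowers (x * u * x⁻¹) by rw [h1, cjS_zpowers])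
  obtain ⟨hs1, hs2⟩ := mem_regC.mp hs
  have hs' : x * s * x⁻¹ ∈ regC p ((y : CQ F.Q) : G) :=
    mem_regC.mpr ⟨mem_cq_zpowers_iff.mpr
      (((mem_cq_zpowers_iff.mp hs1).map (MulAut.conj x).toMonoidHom) :),
      by rwa [orderOf_conj_eq]⟩
  have hsC : x * s * x⁻¹ ∈ CQ F.Q := F.cq_zpowers_le hy1 (mem_regC.mp hs').1
  have hsec : ∀ χ : IrrCharacter G, secPart χ u b s =
      (∑ i, F.mult χ i * zchar (Nat.card F.P) (i * F.idx (F.toP y))) *
        F.basePart y ⟨_, hsC⟩ := fun χ => by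
    rw [← secPart_cjP χ x u b s, hlow]
    exact F.secPart_restrict hy1 (s := ⟨_, hsC⟩) (F.regC_coe.mpr hs') χ
  set j := F.idx (F.toP y) with hj
  have hj0 : j ≠ 0 := fun h => hy1 (F.toP_injective (F.idx_injective (h.trans F.idx_one.symm)))
  calc ∑ χ, a χ * secPart χ u b s
      = ∑ χ, (a χ * ∑ i, F.mult χ i * zchar (Nat.card F.P) (i * j)) * F.basePart y ⟨_, hsC⟩ :=
        Finset.sum_congr rfl fun χ _ => by rw [hsec χ]; exact (mul_assoc _ _ _).symm
    _ = (∑ χ, a χ * ∑ i, F.mult χ i * zchar (Nat.card F.P) (i * j)) * F.basePart y ⟨_, hsC⟩ := by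
        rw [Finset.sum_mul]
    _ = (∑ i, (∑ χ, a χ * F.mult χ i) * zchar (Nat.card F.P) (i * j)) * F.basePart y ⟨_, hsC⟩ := by
        congr 1
        simp only [Finset.mul_sum, Finset.sum_mul, mul_assoc]
        exact Finset.sum_comm
    _ = 0 := by
        have hconst : ∀ i, ∑ χ, a χ * F.mult χ i = ∑ χ, a χ * F.mult χ 0 := fun i => by
          have := hw i
          simp only [wv, mul_sub, Finset.sum_sub_distrib, sub_eq_zero] at this
          exact this
        rw [Finset.sum_congr rfl fun i _ => by rw [hconst i], ← Finset.mul_sum, zchar_sum,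
          if_neg hj0, mul_zero, zero_mul]

end Frame

end CfsgLib.Block.CyclicDefect
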